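import Cfsg.Agent.Lib.H16.U62M.P2.Data

set_option autoImplicit false
set_option maxRecDepth 100000

/-! # Word lists of the certificate (generated) -/

namespace Cfsg.Agent.Lib.H16.U62M.P2

open Cfsg.Agent.Lib.H17.CosetCert (BT WT)
open Cfsg.Agent.Lib.H17.MonoCert
open Cfsg.Agent.Lib.H16.G24M

/-- the exact relators -/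
def exactL : List (List ℕ) := [[0, 0, 0, 0, 0, 0, 0, 0, 0, 0, 0], [2, 2, 2, 2, 2], [2, 0, 3, 1, 1, 1], [4, 4, 4, 4, 4, 4, 4, 4, 4, 4, 4], [0, 0, 0, 0, 3, 1, 2], [0, 0, 0, 3, 0, 0, 2], [0, 0, 2, 2, 0, 3, 3], [0, 2, 0, 3, 3, 1, 2], [0, 2, 1, 2, 1, 3, 3], [0, 0, 2, 2, 0, 2, 2, 2], [0, 0, 3, 0, 3, 0, 2, 2], [0, 0, 3, 3, 0, 2, 0, 2], [0, 0, 3, 3, 3, 0, 3, 3], [0, 2, 0, 2, 2, 2, 1, 2], [0, 2, 0, 3, 1, 2, 1, 3], [0, 2, 1, 2, 1, 2, 2, 2], [0, 4, 0, 4, 0, 4, 0, 4], [0, 0, 2, 0, 3, 1, 3, 1, 2], [0, 5, 0, 5, 0, 5, 0, 5, 0, 5], [0, 4, 1, 5, 0, 4, 1, 5, 0, 4, 1, 5], [0, 0, 0, 4, 3, 4, 2, 5, 3, 4, 1, 4, 4], [0, 0, 4, 4, 4, 4, 1, 4, 3, 1, 2, 5, 5],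 [0, 0, 5, 5, 3, 1, 2, 4, 1, 4, 4, 4, 4], [0, 3, 4, 3, 4, 2, 5, 3, 4, 1, 4, 4, 2], [0, 0, 0, 0, 4, 4, 1, 1, 5, 5, 5, 5, 0, 5], [0, 0, 0, 0, 5, 0, 5, 5, 5, 5, 1, 1, 4, 4], [0, 0, 2, 5, 5, 0, 5, 2, 4, 3, 5, 2, 5, 3], [0, 0, 2, 5, 5, 5, 0, 4, 3, 0, 4, 4, 0, 4], [0, 0, 4, 1, 1, 5, 2, 0, 2, 5, 5, 2, 2, 4], [0, 0, 4, 1, 4, 3, 3, 4, 0, 3, 3, 4, 2, 4], [0, 0, 4, 2, 2, 4, 4, 2, 0, 2, 5, 1, 1, 5], [0, 0, 4, 4, 4, 4, 1, 4, 1, 2, 1, 3, 5, 5], [0, 0, 4, 4, 4, 4, 1, 4, 2, 1, 3, 1, 5, 5], [0, 0, 5, 5, 1, 2, 1, 3, 4, 1, 4, 4, 4, 4], [0, 0, 5, 5, 2, 1, 3, 1, 4, 1, 4, 4, 4, 4], [0, 2, 4, 3, 4, 2, 5, 3, 4, 1, 4, 4, 1, 3], [0, 2, 5, 5, 5, 0, 4, 3, 0, 4,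 1, 5, 1, 5], [0, 3, 0, 4, 0, 4, 4, 1, 2, 4, 0, 5, 5, 5], [0, 3, 5, 1, 5, 1, 4, 1, 2, 4, 0, 5, 5, 5], [0, 4, 1, 2, 0, 5, 5, 5, 0, 4, 3, 0, 4, 4], [0, 0, 0, 3, 5, 1, 5, 5, 1, 2, 5, 1, 4, 4, 4], [0, 0, 0, 4, 0, 5, 2, 4, 3, 5, 0, 0, 5, 2, 4], [0, 0, 0, 4, 1, 1, 5, 2, 4, 4, 4, 1, 4, 1, 5], [0, 0, 2, 2, 5, 2, 2, 5, 0, 5, 1, 1, 5, 3, 5], [0, 0, 2, 4, 1, 4, 4, 4, 4, 0, 0, 5, 5, 1, 3], [0, 0, 3, 0, 4, 1, 4, 4, 4, 4, 0, 0, 5, 5, 2], [0, 0, 3, 3, 4, 4, 1, 4, 2, 0, 5, 5, 1, 1, 5], [0, 0, 3, 4, 2, 5, 2, 5, 0, 5, 3, 1, 4, 4, 3], [0, 0, 3, 5, 2, 2, 0, 4, 4, 1, 5, 1, 4, 4, 3], [0, 0, 3, 5, 5, 0, 0, 4, 4, 4, 4, 1, 4, 0, 2], [0, 0, 4, 0, 3, 3, 1, 5, 5,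 3, 3, 5, 1, 1, 4], [0, 0, 4, 1, 1, 5, 0, 2, 2, 1, 5, 5, 2, 2, 4], [0, 0, 4, 1, 1, 5, 2, 0, 2, 5, 5, 3, 3, 3, 4], [0, 0, 4, 1, 4, 2, 2, 2, 4, 0, 3, 3, 4, 2, 4], [0, 0, 4, 1, 4, 3, 3, 4, 0, 2, 2, 2, 4, 2, 4], [0, 0, 4, 3, 1, 3, 5, 5, 2, 2, 2, 5, 1, 1, 4], [0, 0, 4, 3, 3, 0, 5, 5, 0, 5, 2, 0, 0, 4, 4], [0, 0, 4, 4, 1, 3, 5, 0, 5, 5, 0, 2, 0, 2, 4], [0, 0, 4, 4, 1, 3, 5, 0, 5, 5, 3, 0, 3, 3, 4], [0, 0, 4, 4, 4, 1, 5, 3, 0, 5, 5, 1, 5, 0, 2], [0, 0, 5, 2, 1, 3, 4, 0, 5, 0, 5, 5, 5, 3, 4], [0, 0, 5, 2, 4, 2, 0, 3, 4, 0, 5, 2, 4, 3, 5], [0, 0, 5, 3, 4, 1, 4, 1, 2, 1, 5, 1, 2, 5, 2], [0, 0, 5, 3, 4, 2, 4, 1, 3, 4, 1, 5, 0, 2, 5], [0, 0, 5, 3,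 5, 0, 2, 5, 5, 0, 2, 2, 5, 1, 4], [0, 0, 5, 5, 1, 3, 1, 2, 0, 4, 1, 4, 4, 4, 4], [0, 2, 1, 5, 5, 0, 4, 0, 5, 5, 1, 3, 3, 4, 2], [0, 2, 4, 0, 4, 4, 1, 2, 4, 0, 5, 5, 5, 3, 3], [0, 2, 4, 1, 4, 3, 4, 3, 5, 3, 3, 0, 3, 5, 5], [0, 2, 4, 2, 5, 0, 2, 4, 2, 5, 0, 2, 4, 2, 5], [0, 2, 4, 4, 2, 1, 3, 0, 5, 5, 5, 5, 0, 5, 3], [0, 2, 5, 0, 5, 5, 5, 5, 2, 1, 3, 0, 4, 4, 3], [0, 2, 5, 1, 4, 4, 2, 1, 2, 4, 3, 4, 4, 1, 4], [0, 2, 5, 5, 0, 5, 5, 3, 4, 0, 4, 2, 5, 5, 2], [0, 2, 5, 5, 2, 2, 4, 1, 4, 0, 5, 0, 5, 5, 5], [0, 3, 3, 5, 5, 0, 5, 1, 2, 2, 5, 5, 3, 4, 4], [0, 3, 4, 2, 5, 3, 4, 0, 4, 4, 4, 0, 5, 0, 5], [0, 3, 4, 3, 4, 2, 1, 5, 3, 3, 4, 4, 4, 4,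 4], [0, 3, 5, 5, 0, 4, 0, 5, 5, 1, 3, 3, 4, 3, 3], [0, 4, 4, 1, 2, 4, 3, 5, 5, 1, 4, 4, 2, 5, 2], [0, 4, 4, 4, 4, 1, 4, 1, 4, 3, 4, 2, 5, 3, 4], [0, 5, 5, 2, 4, 4, 2, 5, 5, 3, 5, 3, 3, 4, 4], [0, 0, 0, 0, 4, 4, 0, 2, 1, 3, 5, 5, 5, 5, 0, 5], [0, 0, 0, 0, 5, 0, 5, 5, 5, 5, 2, 1, 3, 0, 4, 4], [0, 0, 0, 4, 0, 3, 1, 5, 2, 4, 0, 0, 0, 4, 4, 4], [0, 0, 0, 4, 0, 3, 1, 5, 2, 4, 2, 0, 3, 4, 4, 4], [0, 0, 0, 4, 1, 4, 1, 4, 1, 5, 5, 5, 1, 1, 4, 4], [0, 0, 0, 4, 2, 2, 2, 2, 4, 2, 5, 3, 4, 1, 4, 4], [0, 0, 0, 4, 3, 0, 0, 5, 2, 4, 0, 0, 0, 4, 4, 4], [0, 0, 0, 4, 3, 4, 2, 5, 2, 2, 2, 2, 4, 1, 4, 4], [0, 0, 0, 4, 3, 4, 3, 3, 3, 3, 5, 3, 4, 1, 4, 4],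 [0, 0, 0, 4, 4, 1, 1, 5, 5, 5, 1, 4, 1, 4, 1, 4], [0, 0, 0, 4, 4, 4, 2, 0, 3, 4, 0, 3, 1, 5, 2, 4], [0, 0, 0, 5, 1, 5, 1, 4, 1, 2, 4, 0, 5, 5, 5, 3], [0, 0, 0, 5, 2, 0, 4, 4, 1, 1, 5, 1, 4, 3, 5, 5], [0, 0, 0, 5, 2, 5, 2, 5, 3, 1, 2, 5, 5, 5, 1, 5], [0, 0, 0, 5, 5, 0, 2, 4, 1, 4, 3, 4, 3, 5, 2, 2], [0, 0, 2, 0, 2, 5, 5, 0, 2, 4, 1, 4, 3, 4, 3, 5], [0, 0, 2, 1, 4, 0, 5, 5, 5, 0, 3, 5, 1, 5, 1, 4], [0, 0, 2, 1, 5, 1, 4, 4, 4, 1, 3, 0, 5, 1, 5, 5], [0, 0, 2, 1, 5, 1, 4, 4, 4, 3, 1, 4, 0, 4, 0, 5], [0, 0, 2, 4, 0, 5, 0, 5, 5, 5, 3, 4, 0, 0, 5, 3], [0, 0, 2, 4, 1, 2, 4, 2, 0, 4, 0, 3, 1, 5, 0, 5], [0, 0, 2, 4, 1, 2, 4, 2, 0, 4, 3, 0, 0, 5,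 0, 5], [0, 0, 2, 4, 1, 5, 2, 5, 2, 4, 2, 1, 4, 1, 4, 4], [0, 0, 2, 4, 2, 0, 4, 3, 4, 0, 5, 5, 0, 0, 3, 4], [0, 0, 2, 4, 3, 4, 3, 3, 4, 1, 4, 3, 0, 5, 0, 4], [0, 0, 3, 1, 4, 1, 4, 4, 1, 2, 2, 5, 1, 1, 5, 5], [0, 0, 3, 1, 4, 3, 0, 4, 0, 3, 0, 5, 0, 5, 2, 4], [0, 0, 3, 3, 0, 4, 0, 0, 5, 1, 1, 5, 3, 3, 4, 4], [0, 0, 3, 3, 1, 4, 2, 5, 2, 5, 0, 5, 3, 1, 4, 4], [0, 0, 3, 4, 0, 0, 5, 1, 1, 5, 3, 3, 4, 4, 1, 3], [0, 0, 3, 4, 1, 2, 0, 4, 2, 0, 4, 3, 4, 0, 5, 5], [0, 0, 3, 4, 1, 4, 2, 5, 3, 1, 3, 5, 2, 4, 2, 5], [0, 0, 3, 4, 4, 0, 0, 4, 3, 0, 2, 5, 5, 2, 4, 4], [0, 0, 3, 4, 4, 3, 5, 0, 5, 1, 5, 1, 4, 1, 4, 3], [0, 0, 3, 5, 2, 0, 0, 5, 5, 1, 3,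 5, 0, 2, 0, 5], [0, 0, 4, 0, 3, 0, 3, 5, 5, 0, 5, 2, 0, 0, 4, 4], [0, 0, 4, 0, 4, 1, 2, 5, 3, 0, 4, 0, 4, 2, 4, 3], [0, 0, 4, 0, 4, 1, 2, 5, 3, 5, 1, 5, 1, 2, 4, 3], [0, 0, 4, 0, 4, 2, 4, 3, 0, 2, 4, 3, 0, 2, 4, 3], [0, 0, 4, 0, 4, 4, 1, 4, 0, 3, 1, 3, 4, 4, 3, 5], [0, 0, 4, 1, 1, 3, 3, 4, 3, 4, 2, 5, 0, 0, 4, 4], [0, 0, 4, 1, 1, 5, 3, 3, 0, 3, 0, 5, 5, 2, 2, 4], [0, 0, 4, 1, 3, 3, 1, 5, 5, 0, 5, 2, 0, 0, 4, 4], [0, 0, 4, 1, 4, 4, 1, 2, 2, 5, 1, 1, 5, 5, 0, 3], [0, 0, 4, 1, 5, 0, 4, 1, 5, 0, 4, 4, 0, 4, 0, 4], [0, 0, 4, 1, 5, 5, 1, 1, 5, 5, 1, 4, 0, 0, 4, 4], [0, 0, 4, 2, 0, 2, 1, 5, 5, 0, 4, 0, 5, 5, 3, 3], [0, 0, 4, 2, 1, 3, 0, 5,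 2, 0, 2, 5, 5, 2, 2, 4], [0, 0, 4, 2, 1, 4, 1, 4, 2, 0, 4, 4, 2, 0, 0, 5], [0, 0, 4, 2, 2, 0, 2, 4, 3, 4, 2, 5, 0, 0, 4, 4], [0, 0, 4, 2, 2, 2, 0, 5, 5, 0, 5, 2, 0, 0, 4, 4], [0, 0, 4, 2, 2, 4, 4, 2, 0, 2, 5, 0, 2, 1, 3, 5], [0, 0, 4, 2, 4, 0, 4, 1, 1, 4, 4, 2, 4, 2, 0, 5], [0, 0, 4, 3, 0, 3, 0, 4, 3, 4, 2, 5, 0, 0, 4, 4], [0, 0, 4, 3, 0, 4, 0, 3, 0, 5, 0, 5, 2, 4, 0, 3], [0, 0, 4, 3, 4, 4, 1, 3, 3, 5, 0, 4, 4, 2, 5, 2], [0, 0, 4, 3, 4, 4, 2, 5, 5, 1, 1, 3, 3, 5, 3, 5], [0, 0, 4, 3, 4, 4, 2, 5, 5, 2, 2, 0, 2, 5, 3, 5], [0, 0, 4, 3, 4, 4, 2, 5, 5, 3, 0, 3, 0, 5, 3, 5], [0, 0, 4, 3, 5, 2, 4, 4, 2, 2, 0, 4, 4, 0, 3, 4], [0, 0, 4, 4, 1,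 3, 3, 4, 3, 4, 2, 5, 5, 0, 4, 4], [0, 0, 4, 4, 1, 3, 5, 0, 5, 5, 1, 3, 3, 0, 3, 4], [0, 0, 4, 4, 1, 3, 5, 0, 5, 5, 3, 0, 2, 2, 2, 4], [0, 0, 4, 4, 1, 3, 5, 0, 5, 5, 3, 3, 1, 3, 0, 4], [0, 0, 4, 4, 1, 5, 5, 1, 4, 4, 1, 3, 4, 1, 4, 2], [0, 0, 4, 4, 3, 3, 1, 5, 5, 0, 5, 2, 5, 0, 4, 4], [0, 0, 4, 4, 3, 4, 4, 4, 2, 4, 0, 2, 4, 2, 5, 3], [0, 0, 5, 0, 2, 1, 3, 5, 3, 3, 4, 4, 3, 1, 3, 4], [0, 0, 5, 0, 3, 0, 4, 3, 4, 1, 2, 2, 5, 0, 3, 4], [0, 0, 5, 0, 5, 3, 5, 5, 2, 5, 0, 5, 3, 3, 0, 4], [0, 0, 5, 1, 2, 5, 2, 0, 0, 5, 3, 4, 1, 4, 0, 2], [0, 0, 5, 1, 3, 4, 4, 1, 1, 3, 4, 1, 4, 3, 1, 4], [0, 0, 5, 1, 4, 1, 4, 0, 5, 5, 0, 4, 1, 4, 1, 5], [0, 0,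 5, 1, 4, 3, 3, 5, 1, 2, 4, 1, 4, 3, 5, 5], [0, 0, 5, 2, 1, 3, 0, 5, 3, 3, 4, 4, 3, 1, 3, 4], [0, 0, 5, 2, 4, 2, 2, 0, 4, 1, 4, 3, 4, 3, 1, 4], [0, 0, 5, 3, 1, 5, 2, 5, 3, 4, 3, 1, 4, 0, 5, 3], [0, 0, 5, 3, 4, 1, 4, 2, 4, 1, 5, 5, 0, 3, 5, 3], [0, 0, 5, 3, 4, 1, 4, 3, 1, 2, 2, 5, 1, 2, 5, 2], [0, 0, 5, 3, 5, 0, 2, 5, 5, 1, 2, 2, 1, 5, 1, 4], [0, 0, 5, 5, 1, 3, 4, 2, 1, 3, 4, 4, 2, 5, 0, 4], [0, 0, 5, 5, 3, 1, 2, 4, 1, 5, 5, 5, 5, 5, 5, 5], [0, 0, 5, 5, 5, 5, 0, 5, 3, 0, 2, 4, 4, 3, 1, 2], [0, 0, 5, 5, 5, 5, 5, 5, 5, 1, 4, 3, 1, 2, 5, 5], [0, 2, 0, 3, 5, 0, 5, 5, 5, 5, 2, 1, 3, 0, 4, 4], [0, 2, 0, 4, 3, 5, 3, 0, 4, 1, 5, 5, 3, 0, 2, 5],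 [0, 2, 0, 5, 5, 1, 3, 3, 4, 3, 4, 3, 4, 4, 1, 4], [0, 2, 1, 2, 4, 4, 1, 5, 1, 4, 4, 0, 3, 1, 3, 5], [0, 2, 1, 4, 1, 5, 0, 2, 5, 2, 4, 3, 4, 0, 2, 4], [0, 2, 1, 4, 2, 1, 4, 4, 0, 5, 3, 5, 0, 5, 2, 4], [0, 2, 1, 4, 3, 5, 3, 1, 5, 3, 5, 5, 5, 2, 5, 5], [0, 2, 1, 5, 0, 5, 0, 4, 0, 4, 1, 4, 2, 5, 5, 2], [0, 2, 1, 5, 1, 3, 5, 3, 0, 5, 1, 3, 0, 4, 1, 4], [0, 2, 1, 5, 3, 0, 4, 0, 4, 2, 4, 3, 0, 5, 1, 5], [0, 2, 1, 5, 3, 1, 2, 5, 3, 1, 2, 5, 3, 5, 1, 5], [0, 2, 1, 5, 3, 5, 1, 5, 1, 2, 4, 3, 0, 5, 1, 5], [0, 2, 2, 0, 4, 2, 5, 2, 5, 0, 5, 3, 1, 4, 4, 2], [0, 2, 2, 0, 5, 5, 3, 4, 4, 0, 3, 3, 5, 5, 0, 5], [0, 2, 2, 1, 5, 5, 0, 5, 5, 3, 4, 0, 4, 2,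 5, 5], [0, 2, 2, 5, 0, 4, 2, 5, 5, 3, 5, 2, 0, 5, 0, 5], [0, 2, 4, 0, 4, 1, 2, 4, 4, 2, 4, 0, 4, 2, 5, 5], [0, 2, 4, 1, 2, 4, 2, 0, 4, 3, 0, 4, 1, 4, 1, 4], [0, 2, 4, 1, 4, 3, 4, 3, 5, 1, 2, 1, 2, 0, 5, 5], [0, 2, 4, 1, 4, 3, 4, 3, 5, 3, 1, 3, 3, 0, 5, 5], [0, 2, 4, 2, 2, 4, 4, 3, 4, 4, 4, 4, 1, 5, 0, 5], [0, 2, 4, 3, 0, 2, 4, 3, 0, 5, 1, 5, 1, 2, 4, 3], [0, 2, 4, 3, 4, 3, 4, 2, 1, 3, 4, 0, 4, 4, 4, 3], [0, 2, 4, 3, 5, 3, 4, 3, 0, 5, 5, 5, 5, 3, 0, 4], [0, 2, 4, 4, 1, 5, 0, 5, 2, 2, 0, 4, 0, 3, 3, 5], [0, 2, 5, 0, 5, 1, 4, 1, 4, 4, 4, 2, 1, 4, 4, 2], [0, 2, 5, 1, 4, 4, 1, 2, 2, 0, 4, 3, 4, 4, 1, 4], [0, 2, 5, 2, 2, 0, 4, 4, 1, 5, 1,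 4, 4, 1, 2, 2], [0, 2, 5, 3, 5, 1, 5, 0, 3, 0, 4, 1, 4, 2, 4, 4], [0, 2, 5, 5, 2, 4, 4, 3, 3, 0, 4, 1, 4, 4, 1, 2], [0, 2, 5, 5, 2, 5, 2, 2, 1, 5, 2, 2, 5, 1, 5, 2], [0, 3, 0, 3, 4, 1, 4, 4, 2, 2, 1, 5, 5, 2, 4, 4], [0, 3, 0, 4, 0, 4, 2, 1, 4, 2, 0, 4, 0, 4, 3, 5], [0, 3, 0, 4, 3, 5, 2, 5, 1, 2, 2, 5, 5, 2, 4, 4], [0, 3, 0, 5, 2, 2, 0, 4, 4, 1, 5, 1, 4, 4, 1, 3], [0, 3, 0, 5, 5, 3, 0, 5, 5, 3, 3, 4, 4, 4, 3, 4], [0, 3, 3, 5, 5, 0, 5, 1, 3, 3, 3, 5, 5, 3, 4, 4], [0, 3, 4, 0, 4, 1, 2, 4, 4, 2, 2, 4, 4, 1, 4, 4], [0, 3, 4, 0, 5, 5, 2, 2, 5, 5, 3, 5, 2, 4, 0, 5], [0, 3, 4, 1, 2, 4, 0, 5, 5, 2, 0, 4, 0, 4, 3, 5], [0, 3, 4, 1, 2, 4, 0, 5,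 5, 2, 5, 1, 5, 1, 3, 5], [0, 3, 4, 1, 2, 5, 5, 2, 1, 4, 2, 1, 2, 4, 4, 3], [0, 3, 4, 3, 4, 2, 1, 5, 3, 3, 5, 5, 5, 5, 5, 5], [0, 3, 5, 0, 5, 0, 4, 0, 4, 1, 4, 2, 5, 5, 3, 3], [0, 3, 5, 3, 4, 3, 4, 0, 5, 1, 3, 0, 5, 5, 0, 5], [0, 4, 0, 4, 3, 4, 3, 4, 1, 5, 1, 5, 5, 2, 5, 2], [0, 4, 0, 4, 3, 4, 3, 4, 4, 0, 4, 0, 5, 2, 5, 2], [0, 4, 0, 5, 5, 5, 2, 0, 5, 1, 5, 5, 3, 0, 4, 3], [0, 4, 1, 2, 0, 4, 3, 4, 3, 3, 4, 1, 4, 3, 0, 5], [0, 4, 1, 4, 2, 4, 2, 5, 5, 0, 4, 1, 5, 5, 3, 3], [0, 4, 2, 5, 5, 3, 5, 2, 4, 1, 4, 1, 4, 2, 2, 5], [0, 4, 3, 4, 1, 3, 4, 3, 4, 3, 0, 4, 4, 0, 5, 3], [0, 4, 4, 1, 5, 2, 4, 1, 4, 3, 4, 3, 5, 5, 2, 2], [0, 4, 4, 3, 4,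 3, 5, 3, 4, 2, 2, 0, 5, 5, 5, 2], [0, 4, 4, 4, 1, 3, 4, 3, 4, 4, 1, 2, 2, 4, 2, 5], [0, 5, 2, 4, 1, 5, 3, 3, 4, 4, 4, 4, 4, 3, 5, 5], [0, 5, 2, 5, 5, 2, 4, 4, 1, 2, 2, 5, 3, 4, 3, 4]]

/-- the inverse pair words -/
def pairL : List (List ℕ) := [[0, 1], [1, 0], [2, 3], [3, 2], [4, 5], [5, 4]]

theorem seed_cases : ∀ p ∈ seedL, p.2 = [] ∧ p.1 ∈ exactL ++ pairL := by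
  decide +kernel

theorem rel_cases : ∀ w ∈ relL, w ∈ exactL ++ pairL := by
  decide +kernel

end Cfsg.Agent.Lib.H16.U62M.P2
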