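import Cfsg.Agent.Lib.H16.U62M.P2.RowsP0
import Cfsg.Agent.Lib.H16.U62M.P2.RowsP1
import Cfsg.Agent.Lib.H16.U62M.P2.RowsP2
import Cfsg.Agent.Lib.H16.U62M.P2.RowsP3
import Cfsg.Agent.Lib.H16.U62M.P2.RowsP4
import Cfsg.Agent.Lib.H16.U62M.P2.RowsP5
import Cfsg.Agent.Lib.H16.U62M.P2.RowsP6
import Cfsg.Agent.Lib.H16.U62M.P2.RowsP7
import Cfsg.Agent.Lib.H16.U62M.P2.RowsP8
import Cfsg.Agent.Lib.H16.U62M.P2.RowsP9
import Cfsg.Agent.Lib.H16.U62M.P2.RowsP10
import Cfsg.Agent.Lib.H16.U62M.P2.RowsP11
import Cfsg.Agent.Lib.H16.U62M.P2.RowsP12

set_option autoImplicit false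
set_option maxRecDepth 100000

/-! # Final table of the monomial coset enumeration (generated) -/

namespace Cfsg.Agent.Lib.H16.U62M.P2

open Cfsg.Agent.Lib.H17.CosetCert (BT WT)
open Cfsg.Agent.Lib.H17.MonoCert
open Cfsg.Agent.Lib.H16.G24M

/-- rows from 247000 on -/
def rowsFrom247 : List ℕ := rows247 ++ rows248

/-- rows from 246000 on -/
def rowsFrom246 : List ℕ := rows246 ++ rowsFrom247

/-- rows from 245000 on -/
def rowsFrom245 : List ℕ := rows245 ++ rowsFrom246

/-- rows from 244000 on -/
def rowsFrom244 : List ℕ := rows244 ++ rowsFrom245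

/-- rows from 243000 on -/
def rowsFrom243 : List ℕ := rows243 ++ rowsFrom244

/-- rows from 242000 on -/
def rowsFrom242 : List ℕ := rows242 ++ rowsFrom243

/-- rows from 241000 on -/
def rowsFrom241 : List ℕ := rows241 ++ rowsFrom242

/-- rows from 240000 on -/
def rowsFrom240 : List ℕ := rows240 ++ rowsFrom241

/-- rows from 239000 on -/
def rowsFrom239 : List ℕ := rows239 ++ rowsFrom240

/-- rows from 238000 on -/
def rowsFrom238 : List ℕ := rows238 ++ rowsFrom239

/-- rows from 237000 on -/
def rowsFrom237 : List ℕ := rows237 ++ rowsFrom238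

/-- rows from 236000 on -/
def rowsFrom236 : List ℕ := rows236 ++ rowsFrom237

/-- rows from 235000 on -/
def rowsFrom235 : List ℕ := rows235 ++ rowsFrom236

/-- rows from 234000 on -/
def rowsFrom234 : List ℕ := rows234 ++ rowsFrom235

/-- rows from 233000 on -/
def rowsFrom233 : List ℕ := rows233 ++ rowsFrom234

/-- rows from 232000 on -/
def rowsFrom232 : List ℕ := rows232 ++ rowsFrom233

/-- rows from 231000 on -/
def rowsFrom231 : List ℕ := rows231 ++ rowsFrom232

/-- rows from 230000 on -/
def rowsFrom230 : List ℕ := rows230 ++ rowsFrom231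

/-- rows from 229000 on -/
def rowsFrom229 : List ℕ := rows229 ++ rowsFrom230

/-- rows from 228000 on -/
def rowsFrom228 : List ℕ := rows228 ++ rowsFrom229

/-- rows from 227000 on -/
def rowsFrom227 : List ℕ := rows227 ++ rowsFrom228

/-- rows from 226000 on -/
def rowsFrom226 : List ℕ := rows226 ++ rowsFrom227

/-- rows from 225000 on -/
def rowsFrom225 : List ℕ := rows225 ++ rowsFrom226

/-- rows from 224000 on -/
def rowsFrom224 : List ℕ := rows224 ++ rowsFrom225

/-- rows from 223000 on -/
def rowsFrom223 : List ℕ := rows223 ++ rowsFrom224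

/-- rows from 222000 on -/
def rowsFrom222 : List ℕ := rows222 ++ rowsFrom223

/-- rows from 221000 on -/
def rowsFrom221 : List ℕ := rows221 ++ rowsFrom222

/-- rows from 220000 on -/
def rowsFrom220 : List ℕ := rows220 ++ rowsFrom221

/-- rows from 219000 on -/
def rowsFrom219 : List ℕ := rows219 ++ rowsFrom220

/-- rows from 218000 on -/
def rowsFrom218 : List ℕ := rows218 ++ rowsFrom219

/-- rows from 217000 on -/
def rowsFrom217 : List ℕ := rows217 ++ rowsFrom218

/-- rows from 216000 on -/
def rowsFrom216 : List ℕ := rows216 ++ rowsFrom217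

/-- rows from 215000 on -/
def rowsFrom215 : List ℕ := rows215 ++ rowsFrom216

/-- rows from 214000 on -/
def rowsFrom214 : List ℕ := rows214 ++ rowsFrom215

/-- rows from 213000 on -/
def rowsFrom213 : List ℕ := rows213 ++ rowsFrom214

/-- rows from 212000 on -/
def rowsFrom212 : List ℕ := rows212 ++ rowsFrom213

/-- rows from 211000 on -/
def rowsFrom211 : List ℕ := rows211 ++ rowsFrom212

/-- rows from 210000 on -/
def rowsFrom210 : List ℕ := rows210 ++ rowsFrom211

/-- rows from 209000 on -/
def rowsFrom209 : List ℕ := rows209 ++ rowsFrom210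

/-- rows from 208000 on -/
def rowsFrom208 : List ℕ := rows208 ++ rowsFrom209

/-- rows from 207000 on -/
def rowsFrom207 : List ℕ := rows207 ++ rowsFrom208

/-- rows from 206000 on -/
def rowsFrom206 : List ℕ := rows206 ++ rowsFrom207

/-- rows from 205000 on -/
def rowsFrom205 : List ℕ := rows205 ++ rowsFrom206

/-- rows from 204000 on -/
def rowsFrom204 : List ℕ := rows204 ++ rowsFrom205

/-- rows from 203000 on -/
def rowsFrom203 : List ℕ := rows203 ++ rowsFrom204

/-- rows from 202000 on -/
def rowsFrom202 : List ℕ := rows202 ++ rowsFrom203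

/-- rows from 201000 on -/
def rowsFrom201 : List ℕ := rows201 ++ rowsFrom202

/-- rows from 200000 on -/
def rowsFrom200 : List ℕ := rows200 ++ rowsFrom201

/-- rows from 199000 on -/
def rowsFrom199 : List ℕ := rows199 ++ rowsFrom200

/-- rows from 198000 on -/
def rowsFrom198 : List ℕ := rows198 ++ rowsFrom199

/-- rows from 197000 on -/
def rowsFrom197 : List ℕ := rows197 ++ rowsFrom198

/-- rows from 196000 on -/
def rowsFrom196 : List ℕ := rows196 ++ rowsFrom197

/-- rows from 195000 on -/
def rowsFrom195 : List ℕ := rows195 ++ rowsFrom196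

/-- rows from 194000 on -/
def rowsFrom194 : List ℕ := rows194 ++ rowsFrom195

/-- rows from 193000 on -/
def rowsFrom193 : List ℕ := rows193 ++ rowsFrom194

/-- rows from 192000 on -/
def rowsFrom192 : List ℕ := rows192 ++ rowsFrom193

/-- rows from 191000 on -/
def rowsFrom191 : List ℕ := rows191 ++ rowsFrom192

/-- rows from 190000 on -/
def rowsFrom190 : List ℕ := rows190 ++ rowsFrom191

/-- rows from 189000 on -/
def rowsFrom189 : List ℕ := rows189 ++ rowsFrom190

/-- rows from 188000 on -/
def rowsFrom188 : List ℕ := rows188 ++ rowsFrom189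

/-- rows from 187000 on -/
def rowsFrom187 : List ℕ := rows187 ++ rowsFrom188

/-- rows from 186000 on -/
def rowsFrom186 : List ℕ := rows186 ++ rowsFrom187

/-- rows from 185000 on -/
def rowsFrom185 : List ℕ := rows185 ++ rowsFrom186

/-- rows from 184000 on -/
def rowsFrom184 : List ℕ := rows184 ++ rowsFrom185

/-- rows from 183000 on -/
def rowsFrom183 : List ℕ := rows183 ++ rowsFrom184

/-- rows from 182000 on -/
def rowsFrom182 : List ℕ := rows182 ++ rowsFrom183

/-- rows from 181000 on -/
def rowsFrom181 : List ℕ := rows181 ++ rowsFrom182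

/-- rows from 180000 on -/
def rowsFrom180 : List ℕ := rows180 ++ rowsFrom181

/-- rows from 179000 on -/
def rowsFrom179 : List ℕ := rows179 ++ rowsFrom180

/-- rows from 178000 on -/
def rowsFrom178 : List ℕ := rows178 ++ rowsFrom179

/-- rows from 177000 on -/
def rowsFrom177 : List ℕ := rows177 ++ rowsFrom178

/-- rows from 176000 on -/
def rowsFrom176 : List ℕ := rows176 ++ rowsFrom177

/-- rows from 175000 on -/
def rowsFrom175 : List ℕ := rows175 ++ rowsFrom176

/-- rows from 174000 on -/
def rowsFrom174 : List ℕ := rows174 ++ rowsFrom175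

/-- rows from 173000 on -/
def rowsFrom173 : List ℕ := rows173 ++ rowsFrom174

/-- rows from 172000 on -/
def rowsFrom172 : List ℕ := rows172 ++ rowsFrom173

/-- rows from 171000 on -/
def rowsFrom171 : List ℕ := rows171 ++ rowsFrom172

/-- rows from 170000 on -/
def rowsFrom170 : List ℕ := rows170 ++ rowsFrom171

/-- rows from 169000 on -/
def rowsFrom169 : List ℕ := rows169 ++ rowsFrom170

/-- rows from 168000 on -/
def rowsFrom168 : List ℕ := rows168 ++ rowsFrom169

/-- rows from 167000 on -/
def rowsFrom167 : List ℕ := rows167 ++ rowsFrom168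

/-- rows from 166000 on -/
def rowsFrom166 : List ℕ := rows166 ++ rowsFrom167

/-- rows from 165000 on -/
def rowsFrom165 : List ℕ := rows165 ++ rowsFrom166

/-- rows from 164000 on -/
def rowsFrom164 : List ℕ := rows164 ++ rowsFrom165

/-- rows from 163000 on -/
def rowsFrom163 : List ℕ := rows163 ++ rowsFrom164

/-- rows from 162000 on -/
def rowsFrom162 : List ℕ := rows162 ++ rowsFrom163

/-- rows from 161000 on -/
def rowsFrom161 : List ℕ := rows161 ++ rowsFrom162

/-- rows from 160000 on -/
def rowsFrom160 : List ℕ := rows160 ++ rowsFrom161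

/-- rows from 159000 on -/
def rowsFrom159 : List ℕ := rows159 ++ rowsFrom160

/-- rows from 158000 on -/
def rowsFrom158 : List ℕ := rows158 ++ rowsFrom159

/-- rows from 157000 on -/
def rowsFrom157 : List ℕ := rows157 ++ rowsFrom158

/-- rows from 156000 on -/
def rowsFrom156 : List ℕ := rows156 ++ rowsFrom157

/-- rows from 155000 on -/
def rowsFrom155 : List ℕ := rows155 ++ rowsFrom156

/-- rows from 154000 on -/
def rowsFrom154 : List ℕ := rows154 ++ rowsFrom155

/-- rows from 153000 on -/
def rowsFrom153 : List ℕ := rows153 ++ rowsFrom154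

/-- rows from 152000 on -/
def rowsFrom152 : List ℕ := rows152 ++ rowsFrom153

/-- rows from 151000 on -/
def rowsFrom151 : List ℕ := rows151 ++ rowsFrom152

/-- rows from 150000 on -/
def rowsFrom150 : List ℕ := rows150 ++ rowsFrom151

/-- rows from 149000 on -/
def rowsFrom149 : List ℕ := rows149 ++ rowsFrom150

/-- rows from 148000 on -/
def rowsFrom148 : List ℕ := rows148 ++ rowsFrom149

/-- rows from 147000 on -/
def rowsFrom147 : List ℕ := rows147 ++ rowsFrom148

/-- rows from 146000 on -/
def rowsFrom146 : List ℕ := rows146 ++ rowsFrom147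

/-- rows from 145000 on -/
def rowsFrom145 : List ℕ := rows145 ++ rowsFrom146

/-- rows from 144000 on -/
def rowsFrom144 : List ℕ := rows144 ++ rowsFrom145

/-- rows from 143000 on -/
def rowsFrom143 : List ℕ := rows143 ++ rowsFrom144

/-- rows from 142000 on -/
def rowsFrom142 : List ℕ := rows142 ++ rowsFrom143

/-- rows from 141000 on -/
def rowsFrom141 : List ℕ := rows141 ++ rowsFrom142

/-- rows from 140000 on -/
def rowsFrom140 : List ℕ := rows140 ++ rowsFrom141

/-- rows from 139000 on -/
def rowsFrom139 : List ℕ := rows139 ++ rowsFrom140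

/-- rows from 138000 on -/
def rowsFrom138 : List ℕ := rows138 ++ rowsFrom139

/-- rows from 137000 on -/
def rowsFrom137 : List ℕ := rows137 ++ rowsFrom138

/-- rows from 136000 on -/
def rowsFrom136 : List ℕ := rows136 ++ rowsFrom137

/-- rows from 135000 on -/
def rowsFrom135 : List ℕ := rows135 ++ rowsFrom136

/-- rows from 134000 on -/
def rowsFrom134 : List ℕ := rows134 ++ rowsFrom135

/-- rows from 133000 on -/
def rowsFrom133 : List ℕ := rows133 ++ rowsFrom134

/-- rows from 132000 on -/
def rowsFrom132 : List ℕ := rows132 ++ rowsFrom133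

/-- rows from 131000 on -/
def rowsFrom131 : List ℕ := rows131 ++ rowsFrom132

/-- rows from 130000 on -/
def rowsFrom130 : List ℕ := rows130 ++ rowsFrom131

/-- rows from 129000 on -/
def rowsFrom129 : List ℕ := rows129 ++ rowsFrom130

/-- rows from 128000 on -/
def rowsFrom128 : List ℕ := rows128 ++ rowsFrom129

/-- rows from 127000 on -/
def rowsFrom127 : List ℕ := rows127 ++ rowsFrom128

/-- rows from 126000 on -/
def rowsFrom126 : List ℕ := rows126 ++ rowsFrom127

/-- rows from 125000 on -/
def rowsFrom125 : List ℕ := rows125 ++ rowsFrom126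

/-- rows from 124000 on -/
def rowsFrom124 : List ℕ := rows124 ++ rowsFrom125

/-- rows from 123000 on -/
def rowsFrom123 : List ℕ := rows123 ++ rowsFrom124

/-- rows from 122000 on -/
def rowsFrom122 : List ℕ := rows122 ++ rowsFrom123

/-- rows from 121000 on -/
def rowsFrom121 : List ℕ := rows121 ++ rowsFrom122

/-- rows from 120000 on -/
def rowsFrom120 : List ℕ := rows120 ++ rowsFrom121

/-- rows from 119000 on -/
def rowsFrom119 : List ℕ := rows119 ++ rowsFrom120

/-- rows from 118000 on -/
def rowsFrom118 : List ℕ := rows118 ++ rowsFrom119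

/-- rows from 117000 on -/
def rowsFrom117 : List ℕ := rows117 ++ rowsFrom118

/-- rows from 116000 on -/
def rowsFrom116 : List ℕ := rows116 ++ rowsFrom117

/-- rows from 115000 on -/
def rowsFrom115 : List ℕ := rows115 ++ rowsFrom116

/-- rows from 114000 on -/
def rowsFrom114 : List ℕ := rows114 ++ rowsFrom115

/-- rows from 113000 on -/
def rowsFrom113 : List ℕ := rows113 ++ rowsFrom114

/-- rows from 112000 on -/
def rowsFrom112 : List ℕ := rows112 ++ rowsFrom113

/-- rows from 111000 on -/
def rowsFrom111 : List ℕ := rows111 ++ rowsFrom112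

/-- rows from 110000 on -/
def rowsFrom110 : List ℕ := rows110 ++ rowsFrom111

/-- rows from 109000 on -/
def rowsFrom109 : List ℕ := rows109 ++ rowsFrom110

/-- rows from 108000 on -/
def rowsFrom108 : List ℕ := rows108 ++ rowsFrom109

/-- rows from 107000 on -/
def rowsFrom107 : List ℕ := rows107 ++ rowsFrom108

/-- rows from 106000 on -/
def rowsFrom106 : List ℕ := rows106 ++ rowsFrom107

/-- rows from 105000 on -/
def rowsFrom105 : List ℕ := rows105 ++ rowsFrom106

/-- rows from 104000 on -/
def rowsFrom104 : List ℕ := rows104 ++ rowsFrom105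

/-- rows from 103000 on -/
def rowsFrom103 : List ℕ := rows103 ++ rowsFrom104

/-- rows from 102000 on -/
def rowsFrom102 : List ℕ := rows102 ++ rowsFrom103

/-- rows from 101000 on -/
def rowsFrom101 : List ℕ := rows101 ++ rowsFrom102

/-- rows from 100000 on -/
def rowsFrom100 : List ℕ := rows100 ++ rowsFrom101

/-- rows from 99000 on -/
def rowsFrom99 : List ℕ := rows99 ++ rowsFrom100

/-- rows from 98000 on -/
def rowsFrom98 : List ℕ := rows98 ++ rowsFrom99

/-- rows from 97000 on -/
def rowsFrom97 : List ℕ := rows97 ++ rowsFrom98

/-- rows from 96000 on -/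
def rowsFrom96 : List ℕ := rows96 ++ rowsFrom97

/-- rows from 95000 on -/
def rowsFrom95 : List ℕ := rows95 ++ rowsFrom96

/-- rows from 94000 on -/
def rowsFrom94 : List ℕ := rows94 ++ rowsFrom95

/-- rows from 93000 on -/
def rowsFrom93 : List ℕ := rows93 ++ rowsFrom94

/-- rows from 92000 on -/
def rowsFrom92 : List ℕ := rows92 ++ rowsFrom93

/-- rows from 91000 on -/
def rowsFrom91 : List ℕ := rows91 ++ rowsFrom92

/-- rows from 90000 on -/
def rowsFrom90 : List ℕ := rows90 ++ rowsFrom91

/-- rows from 89000 on -/
def rowsFrom89 : List ℕ := rows89 ++ rowsFrom90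

/-- rows from 88000 on -/
def rowsFrom88 : List ℕ := rows88 ++ rowsFrom89

/-- rows from 87000 on -/
def rowsFrom87 : List ℕ := rows87 ++ rowsFrom88

/-- rows from 86000 on -/
def rowsFrom86 : List ℕ := rows86 ++ rowsFrom87

/-- rows from 85000 on -/
def rowsFrom85 : List ℕ := rows85 ++ rowsFrom86

/-- rows from 84000 on -/
def rowsFrom84 : List ℕ := rows84 ++ rowsFrom85

/-- rows from 83000 on -/
def rowsFrom83 : List ℕ := rows83 ++ rowsFrom84

/-- rows from 82000 on -/
def rowsFrom82 : List ℕ := rows82 ++ rowsFrom83

/-- rows from 81000 on -/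
def rowsFrom81 : List ℕ := rows81 ++ rowsFrom82

/-- rows from 80000 on -/
def rowsFrom80 : List ℕ := rows80 ++ rowsFrom81

/-- rows from 79000 on -/
def rowsFrom79 : List ℕ := rows79 ++ rowsFrom80

/-- rows from 78000 on -/
def rowsFrom78 : List ℕ := rows78 ++ rowsFrom79

/-- rows from 77000 on -/
def rowsFrom77 : List ℕ := rows77 ++ rowsFrom78

/-- rows from 76000 on -/
def rowsFrom76 : List ℕ := rows76 ++ rowsFrom77

/-- rows from 75000 on -/
def rowsFrom75 : List ℕ := rows75 ++ rowsFrom76

/-- rows from 74000 on -/
def rowsFrom74 : List ℕ := rows74 ++ rowsFrom75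

/-- rows from 73000 on -/
def rowsFrom73 : List ℕ := rows73 ++ rowsFrom74

/-- rows from 72000 on -/
def rowsFrom72 : List ℕ := rows72 ++ rowsFrom73

/-- rows from 71000 on -/
def rowsFrom71 : List ℕ := rows71 ++ rowsFrom72

/-- rows from 70000 on -/
def rowsFrom70 : List ℕ := rows70 ++ rowsFrom71

/-- rows from 69000 on -/
def rowsFrom69 : List ℕ := rows69 ++ rowsFrom70

/-- rows from 68000 on -/
def rowsFrom68 : List ℕ := rows68 ++ rowsFrom69

/-- rows from 67000 on -/
def rowsFrom67 : List ℕ := rows67 ++ rowsFrom68

/-- rows from 66000 on -/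
def rowsFrom66 : List ℕ := rows66 ++ rowsFrom67

/-- rows from 65000 on -/
def rowsFrom65 : List ℕ := rows65 ++ rowsFrom66

/-- rows from 64000 on -/
def rowsFrom64 : List ℕ := rows64 ++ rowsFrom65

/-- rows from 63000 on -/
def rowsFrom63 : List ℕ := rows63 ++ rowsFrom64

/-- rows from 62000 on -/
def rowsFrom62 : List ℕ := rows62 ++ rowsFrom63

/-- rows from 61000 on -/
def rowsFrom61 : List ℕ := rows61 ++ rowsFrom62

/-- rows from 60000 on -/
def rowsFrom60 : List ℕ := rows60 ++ rowsFrom61

/-- rows from 59000 on -/
def rowsFrom59 : List ℕ := rows59 ++ rowsFrom60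

/-- rows from 58000 on -/
def rowsFrom58 : List ℕ := rows58 ++ rowsFrom59

/-- rows from 57000 on -/
def rowsFrom57 : List ℕ := rows57 ++ rowsFrom58

/-- rows from 56000 on -/
def rowsFrom56 : List ℕ := rows56 ++ rowsFrom57

/-- rows from 55000 on -/
def rowsFrom55 : List ℕ := rows55 ++ rowsFrom56

/-- rows from 54000 on -/
def rowsFrom54 : List ℕ := rows54 ++ rowsFrom55

/-- rows from 53000 on -/
def rowsFrom53 : List ℕ := rows53 ++ rowsFrom54

/-- rows from 52000 on -/
def rowsFrom52 : List ℕ := rows52 ++ rowsFrom53

/-- rows from 51000 on -/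
def rowsFrom51 : List ℕ := rows51 ++ rowsFrom52

/-- rows from 50000 on -/
def rowsFrom50 : List ℕ := rows50 ++ rowsFrom51

/-- rows from 49000 on -/
def rowsFrom49 : List ℕ := rows49 ++ rowsFrom50

/-- rows from 48000 on -/
def rowsFrom48 : List ℕ := rows48 ++ rowsFrom49

/-- rows from 47000 on -/
def rowsFrom47 : List ℕ := rows47 ++ rowsFrom48

/-- rows from 46000 on -/
def rowsFrom46 : List ℕ := rows46 ++ rowsFrom47

/-- rows from 45000 on -/
def rowsFrom45 : List ℕ := rows45 ++ rowsFrom46

/-- rows from 44000 on -/
def rowsFrom44 : List ℕ := rows44 ++ rowsFrom45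

/-- rows from 43000 on -/
def rowsFrom43 : List ℕ := rows43 ++ rowsFrom44

/-- rows from 42000 on -/
def rowsFrom42 : List ℕ := rows42 ++ rowsFrom43

/-- rows from 41000 on -/
def rowsFrom41 : List ℕ := rows41 ++ rowsFrom42

/-- rows from 40000 on -/
def rowsFrom40 : List ℕ := rows40 ++ rowsFrom41

/-- rows from 39000 on -/
def rowsFrom39 : List ℕ := rows39 ++ rowsFrom40

/-- rows from 38000 on -/
def rowsFrom38 : List ℕ := rows38 ++ rowsFrom39

/-- rows from 37000 on -/
def rowsFrom37 : List ℕ := rows37 ++ rowsFrom38

/-- rows from 36000 on -/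
def rowsFrom36 : List ℕ := rows36 ++ rowsFrom37

/-- rows from 35000 on -/
def rowsFrom35 : List ℕ := rows35 ++ rowsFrom36

/-- rows from 34000 on -/
def rowsFrom34 : List ℕ := rows34 ++ rowsFrom35

/-- rows from 33000 on -/
def rowsFrom33 : List ℕ := rows33 ++ rowsFrom34

/-- rows from 32000 on -/
def rowsFrom32 : List ℕ := rows32 ++ rowsFrom33

/-- rows from 31000 on -/
def rowsFrom31 : List ℕ := rows31 ++ rowsFrom32

/-- rows from 30000 on -/
def rowsFrom30 : List ℕ := rows30 ++ rowsFrom31

/-- rows from 29000 on -/
def rowsFrom29 : List ℕ := rows29 ++ rowsFrom30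

/-- rows from 28000 on -/
def rowsFrom28 : List ℕ := rows28 ++ rowsFrom29

/-- rows from 27000 on -/
def rowsFrom27 : List ℕ := rows27 ++ rowsFrom28

/-- rows from 26000 on -/
def rowsFrom26 : List ℕ := rows26 ++ rowsFrom27

/-- rows from 25000 on -/
def rowsFrom25 : List ℕ := rows25 ++ rowsFrom26

/-- rows from 24000 on -/
def rowsFrom24 : List ℕ := rows24 ++ rowsFrom25

/-- rows from 23000 on -/
def rowsFrom23 : List ℕ := rows23 ++ rowsFrom24

/-- rows from 22000 on -/
def rowsFrom22 : List ℕ := rows22 ++ rowsFrom23

/-- rows from 21000 on -/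
def rowsFrom21 : List ℕ := rows21 ++ rowsFrom22

/-- rows from 20000 on -/
def rowsFrom20 : List ℕ := rows20 ++ rowsFrom21

/-- rows from 19000 on -/
def rowsFrom19 : List ℕ := rows19 ++ rowsFrom20

/-- rows from 18000 on -/
def rowsFrom18 : List ℕ := rows18 ++ rowsFrom19

/-- rows from 17000 on -/
def rowsFrom17 : List ℕ := rows17 ++ rowsFrom18

/-- rows from 16000 on -/
def rowsFrom16 : List ℕ := rows16 ++ rowsFrom17

/-- rows from 15000 on -/
def rowsFrom15 : List ℕ := rows15 ++ rowsFrom16

/-- rows from 14000 on -/
def rowsFrom14 : List ℕ := rows14 ++ rowsFrom15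

/-- rows from 13000 on -/
def rowsFrom13 : List ℕ := rows13 ++ rowsFrom14

/-- rows from 12000 on -/
def rowsFrom12 : List ℕ := rows12 ++ rowsFrom13

/-- rows from 11000 on -/
def rowsFrom11 : List ℕ := rows11 ++ rowsFrom12

/-- rows from 10000 on -/
def rowsFrom10 : List ℕ := rows10 ++ rowsFrom11

/-- rows from 9000 on -/
def rowsFrom9 : List ℕ := rows9 ++ rowsFrom10

/-- rows from 8000 on -/
def rowsFrom8 : List ℕ := rows8 ++ rowsFrom9

/-- rows from 7000 on -/
def rowsFrom7 : List ℕ := rows7 ++ rowsFrom8

/-- rows from 6000 on -/
def rowsFrom6 : List ℕ := rows6 ++ rowsFrom7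

/-- rows from 5000 on -/
def rowsFrom5 : List ℕ := rows5 ++ rowsFrom6

/-- rows from 4000 on -/
def rowsFrom4 : List ℕ := rows4 ++ rowsFrom5

/-- rows from 3000 on -/
def rowsFrom3 : List ℕ := rows3 ++ rowsFrom4

/-- rows from 2000 on -/
def rowsFrom2 : List ℕ := rows2 ++ rowsFrom3

/-- rows from 1000 on -/
def rowsFrom1 : List ℕ := rows1 ++ rowsFrom2

/-- rows from 0 on -/
def rowsFrom0 : List ℕ := rows0 ++ rowsFrom1

theorem rowsFrom247_ok : checkRows F 6 2097152 1492992 rowsFrom247 247000 = true :=
  checkRows_append_of F 6 2097152 1492992 _ _ 247000 1000 248000 rows247_ok rows247_len rfl rows248_ok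

theorem rowsFrom247_len : rowsFrom247.length = 1832 := by
  unfold rowsFrom247
  rw [List.length_append, rows247_len, rows248_len]

theorem rowsFrom246_ok : checkRows F 6 2097152 1492992 rowsFrom246 246000 = true :=
  checkRows_append_of F 6 2097152 1492992 _ _ 246000 1000 247000 rows246_ok rows246_len rfl rowsFrom247_ok

theorem rowsFrom246_len : rowsFrom246.length = 2832 := by
  unfold rowsFrom246
  rw [List.length_append, rows246_len, rowsFrom247_len]

theorem rowsFrom245_ok : checkRows F 6 2097152 1492992 rowsFrom245 245000 = true :=
  checkRows_append_of F 6 2097152 1492992 _ _ 245000 1000 246000 rows245_ok rows245_len rfl rowsFrom246_ok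

theorem rowsFrom245_len : rowsFrom245.length = 3832 := by
  unfold rowsFrom245
  rw [List.length_append, rows245_len, rowsFrom246_len]

theorem rowsFrom244_ok : checkRows F 6 2097152 1492992 rowsFrom244 244000 = true :=
  checkRows_append_of F 6 2097152 1492992 _ _ 244000 1000 245000 rows244_ok rows244_len rfl rowsFrom245_ok

theorem rowsFrom244_len : rowsFrom244.length = 4832 := by
  unfold rowsFrom244
  rw [List.length_append, rows244_len, rowsFrom245_len]

theorem rowsFrom243_ok : checkRows F 6 2097152 1492992 rowsFrom243 243000 = true :=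
  checkRows_append_of F 6 2097152 1492992 _ _ 243000 1000 244000 rows243_ok rows243_len rfl rowsFrom244_ok

theorem rowsFrom243_len : rowsFrom243.length = 5832 := by
  unfold rowsFrom243
  rw [List.length_append, rows243_len, rowsFrom244_len]

theorem rowsFrom242_ok : checkRows F 6 2097152 1492992 rowsFrom242 242000 = true :=
  checkRows_append_of F 6 2097152 1492992 _ _ 242000 1000 243000 rows242_ok rows242_len rfl rowsFrom243_ok

theorem rowsFrom242_len : rowsFrom242.length = 6832 := by
  unfold rowsFrom242
  rw [List.length_append, rows242_len, rowsFrom243_len]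

theorem rowsFrom241_ok : checkRows F 6 2097152 1492992 rowsFrom241 241000 = true :=
  checkRows_append_of F 6 2097152 1492992 _ _ 241000 1000 242000 rows241_ok rows241_len rfl rowsFrom242_ok

theorem rowsFrom241_len : rowsFrom241.length = 7832 := by
  unfold rowsFrom241
  rw [List.length_append, rows241_len, rowsFrom242_len]

theorem rowsFrom240_ok : checkRows F 6 2097152 1492992 rowsFrom240 240000 = true :=
  checkRows_append_of F 6 2097152 1492992 _ _ 240000 1000 241000 rows240_ok rows240_len rfl rowsFrom241_ok

theorem rowsFrom240_len : rowsFrom240.length = 8832 := by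
  unfold rowsFrom240
  rw [List.length_append, rows240_len, rowsFrom241_len]

theorem rowsFrom239_ok : checkRows F 6 2097152 1492992 rowsFrom239 239000 = true :=
  checkRows_append_of F 6 2097152 1492992 _ _ 239000 1000 240000 rows239_ok rows239_len rfl rowsFrom240_ok

theorem rowsFrom239_len : rowsFrom239.length = 9832 := by
  unfold rowsFrom239
  rw [List.length_append, rows239_len, rowsFrom240_len]

theorem rowsFrom238_ok : checkRows F 6 2097152 1492992 rowsFrom238 238000 = true :=
  checkRows_append_of F 6 2097152 1492992 _ _ 238000 1000 239000 rows238_ok rows238_len rfl rowsFrom239_ok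

theorem rowsFrom238_len : rowsFrom238.length = 10832 := by
  unfold rowsFrom238
  rw [List.length_append, rows238_len, rowsFrom239_len]

theorem rowsFrom237_ok : checkRows F 6 2097152 1492992 rowsFrom237 237000 = true :=
  checkRows_append_of F 6 2097152 1492992 _ _ 237000 1000 238000 rows237_ok rows237_len rfl rowsFrom238_ok

theorem rowsFrom237_len : rowsFrom237.length = 11832 := by
  unfold rowsFrom237
  rw [List.length_append, rows237_len, rowsFrom238_len]

theorem rowsFrom236_ok : checkRows F 6 2097152 1492992 rowsFrom236 236000 = true :=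
  checkRows_append_of F 6 2097152 1492992 _ _ 236000 1000 237000 rows236_ok rows236_len rfl rowsFrom237_ok

theorem rowsFrom236_len : rowsFrom236.length = 12832 := by
  unfold rowsFrom236
  rw [List.length_append, rows236_len, rowsFrom237_len]

theorem rowsFrom235_ok : checkRows F 6 2097152 1492992 rowsFrom235 235000 = true :=
  checkRows_append_of F 6 2097152 1492992 _ _ 235000 1000 236000 rows235_ok rows235_len rfl rowsFrom236_ok

theorem rowsFrom235_len : rowsFrom235.length = 13832 := by
  unfold rowsFrom235
  rw [List.length_append, rows235_len, rowsFrom236_len]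

theorem rowsFrom234_ok : checkRows F 6 2097152 1492992 rowsFrom234 234000 = true :=
  checkRows_append_of F 6 2097152 1492992 _ _ 234000 1000 235000 rows234_ok rows234_len rfl rowsFrom235_ok

theorem rowsFrom234_len : rowsFrom234.length = 14832 := by
  unfold rowsFrom234
  rw [List.length_append, rows234_len, rowsFrom235_len]

theorem rowsFrom233_ok : checkRows F 6 2097152 1492992 rowsFrom233 233000 = true :=
  checkRows_append_of F 6 2097152 1492992 _ _ 233000 1000 234000 rows233_ok rows233_len rfl rowsFrom234_ok

theorem rowsFrom233_len : rowsFrom233.length = 15832 := by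
  unfold rowsFrom233
  rw [List.length_append, rows233_len, rowsFrom234_len]

theorem rowsFrom232_ok : checkRows F 6 2097152 1492992 rowsFrom232 232000 = true :=
  checkRows_append_of F 6 2097152 1492992 _ _ 232000 1000 233000 rows232_ok rows232_len rfl rowsFrom233_ok

theorem rowsFrom232_len : rowsFrom232.length = 16832 := by
  unfold rowsFrom232
  rw [List.length_append, rows232_len, rowsFrom233_len]

theorem rowsFrom231_ok : checkRows F 6 2097152 1492992 rowsFrom231 231000 = true :=
  checkRows_append_of F 6 2097152 1492992 _ _ 231000 1000 232000 rows231_ok rows231_len rfl rowsFrom232_ok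

theorem rowsFrom231_len : rowsFrom231.length = 17832 := by
  unfold rowsFrom231
  rw [List.length_append, rows231_len, rowsFrom232_len]

theorem rowsFrom230_ok : checkRows F 6 2097152 1492992 rowsFrom230 230000 = true :=
  checkRows_append_of F 6 2097152 1492992 _ _ 230000 1000 231000 rows230_ok rows230_len rfl rowsFrom231_ok

theorem rowsFrom230_len : rowsFrom230.length = 18832 := by
  unfold rowsFrom230
  rw [List.length_append, rows230_len, rowsFrom231_len]

theorem rowsFrom229_ok : checkRows F 6 2097152 1492992 rowsFrom229 229000 = true :=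
  checkRows_append_of F 6 2097152 1492992 _ _ 229000 1000 230000 rows229_ok rows229_len rfl rowsFrom230_ok

theorem rowsFrom229_len : rowsFrom229.length = 19832 := by
  unfold rowsFrom229
  rw [List.length_append, rows229_len, rowsFrom230_len]

theorem rowsFrom228_ok : checkRows F 6 2097152 1492992 rowsFrom228 228000 = true :=
  checkRows_append_of F 6 2097152 1492992 _ _ 228000 1000 229000 rows228_ok rows228_len rfl rowsFrom229_ok

theorem rowsFrom228_len : rowsFrom228.length = 20832 := by
  unfold rowsFrom228
  rw [List.length_append, rows228_len, rowsFrom229_len]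

theorem rowsFrom227_ok : checkRows F 6 2097152 1492992 rowsFrom227 227000 = true :=
  checkRows_append_of F 6 2097152 1492992 _ _ 227000 1000 228000 rows227_ok rows227_len rfl rowsFrom228_ok

theorem rowsFrom227_len : rowsFrom227.length = 21832 := by
  unfold rowsFrom227
  rw [List.length_append, rows227_len, rowsFrom228_len]

theorem rowsFrom226_ok : checkRows F 6 2097152 1492992 rowsFrom226 226000 = true :=
  checkRows_append_of F 6 2097152 1492992 _ _ 226000 1000 227000 rows226_ok rows226_len rfl rowsFrom227_ok

theorem rowsFrom226_len : rowsFrom226.length = 22832 := by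
  unfold rowsFrom226
  rw [List.length_append, rows226_len, rowsFrom227_len]

theorem rowsFrom225_ok : checkRows F 6 2097152 1492992 rowsFrom225 225000 = true :=
  checkRows_append_of F 6 2097152 1492992 _ _ 225000 1000 226000 rows225_ok rows225_len rfl rowsFrom226_ok

theorem rowsFrom225_len : rowsFrom225.length = 23832 := by
  unfold rowsFrom225
  rw [List.length_append, rows225_len, rowsFrom226_len]

theorem rowsFrom224_ok : checkRows F 6 2097152 1492992 rowsFrom224 224000 = true :=
  checkRows_append_of F 6 2097152 1492992 _ _ 224000 1000 225000 rows224_ok rows224_len rfl rowsFrom225_ok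

theorem rowsFrom224_len : rowsFrom224.length = 24832 := by
  unfold rowsFrom224
  rw [List.length_append, rows224_len, rowsFrom225_len]

theorem rowsFrom223_ok : checkRows F 6 2097152 1492992 rowsFrom223 223000 = true :=
  checkRows_append_of F 6 2097152 1492992 _ _ 223000 1000 224000 rows223_ok rows223_len rfl rowsFrom224_ok

theorem rowsFrom223_len : rowsFrom223.length = 25832 := by
  unfold rowsFrom223
  rw [List.length_append, rows223_len, rowsFrom224_len]

theorem rowsFrom222_ok : checkRows F 6 2097152 1492992 rowsFrom222 222000 = true :=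
  checkRows_append_of F 6 2097152 1492992 _ _ 222000 1000 223000 rows222_ok rows222_len rfl rowsFrom223_ok

theorem rowsFrom222_len : rowsFrom222.length = 26832 := by
  unfold rowsFrom222
  rw [List.length_append, rows222_len, rowsFrom223_len]

theorem rowsFrom221_ok : checkRows F 6 2097152 1492992 rowsFrom221 221000 = true :=
  checkRows_append_of F 6 2097152 1492992 _ _ 221000 1000 222000 rows221_ok rows221_len rfl rowsFrom222_ok

theorem rowsFrom221_len : rowsFrom221.length = 27832 := by
  unfold rowsFrom221
  rw [List.length_append, rows221_len, rowsFrom222_len]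

theorem rowsFrom220_ok : checkRows F 6 2097152 1492992 rowsFrom220 220000 = true :=
  checkRows_append_of F 6 2097152 1492992 _ _ 220000 1000 221000 rows220_ok rows220_len rfl rowsFrom221_ok

theorem rowsFrom220_len : rowsFrom220.length = 28832 := by
  unfold rowsFrom220
  rw [List.length_append, rows220_len, rowsFrom221_len]

theorem rowsFrom219_ok : checkRows F 6 2097152 1492992 rowsFrom219 219000 = true :=
  checkRows_append_of F 6 2097152 1492992 _ _ 219000 1000 220000 rows219_ok rows219_len rfl rowsFrom220_ok

theorem rowsFrom219_len : rowsFrom219.length = 29832 := by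
  unfold rowsFrom219
  rw [List.length_append, rows219_len, rowsFrom220_len]

theorem rowsFrom218_ok : checkRows F 6 2097152 1492992 rowsFrom218 218000 = true :=
  checkRows_append_of F 6 2097152 1492992 _ _ 218000 1000 219000 rows218_ok rows218_len rfl rowsFrom219_ok

theorem rowsFrom218_len : rowsFrom218.length = 30832 := by
  unfold rowsFrom218
  rw [List.length_append, rows218_len, rowsFrom219_len]

theorem rowsFrom217_ok : checkRows F 6 2097152 1492992 rowsFrom217 217000 = true :=
  checkRows_append_of F 6 2097152 1492992 _ _ 217000 1000 218000 rows217_ok rows217_len rfl rowsFrom218_ok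

theorem rowsFrom217_len : rowsFrom217.length = 31832 := by
  unfold rowsFrom217
  rw [List.length_append, rows217_len, rowsFrom218_len]

theorem rowsFrom216_ok : checkRows F 6 2097152 1492992 rowsFrom216 216000 = true :=
  checkRows_append_of F 6 2097152 1492992 _ _ 216000 1000 217000 rows216_ok rows216_len rfl rowsFrom217_ok

theorem rowsFrom216_len : rowsFrom216.length = 32832 := by
  unfold rowsFrom216
  rw [List.length_append, rows216_len, rowsFrom217_len]

theorem rowsFrom215_ok : checkRows F 6 2097152 1492992 rowsFrom215 215000 = true :=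
  checkRows_append_of F 6 2097152 1492992 _ _ 215000 1000 216000 rows215_ok rows215_len rfl rowsFrom216_ok

theorem rowsFrom215_len : rowsFrom215.length = 33832 := by
  unfold rowsFrom215
  rw [List.length_append, rows215_len, rowsFrom216_len]

theorem rowsFrom214_ok : checkRows F 6 2097152 1492992 rowsFrom214 214000 = true :=
  checkRows_append_of F 6 2097152 1492992 _ _ 214000 1000 215000 rows214_ok rows214_len rfl rowsFrom215_ok

theorem rowsFrom214_len : rowsFrom214.length = 34832 := by
  unfold rowsFrom214
  rw [List.length_append, rows214_len, rowsFrom215_len]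

theorem rowsFrom213_ok : checkRows F 6 2097152 1492992 rowsFrom213 213000 = true :=
  checkRows_append_of F 6 2097152 1492992 _ _ 213000 1000 214000 rows213_ok rows213_len rfl rowsFrom214_ok

theorem rowsFrom213_len : rowsFrom213.length = 35832 := by
  unfold rowsFrom213
  rw [List.length_append, rows213_len, rowsFrom214_len]

theorem rowsFrom212_ok : checkRows F 6 2097152 1492992 rowsFrom212 212000 = true :=
  checkRows_append_of F 6 2097152 1492992 _ _ 212000 1000 213000 rows212_ok rows212_len rfl rowsFrom213_ok

theorem rowsFrom212_len : rowsFrom212.length = 36832 := by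
  unfold rowsFrom212
  rw [List.length_append, rows212_len, rowsFrom213_len]

theorem rowsFrom211_ok : checkRows F 6 2097152 1492992 rowsFrom211 211000 = true :=
  checkRows_append_of F 6 2097152 1492992 _ _ 211000 1000 212000 rows211_ok rows211_len rfl rowsFrom212_ok

theorem rowsFrom211_len : rowsFrom211.length = 37832 := by
  unfold rowsFrom211
  rw [List.length_append, rows211_len, rowsFrom212_len]

theorem rowsFrom210_ok : checkRows F 6 2097152 1492992 rowsFrom210 210000 = true :=
  checkRows_append_of F 6 2097152 1492992 _ _ 210000 1000 211000 rows210_ok rows210_len rfl rowsFrom211_ok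

theorem rowsFrom210_len : rowsFrom210.length = 38832 := by
  unfold rowsFrom210
  rw [List.length_append, rows210_len, rowsFrom211_len]

theorem rowsFrom209_ok : checkRows F 6 2097152 1492992 rowsFrom209 209000 = true :=
  checkRows_append_of F 6 2097152 1492992 _ _ 209000 1000 210000 rows209_ok rows209_len rfl rowsFrom210_ok

theorem rowsFrom209_len : rowsFrom209.length = 39832 := by
  unfold rowsFrom209
  rw [List.length_append, rows209_len, rowsFrom210_len]

theorem rowsFrom208_ok : checkRows F 6 2097152 1492992 rowsFrom208 208000 = true :=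
  checkRows_append_of F 6 2097152 1492992 _ _ 208000 1000 209000 rows208_ok rows208_len rfl rowsFrom209_ok

theorem rowsFrom208_len : rowsFrom208.length = 40832 := by
  unfold rowsFrom208
  rw [List.length_append, rows208_len, rowsFrom209_len]

theorem rowsFrom207_ok : checkRows F 6 2097152 1492992 rowsFrom207 207000 = true :=
  checkRows_append_of F 6 2097152 1492992 _ _ 207000 1000 208000 rows207_ok rows207_len rfl rowsFrom208_ok

theorem rowsFrom207_len : rowsFrom207.length = 41832 := by
  unfold rowsFrom207
  rw [List.length_append, rows207_len, rowsFrom208_len]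

theorem rowsFrom206_ok : checkRows F 6 2097152 1492992 rowsFrom206 206000 = true :=
  checkRows_append_of F 6 2097152 1492992 _ _ 206000 1000 207000 rows206_ok rows206_len rfl rowsFrom207_ok

theorem rowsFrom206_len : rowsFrom206.length = 42832 := by
  unfold rowsFrom206
  rw [List.length_append, rows206_len, rowsFrom207_len]

theorem rowsFrom205_ok : checkRows F 6 2097152 1492992 rowsFrom205 205000 = true :=
  checkRows_append_of F 6 2097152 1492992 _ _ 205000 1000 206000 rows205_ok rows205_len rfl rowsFrom206_ok

theorem rowsFrom205_len : rowsFrom205.length = 43832 := by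
  unfold rowsFrom205
  rw [List.length_append, rows205_len, rowsFrom206_len]

theorem rowsFrom204_ok : checkRows F 6 2097152 1492992 rowsFrom204 204000 = true :=
  checkRows_append_of F 6 2097152 1492992 _ _ 204000 1000 205000 rows204_ok rows204_len rfl rowsFrom205_ok

theorem rowsFrom204_len : rowsFrom204.length = 44832 := by
  unfold rowsFrom204
  rw [List.length_append, rows204_len, rowsFrom205_len]

theorem rowsFrom203_ok : checkRows F 6 2097152 1492992 rowsFrom203 203000 = true :=
  checkRows_append_of F 6 2097152 1492992 _ _ 203000 1000 204000 rows203_ok rows203_len rfl rowsFrom204_ok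

theorem rowsFrom203_len : rowsFrom203.length = 45832 := by
  unfold rowsFrom203
  rw [List.length_append, rows203_len, rowsFrom204_len]

theorem rowsFrom202_ok : checkRows F 6 2097152 1492992 rowsFrom202 202000 = true :=
  checkRows_append_of F 6 2097152 1492992 _ _ 202000 1000 203000 rows202_ok rows202_len rfl rowsFrom203_ok

theorem rowsFrom202_len : rowsFrom202.length = 46832 := by
  unfold rowsFrom202
  rw [List.length_append, rows202_len, rowsFrom203_len]

theorem rowsFrom201_ok : checkRows F 6 2097152 1492992 rowsFrom201 201000 = true :=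
  checkRows_append_of F 6 2097152 1492992 _ _ 201000 1000 202000 rows201_ok rows201_len rfl rowsFrom202_ok

theorem rowsFrom201_len : rowsFrom201.length = 47832 := by
  unfold rowsFrom201
  rw [List.length_append, rows201_len, rowsFrom202_len]

theorem rowsFrom200_ok : checkRows F 6 2097152 1492992 rowsFrom200 200000 = true :=
  checkRows_append_of F 6 2097152 1492992 _ _ 200000 1000 201000 rows200_ok rows200_len rfl rowsFrom201_ok

theorem rowsFrom200_len : rowsFrom200.length = 48832 := by
  unfold rowsFrom200
  rw [List.length_append, rows200_len, rowsFrom201_len]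

theorem rowsFrom199_ok : checkRows F 6 2097152 1492992 rowsFrom199 199000 = true :=
  checkRows_append_of F 6 2097152 1492992 _ _ 199000 1000 200000 rows199_ok rows199_len rfl rowsFrom200_ok

theorem rowsFrom199_len : rowsFrom199.length = 49832 := by
  unfold rowsFrom199
  rw [List.length_append, rows199_len, rowsFrom200_len]

theorem rowsFrom198_ok : checkRows F 6 2097152 1492992 rowsFrom198 198000 = true :=
  checkRows_append_of F 6 2097152 1492992 _ _ 198000 1000 199000 rows198_ok rows198_len rfl rowsFrom199_ok

theorem rowsFrom198_len : rowsFrom198.length = 50832 := by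
  unfold rowsFrom198
  rw [List.length_append, rows198_len, rowsFrom199_len]

theorem rowsFrom197_ok : checkRows F 6 2097152 1492992 rowsFrom197 197000 = true :=
  checkRows_append_of F 6 2097152 1492992 _ _ 197000 1000 198000 rows197_ok rows197_len rfl rowsFrom198_ok

theorem rowsFrom197_len : rowsFrom197.length = 51832 := by
  unfold rowsFrom197
  rw [List.length_append, rows197_len, rowsFrom198_len]

theorem rowsFrom196_ok : checkRows F 6 2097152 1492992 rowsFrom196 196000 = true :=
  checkRows_append_of F 6 2097152 1492992 _ _ 196000 1000 197000 rows196_ok rows196_len rfl rowsFrom197_ok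

theorem rowsFrom196_len : rowsFrom196.length = 52832 := by
  unfold rowsFrom196
  rw [List.length_append, rows196_len, rowsFrom197_len]

theorem rowsFrom195_ok : checkRows F 6 2097152 1492992 rowsFrom195 195000 = true :=
  checkRows_append_of F 6 2097152 1492992 _ _ 195000 1000 196000 rows195_ok rows195_len rfl rowsFrom196_ok

theorem rowsFrom195_len : rowsFrom195.length = 53832 := by
  unfold rowsFrom195
  rw [List.length_append, rows195_len, rowsFrom196_len]

theorem rowsFrom194_ok : checkRows F 6 2097152 1492992 rowsFrom194 194000 = true :=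
  checkRows_append_of F 6 2097152 1492992 _ _ 194000 1000 195000 rows194_ok rows194_len rfl rowsFrom195_ok

theorem rowsFrom194_len : rowsFrom194.length = 54832 := by
  unfold rowsFrom194
  rw [List.length_append, rows194_len, rowsFrom195_len]

theorem rowsFrom193_ok : checkRows F 6 2097152 1492992 rowsFrom193 193000 = true :=
  checkRows_append_of F 6 2097152 1492992 _ _ 193000 1000 194000 rows193_ok rows193_len rfl rowsFrom194_ok

theorem rowsFrom193_len : rowsFrom193.length = 55832 := by
  unfold rowsFrom193
  rw [List.length_append, rows193_len, rowsFrom194_len]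

theorem rowsFrom192_ok : checkRows F 6 2097152 1492992 rowsFrom192 192000 = true :=
  checkRows_append_of F 6 2097152 1492992 _ _ 192000 1000 193000 rows192_ok rows192_len rfl rowsFrom193_ok

theorem rowsFrom192_len : rowsFrom192.length = 56832 := by
  unfold rowsFrom192
  rw [List.length_append, rows192_len, rowsFrom193_len]

theorem rowsFrom191_ok : checkRows F 6 2097152 1492992 rowsFrom191 191000 = true :=
  checkRows_append_of F 6 2097152 1492992 _ _ 191000 1000 192000 rows191_ok rows191_len rfl rowsFrom192_ok

theorem rowsFrom191_len : rowsFrom191.length = 57832 := by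
  unfold rowsFrom191
  rw [List.length_append, rows191_len, rowsFrom192_len]

theorem rowsFrom190_ok : checkRows F 6 2097152 1492992 rowsFrom190 190000 = true :=
  checkRows_append_of F 6 2097152 1492992 _ _ 190000 1000 191000 rows190_ok rows190_len rfl rowsFrom191_ok

theorem rowsFrom190_len : rowsFrom190.length = 58832 := by
  unfold rowsFrom190
  rw [List.length_append, rows190_len, rowsFrom191_len]

theorem rowsFrom189_ok : checkRows F 6 2097152 1492992 rowsFrom189 189000 = true :=
  checkRows_append_of F 6 2097152 1492992 _ _ 189000 1000 190000 rows189_ok rows189_len rfl rowsFrom190_ok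

theorem rowsFrom189_len : rowsFrom189.length = 59832 := by
  unfold rowsFrom189
  rw [List.length_append, rows189_len, rowsFrom190_len]

theorem rowsFrom188_ok : checkRows F 6 2097152 1492992 rowsFrom188 188000 = true :=
  checkRows_append_of F 6 2097152 1492992 _ _ 188000 1000 189000 rows188_ok rows188_len rfl rowsFrom189_ok

theorem rowsFrom188_len : rowsFrom188.length = 60832 := by
  unfold rowsFrom188
  rw [List.length_append, rows188_len, rowsFrom189_len]

theorem rowsFrom187_ok : checkRows F 6 2097152 1492992 rowsFrom187 187000 = true :=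
  checkRows_append_of F 6 2097152 1492992 _ _ 187000 1000 188000 rows187_ok rows187_len rfl rowsFrom188_ok

theorem rowsFrom187_len : rowsFrom187.length = 61832 := by
  unfold rowsFrom187
  rw [List.length_append, rows187_len, rowsFrom188_len]

theorem rowsFrom186_ok : checkRows F 6 2097152 1492992 rowsFrom186 186000 = true :=
  checkRows_append_of F 6 2097152 1492992 _ _ 186000 1000 187000 rows186_ok rows186_len rfl rowsFrom187_ok

theorem rowsFrom186_len : rowsFrom186.length = 62832 := by
  unfold rowsFrom186
  rw [List.length_append, rows186_len, rowsFrom187_len]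

theorem rowsFrom185_ok : checkRows F 6 2097152 1492992 rowsFrom185 185000 = true :=
  checkRows_append_of F 6 2097152 1492992 _ _ 185000 1000 186000 rows185_ok rows185_len rfl rowsFrom186_ok

theorem rowsFrom185_len : rowsFrom185.length = 63832 := by
  unfold rowsFrom185
  rw [List.length_append, rows185_len, rowsFrom186_len]

theorem rowsFrom184_ok : checkRows F 6 2097152 1492992 rowsFrom184 184000 = true :=
  checkRows_append_of F 6 2097152 1492992 _ _ 184000 1000 185000 rows184_ok rows184_len rfl rowsFrom185_ok

theorem rowsFrom184_len : rowsFrom184.length = 64832 := by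
  unfold rowsFrom184
  rw [List.length_append, rows184_len, rowsFrom185_len]

theorem rowsFrom183_ok : checkRows F 6 2097152 1492992 rowsFrom183 183000 = true :=
  checkRows_append_of F 6 2097152 1492992 _ _ 183000 1000 184000 rows183_ok rows183_len rfl rowsFrom184_ok

theorem rowsFrom183_len : rowsFrom183.length = 65832 := by
  unfold rowsFrom183
  rw [List.length_append, rows183_len, rowsFrom184_len]

theorem rowsFrom182_ok : checkRows F 6 2097152 1492992 rowsFrom182 182000 = true :=
  checkRows_append_of F 6 2097152 1492992 _ _ 182000 1000 183000 rows182_ok rows182_len rfl rowsFrom183_ok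

theorem rowsFrom182_len : rowsFrom182.length = 66832 := by
  unfold rowsFrom182
  rw [List.length_append, rows182_len, rowsFrom183_len]

theorem rowsFrom181_ok : checkRows F 6 2097152 1492992 rowsFrom181 181000 = true :=
  checkRows_append_of F 6 2097152 1492992 _ _ 181000 1000 182000 rows181_ok rows181_len rfl rowsFrom182_ok

theorem rowsFrom181_len : rowsFrom181.length = 67832 := by
  unfold rowsFrom181
  rw [List.length_append, rows181_len, rowsFrom182_len]

theorem rowsFrom180_ok : checkRows F 6 2097152 1492992 rowsFrom180 180000 = true :=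
  checkRows_append_of F 6 2097152 1492992 _ _ 180000 1000 181000 rows180_ok rows180_len rfl rowsFrom181_ok

theorem rowsFrom180_len : rowsFrom180.length = 68832 := by
  unfold rowsFrom180
  rw [List.length_append, rows180_len, rowsFrom181_len]

theorem rowsFrom179_ok : checkRows F 6 2097152 1492992 rowsFrom179 179000 = true :=
  checkRows_append_of F 6 2097152 1492992 _ _ 179000 1000 180000 rows179_ok rows179_len rfl rowsFrom180_ok

theorem rowsFrom179_len : rowsFrom179.length = 69832 := by
  unfold rowsFrom179
  rw [List.length_append, rows179_len, rowsFrom180_len]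

theorem rowsFrom178_ok : checkRows F 6 2097152 1492992 rowsFrom178 178000 = true :=
  checkRows_append_of F 6 2097152 1492992 _ _ 178000 1000 179000 rows178_ok rows178_len rfl rowsFrom179_ok

theorem rowsFrom178_len : rowsFrom178.length = 70832 := by
  unfold rowsFrom178
  rw [List.length_append, rows178_len, rowsFrom179_len]

theorem rowsFrom177_ok : checkRows F 6 2097152 1492992 rowsFrom177 177000 = true :=
  checkRows_append_of F 6 2097152 1492992 _ _ 177000 1000 178000 rows177_ok rows177_len rfl rowsFrom178_ok

theorem rowsFrom177_len : rowsFrom177.length = 71832 := by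
  unfold rowsFrom177
  rw [List.length_append, rows177_len, rowsFrom178_len]

theorem rowsFrom176_ok : checkRows F 6 2097152 1492992 rowsFrom176 176000 = true :=
  checkRows_append_of F 6 2097152 1492992 _ _ 176000 1000 177000 rows176_ok rows176_len rfl rowsFrom177_ok

theorem rowsFrom176_len : rowsFrom176.length = 72832 := by
  unfold rowsFrom176
  rw [List.length_append, rows176_len, rowsFrom177_len]

theorem rowsFrom175_ok : checkRows F 6 2097152 1492992 rowsFrom175 175000 = true :=
  checkRows_append_of F 6 2097152 1492992 _ _ 175000 1000 176000 rows175_ok rows175_len rfl rowsFrom176_ok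

theorem rowsFrom175_len : rowsFrom175.length = 73832 := by
  unfold rowsFrom175
  rw [List.length_append, rows175_len, rowsFrom176_len]

theorem rowsFrom174_ok : checkRows F 6 2097152 1492992 rowsFrom174 174000 = true :=
  checkRows_append_of F 6 2097152 1492992 _ _ 174000 1000 175000 rows174_ok rows174_len rfl rowsFrom175_ok

theorem rowsFrom174_len : rowsFrom174.length = 74832 := by
  unfold rowsFrom174
  rw [List.length_append, rows174_len, rowsFrom175_len]

theorem rowsFrom173_ok : checkRows F 6 2097152 1492992 rowsFrom173 173000 = true :=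
  checkRows_append_of F 6 2097152 1492992 _ _ 173000 1000 174000 rows173_ok rows173_len rfl rowsFrom174_ok

theorem rowsFrom173_len : rowsFrom173.length = 75832 := by
  unfold rowsFrom173
  rw [List.length_append, rows173_len, rowsFrom174_len]

theorem rowsFrom172_ok : checkRows F 6 2097152 1492992 rowsFrom172 172000 = true :=
  checkRows_append_of F 6 2097152 1492992 _ _ 172000 1000 173000 rows172_ok rows172_len rfl rowsFrom173_ok

theorem rowsFrom172_len : rowsFrom172.length = 76832 := by
  unfold rowsFrom172
  rw [List.length_append, rows172_len, rowsFrom173_len]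

theorem rowsFrom171_ok : checkRows F 6 2097152 1492992 rowsFrom171 171000 = true :=
  checkRows_append_of F 6 2097152 1492992 _ _ 171000 1000 172000 rows171_ok rows171_len rfl rowsFrom172_ok

theorem rowsFrom171_len : rowsFrom171.length = 77832 := by
  unfold rowsFrom171
  rw [List.length_append, rows171_len, rowsFrom172_len]

theorem rowsFrom170_ok : checkRows F 6 2097152 1492992 rowsFrom170 170000 = true :=
  checkRows_append_of F 6 2097152 1492992 _ _ 170000 1000 171000 rows170_ok rows170_len rfl rowsFrom171_ok

theorem rowsFrom170_len : rowsFrom170.length = 78832 := by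
  unfold rowsFrom170
  rw [List.length_append, rows170_len, rowsFrom171_len]

theorem rowsFrom169_ok : checkRows F 6 2097152 1492992 rowsFrom169 169000 = true :=
  checkRows_append_of F 6 2097152 1492992 _ _ 169000 1000 170000 rows169_ok rows169_len rfl rowsFrom170_ok

theorem rowsFrom169_len : rowsFrom169.length = 79832 := by
  unfold rowsFrom169
  rw [List.length_append, rows169_len, rowsFrom170_len]

theorem rowsFrom168_ok : checkRows F 6 2097152 1492992 rowsFrom168 168000 = true :=
  checkRows_append_of F 6 2097152 1492992 _ _ 168000 1000 169000 rows168_ok rows168_len rfl rowsFrom169_ok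

theorem rowsFrom168_len : rowsFrom168.length = 80832 := by
  unfold rowsFrom168
  rw [List.length_append, rows168_len, rowsFrom169_len]

theorem rowsFrom167_ok : checkRows F 6 2097152 1492992 rowsFrom167 167000 = true :=
  checkRows_append_of F 6 2097152 1492992 _ _ 167000 1000 168000 rows167_ok rows167_len rfl rowsFrom168_ok

theorem rowsFrom167_len : rowsFrom167.length = 81832 := by
  unfold rowsFrom167
  rw [List.length_append, rows167_len, rowsFrom168_len]

theorem rowsFrom166_ok : checkRows F 6 2097152 1492992 rowsFrom166 166000 = true :=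
  checkRows_append_of F 6 2097152 1492992 _ _ 166000 1000 167000 rows166_ok rows166_len rfl rowsFrom167_ok

theorem rowsFrom166_len : rowsFrom166.length = 82832 := by
  unfold rowsFrom166
  rw [List.length_append, rows166_len, rowsFrom167_len]

theorem rowsFrom165_ok : checkRows F 6 2097152 1492992 rowsFrom165 165000 = true :=
  checkRows_append_of F 6 2097152 1492992 _ _ 165000 1000 166000 rows165_ok rows165_len rfl rowsFrom166_ok

theorem rowsFrom165_len : rowsFrom165.length = 83832 := by
  unfold rowsFrom165
  rw [List.length_append, rows165_len, rowsFrom166_len]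

theorem rowsFrom164_ok : checkRows F 6 2097152 1492992 rowsFrom164 164000 = true :=
  checkRows_append_of F 6 2097152 1492992 _ _ 164000 1000 165000 rows164_ok rows164_len rfl rowsFrom165_ok

theorem rowsFrom164_len : rowsFrom164.length = 84832 := by
  unfold rowsFrom164
  rw [List.length_append, rows164_len, rowsFrom165_len]

theorem rowsFrom163_ok : checkRows F 6 2097152 1492992 rowsFrom163 163000 = true :=
  checkRows_append_of F 6 2097152 1492992 _ _ 163000 1000 164000 rows163_ok rows163_len rfl rowsFrom164_ok

theorem rowsFrom163_len : rowsFrom163.length = 85832 := by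
  unfold rowsFrom163
  rw [List.length_append, rows163_len, rowsFrom164_len]

theorem rowsFrom162_ok : checkRows F 6 2097152 1492992 rowsFrom162 162000 = true :=
  checkRows_append_of F 6 2097152 1492992 _ _ 162000 1000 163000 rows162_ok rows162_len rfl rowsFrom163_ok

theorem rowsFrom162_len : rowsFrom162.length = 86832 := by
  unfold rowsFrom162
  rw [List.length_append, rows162_len, rowsFrom163_len]

theorem rowsFrom161_ok : checkRows F 6 2097152 1492992 rowsFrom161 161000 = true :=
  checkRows_append_of F 6 2097152 1492992 _ _ 161000 1000 162000 rows161_ok rows161_len rfl rowsFrom162_ok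

theorem rowsFrom161_len : rowsFrom161.length = 87832 := by
  unfold rowsFrom161
  rw [List.length_append, rows161_len, rowsFrom162_len]

theorem rowsFrom160_ok : checkRows F 6 2097152 1492992 rowsFrom160 160000 = true :=
  checkRows_append_of F 6 2097152 1492992 _ _ 160000 1000 161000 rows160_ok rows160_len rfl rowsFrom161_ok

theorem rowsFrom160_len : rowsFrom160.length = 88832 := by
  unfold rowsFrom160
  rw [List.length_append, rows160_len, rowsFrom161_len]

theorem rowsFrom159_ok : checkRows F 6 2097152 1492992 rowsFrom159 159000 = true :=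
  checkRows_append_of F 6 2097152 1492992 _ _ 159000 1000 160000 rows159_ok rows159_len rfl rowsFrom160_ok

theorem rowsFrom159_len : rowsFrom159.length = 89832 := by
  unfold rowsFrom159
  rw [List.length_append, rows159_len, rowsFrom160_len]

theorem rowsFrom158_ok : checkRows F 6 2097152 1492992 rowsFrom158 158000 = true :=
  checkRows_append_of F 6 2097152 1492992 _ _ 158000 1000 159000 rows158_ok rows158_len rfl rowsFrom159_ok

theorem rowsFrom158_len : rowsFrom158.length = 90832 := by
  unfold rowsFrom158
  rw [List.length_append, rows158_len, rowsFrom159_len]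

theorem rowsFrom157_ok : checkRows F 6 2097152 1492992 rowsFrom157 157000 = true :=
  checkRows_append_of F 6 2097152 1492992 _ _ 157000 1000 158000 rows157_ok rows157_len rfl rowsFrom158_ok

theorem rowsFrom157_len : rowsFrom157.length = 91832 := by
  unfold rowsFrom157
  rw [List.length_append, rows157_len, rowsFrom158_len]

theorem rowsFrom156_ok : checkRows F 6 2097152 1492992 rowsFrom156 156000 = true :=
  checkRows_append_of F 6 2097152 1492992 _ _ 156000 1000 157000 rows156_ok rows156_len rfl rowsFrom157_ok

theorem rowsFrom156_len : rowsFrom156.length = 92832 := by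
  unfold rowsFrom156
  rw [List.length_append, rows156_len, rowsFrom157_len]

theorem rowsFrom155_ok : checkRows F 6 2097152 1492992 rowsFrom155 155000 = true :=
  checkRows_append_of F 6 2097152 1492992 _ _ 155000 1000 156000 rows155_ok rows155_len rfl rowsFrom156_ok

theorem rowsFrom155_len : rowsFrom155.length = 93832 := by
  unfold rowsFrom155
  rw [List.length_append, rows155_len, rowsFrom156_len]

theorem rowsFrom154_ok : checkRows F 6 2097152 1492992 rowsFrom154 154000 = true :=
  checkRows_append_of F 6 2097152 1492992 _ _ 154000 1000 155000 rows154_ok rows154_len rfl rowsFrom155_ok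

theorem rowsFrom154_len : rowsFrom154.length = 94832 := by
  unfold rowsFrom154
  rw [List.length_append, rows154_len, rowsFrom155_len]

theorem rowsFrom153_ok : checkRows F 6 2097152 1492992 rowsFrom153 153000 = true :=
  checkRows_append_of F 6 2097152 1492992 _ _ 153000 1000 154000 rows153_ok rows153_len rfl rowsFrom154_ok

theorem rowsFrom153_len : rowsFrom153.length = 95832 := by
  unfold rowsFrom153
  rw [List.length_append, rows153_len, rowsFrom154_len]

theorem rowsFrom152_ok : checkRows F 6 2097152 1492992 rowsFrom152 152000 = true :=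
  checkRows_append_of F 6 2097152 1492992 _ _ 152000 1000 153000 rows152_ok rows152_len rfl rowsFrom153_ok

theorem rowsFrom152_len : rowsFrom152.length = 96832 := by
  unfold rowsFrom152
  rw [List.length_append, rows152_len, rowsFrom153_len]

theorem rowsFrom151_ok : checkRows F 6 2097152 1492992 rowsFrom151 151000 = true :=
  checkRows_append_of F 6 2097152 1492992 _ _ 151000 1000 152000 rows151_ok rows151_len rfl rowsFrom152_ok

theorem rowsFrom151_len : rowsFrom151.length = 97832 := by
  unfold rowsFrom151
  rw [List.length_append, rows151_len, rowsFrom152_len]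

theorem rowsFrom150_ok : checkRows F 6 2097152 1492992 rowsFrom150 150000 = true :=
  checkRows_append_of F 6 2097152 1492992 _ _ 150000 1000 151000 rows150_ok rows150_len rfl rowsFrom151_ok

theorem rowsFrom150_len : rowsFrom150.length = 98832 := by
  unfold rowsFrom150
  rw [List.length_append, rows150_len, rowsFrom151_len]

theorem rowsFrom149_ok : checkRows F 6 2097152 1492992 rowsFrom149 149000 = true :=
  checkRows_append_of F 6 2097152 1492992 _ _ 149000 1000 150000 rows149_ok rows149_len rfl rowsFrom150_ok

theorem rowsFrom149_len : rowsFrom149.length = 99832 := by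
  unfold rowsFrom149
  rw [List.length_append, rows149_len, rowsFrom150_len]

theorem rowsFrom148_ok : checkRows F 6 2097152 1492992 rowsFrom148 148000 = true :=
  checkRows_append_of F 6 2097152 1492992 _ _ 148000 1000 149000 rows148_ok rows148_len rfl rowsFrom149_ok

theorem rowsFrom148_len : rowsFrom148.length = 100832 := by
  unfold rowsFrom148
  rw [List.length_append, rows148_len, rowsFrom149_len]

theorem rowsFrom147_ok : checkRows F 6 2097152 1492992 rowsFrom147 147000 = true :=
  checkRows_append_of F 6 2097152 1492992 _ _ 147000 1000 148000 rows147_ok rows147_len rfl rowsFrom148_ok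

theorem rowsFrom147_len : rowsFrom147.length = 101832 := by
  unfold rowsFrom147
  rw [List.length_append, rows147_len, rowsFrom148_len]

theorem rowsFrom146_ok : checkRows F 6 2097152 1492992 rowsFrom146 146000 = true :=
  checkRows_append_of F 6 2097152 1492992 _ _ 146000 1000 147000 rows146_ok rows146_len rfl rowsFrom147_ok

theorem rowsFrom146_len : rowsFrom146.length = 102832 := by
  unfold rowsFrom146
  rw [List.length_append, rows146_len, rowsFrom147_len]

theorem rowsFrom145_ok : checkRows F 6 2097152 1492992 rowsFrom145 145000 = true :=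
  checkRows_append_of F 6 2097152 1492992 _ _ 145000 1000 146000 rows145_ok rows145_len rfl rowsFrom146_ok

theorem rowsFrom145_len : rowsFrom145.length = 103832 := by
  unfold rowsFrom145
  rw [List.length_append, rows145_len, rowsFrom146_len]

theorem rowsFrom144_ok : checkRows F 6 2097152 1492992 rowsFrom144 144000 = true :=
  checkRows_append_of F 6 2097152 1492992 _ _ 144000 1000 145000 rows144_ok rows144_len rfl rowsFrom145_ok

theorem rowsFrom144_len : rowsFrom144.length = 104832 := by
  unfold rowsFrom144
  rw [List.length_append, rows144_len, rowsFrom145_len]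

theorem rowsFrom143_ok : checkRows F 6 2097152 1492992 rowsFrom143 143000 = true :=
  checkRows_append_of F 6 2097152 1492992 _ _ 143000 1000 144000 rows143_ok rows143_len rfl rowsFrom144_ok

theorem rowsFrom143_len : rowsFrom143.length = 105832 := by
  unfold rowsFrom143
  rw [List.length_append, rows143_len, rowsFrom144_len]

theorem rowsFrom142_ok : checkRows F 6 2097152 1492992 rowsFrom142 142000 = true :=
  checkRows_append_of F 6 2097152 1492992 _ _ 142000 1000 143000 rows142_ok rows142_len rfl rowsFrom143_ok

theorem rowsFrom142_len : rowsFrom142.length = 106832 := by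
  unfold rowsFrom142
  rw [List.length_append, rows142_len, rowsFrom143_len]

theorem rowsFrom141_ok : checkRows F 6 2097152 1492992 rowsFrom141 141000 = true :=
  checkRows_append_of F 6 2097152 1492992 _ _ 141000 1000 142000 rows141_ok rows141_len rfl rowsFrom142_ok

theorem rowsFrom141_len : rowsFrom141.length = 107832 := by
  unfold rowsFrom141
  rw [List.length_append, rows141_len, rowsFrom142_len]

theorem rowsFrom140_ok : checkRows F 6 2097152 1492992 rowsFrom140 140000 = true :=
  checkRows_append_of F 6 2097152 1492992 _ _ 140000 1000 141000 rows140_ok rows140_len rfl rowsFrom141_ok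

theorem rowsFrom140_len : rowsFrom140.length = 108832 := by
  unfold rowsFrom140
  rw [List.length_append, rows140_len, rowsFrom141_len]

theorem rowsFrom139_ok : checkRows F 6 2097152 1492992 rowsFrom139 139000 = true :=
  checkRows_append_of F 6 2097152 1492992 _ _ 139000 1000 140000 rows139_ok rows139_len rfl rowsFrom140_ok

theorem rowsFrom139_len : rowsFrom139.length = 109832 := by
  unfold rowsFrom139
  rw [List.length_append, rows139_len, rowsFrom140_len]

theorem rowsFrom138_ok : checkRows F 6 2097152 1492992 rowsFrom138 138000 = true :=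
  checkRows_append_of F 6 2097152 1492992 _ _ 138000 1000 139000 rows138_ok rows138_len rfl rowsFrom139_ok

theorem rowsFrom138_len : rowsFrom138.length = 110832 := by
  unfold rowsFrom138
  rw [List.length_append, rows138_len, rowsFrom139_len]

theorem rowsFrom137_ok : checkRows F 6 2097152 1492992 rowsFrom137 137000 = true :=
  checkRows_append_of F 6 2097152 1492992 _ _ 137000 1000 138000 rows137_ok rows137_len rfl rowsFrom138_ok

theorem rowsFrom137_len : rowsFrom137.length = 111832 := by
  unfold rowsFrom137
  rw [List.length_append, rows137_len, rowsFrom138_len]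

theorem rowsFrom136_ok : checkRows F 6 2097152 1492992 rowsFrom136 136000 = true :=
  checkRows_append_of F 6 2097152 1492992 _ _ 136000 1000 137000 rows136_ok rows136_len rfl rowsFrom137_ok

theorem rowsFrom136_len : rowsFrom136.length = 112832 := by
  unfold rowsFrom136
  rw [List.length_append, rows136_len, rowsFrom137_len]

theorem rowsFrom135_ok : checkRows F 6 2097152 1492992 rowsFrom135 135000 = true :=
  checkRows_append_of F 6 2097152 1492992 _ _ 135000 1000 136000 rows135_ok rows135_len rfl rowsFrom136_ok

theorem rowsFrom135_len : rowsFrom135.length = 113832 := by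
  unfold rowsFrom135
  rw [List.length_append, rows135_len, rowsFrom136_len]

theorem rowsFrom134_ok : checkRows F 6 2097152 1492992 rowsFrom134 134000 = true :=
  checkRows_append_of F 6 2097152 1492992 _ _ 134000 1000 135000 rows134_ok rows134_len rfl rowsFrom135_ok

theorem rowsFrom134_len : rowsFrom134.length = 114832 := by
  unfold rowsFrom134
  rw [List.length_append, rows134_len, rowsFrom135_len]

theorem rowsFrom133_ok : checkRows F 6 2097152 1492992 rowsFrom133 133000 = true :=
  checkRows_append_of F 6 2097152 1492992 _ _ 133000 1000 134000 rows133_ok rows133_len rfl rowsFrom134_ok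

theorem rowsFrom133_len : rowsFrom133.length = 115832 := by
  unfold rowsFrom133
  rw [List.length_append, rows133_len, rowsFrom134_len]

theorem rowsFrom132_ok : checkRows F 6 2097152 1492992 rowsFrom132 132000 = true :=
  checkRows_append_of F 6 2097152 1492992 _ _ 132000 1000 133000 rows132_ok rows132_len rfl rowsFrom133_ok

theorem rowsFrom132_len : rowsFrom132.length = 116832 := by
  unfold rowsFrom132
  rw [List.length_append, rows132_len, rowsFrom133_len]

theorem rowsFrom131_ok : checkRows F 6 2097152 1492992 rowsFrom131 131000 = true :=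
  checkRows_append_of F 6 2097152 1492992 _ _ 131000 1000 132000 rows131_ok rows131_len rfl rowsFrom132_ok

theorem rowsFrom131_len : rowsFrom131.length = 117832 := by
  unfold rowsFrom131
  rw [List.length_append, rows131_len, rowsFrom132_len]

theorem rowsFrom130_ok : checkRows F 6 2097152 1492992 rowsFrom130 130000 = true :=
  checkRows_append_of F 6 2097152 1492992 _ _ 130000 1000 131000 rows130_ok rows130_len rfl rowsFrom131_ok

theorem rowsFrom130_len : rowsFrom130.length = 118832 := by
  unfold rowsFrom130
  rw [List.length_append, rows130_len, rowsFrom131_len]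

theorem rowsFrom129_ok : checkRows F 6 2097152 1492992 rowsFrom129 129000 = true :=
  checkRows_append_of F 6 2097152 1492992 _ _ 129000 1000 130000 rows129_ok rows129_len rfl rowsFrom130_ok

theorem rowsFrom129_len : rowsFrom129.length = 119832 := by
  unfold rowsFrom129
  rw [List.length_append, rows129_len, rowsFrom130_len]

theorem rowsFrom128_ok : checkRows F 6 2097152 1492992 rowsFrom128 128000 = true :=
  checkRows_append_of F 6 2097152 1492992 _ _ 128000 1000 129000 rows128_ok rows128_len rfl rowsFrom129_ok

theorem rowsFrom128_len : rowsFrom128.length = 120832 := by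
  unfold rowsFrom128
  rw [List.length_append, rows128_len, rowsFrom129_len]

theorem rowsFrom127_ok : checkRows F 6 2097152 1492992 rowsFrom127 127000 = true :=
  checkRows_append_of F 6 2097152 1492992 _ _ 127000 1000 128000 rows127_ok rows127_len rfl rowsFrom128_ok

theorem rowsFrom127_len : rowsFrom127.length = 121832 := by
  unfold rowsFrom127
  rw [List.length_append, rows127_len, rowsFrom128_len]

theorem rowsFrom126_ok : checkRows F 6 2097152 1492992 rowsFrom126 126000 = true :=
  checkRows_append_of F 6 2097152 1492992 _ _ 126000 1000 127000 rows126_ok rows126_len rfl rowsFrom127_ok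

theorem rowsFrom126_len : rowsFrom126.length = 122832 := by
  unfold rowsFrom126
  rw [List.length_append, rows126_len, rowsFrom127_len]

theorem rowsFrom125_ok : checkRows F 6 2097152 1492992 rowsFrom125 125000 = true :=
  checkRows_append_of F 6 2097152 1492992 _ _ 125000 1000 126000 rows125_ok rows125_len rfl rowsFrom126_ok

theorem rowsFrom125_len : rowsFrom125.length = 123832 := by
  unfold rowsFrom125
  rw [List.length_append, rows125_len, rowsFrom126_len]

theorem rowsFrom124_ok : checkRows F 6 2097152 1492992 rowsFrom124 124000 = true :=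
  checkRows_append_of F 6 2097152 1492992 _ _ 124000 1000 125000 rows124_ok rows124_len rfl rowsFrom125_ok

theorem rowsFrom124_len : rowsFrom124.length = 124832 := by
  unfold rowsFrom124
  rw [List.length_append, rows124_len, rowsFrom125_len]

theorem rowsFrom123_ok : checkRows F 6 2097152 1492992 rowsFrom123 123000 = true :=
  checkRows_append_of F 6 2097152 1492992 _ _ 123000 1000 124000 rows123_ok rows123_len rfl rowsFrom124_ok

theorem rowsFrom123_len : rowsFrom123.length = 125832 := by
  unfold rowsFrom123
  rw [List.length_append, rows123_len, rowsFrom124_len]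

theorem rowsFrom122_ok : checkRows F 6 2097152 1492992 rowsFrom122 122000 = true :=
  checkRows_append_of F 6 2097152 1492992 _ _ 122000 1000 123000 rows122_ok rows122_len rfl rowsFrom123_ok

theorem rowsFrom122_len : rowsFrom122.length = 126832 := by
  unfold rowsFrom122
  rw [List.length_append, rows122_len, rowsFrom123_len]

theorem rowsFrom121_ok : checkRows F 6 2097152 1492992 rowsFrom121 121000 = true :=
  checkRows_append_of F 6 2097152 1492992 _ _ 121000 1000 122000 rows121_ok rows121_len rfl rowsFrom122_ok

theorem rowsFrom121_len : rowsFrom121.length = 127832 := by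
  unfold rowsFrom121
  rw [List.length_append, rows121_len, rowsFrom122_len]

theorem rowsFrom120_ok : checkRows F 6 2097152 1492992 rowsFrom120 120000 = true :=
  checkRows_append_of F 6 2097152 1492992 _ _ 120000 1000 121000 rows120_ok rows120_len rfl rowsFrom121_ok

theorem rowsFrom120_len : rowsFrom120.length = 128832 := by
  unfold rowsFrom120
  rw [List.length_append, rows120_len, rowsFrom121_len]

theorem rowsFrom119_ok : checkRows F 6 2097152 1492992 rowsFrom119 119000 = true :=
  checkRows_append_of F 6 2097152 1492992 _ _ 119000 1000 120000 rows119_ok rows119_len rfl rowsFrom120_ok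

theorem rowsFrom119_len : rowsFrom119.length = 129832 := by
  unfold rowsFrom119
  rw [List.length_append, rows119_len, rowsFrom120_len]

theorem rowsFrom118_ok : checkRows F 6 2097152 1492992 rowsFrom118 118000 = true :=
  checkRows_append_of F 6 2097152 1492992 _ _ 118000 1000 119000 rows118_ok rows118_len rfl rowsFrom119_ok

theorem rowsFrom118_len : rowsFrom118.length = 130832 := by
  unfold rowsFrom118
  rw [List.length_append, rows118_len, rowsFrom119_len]

theorem rowsFrom117_ok : checkRows F 6 2097152 1492992 rowsFrom117 117000 = true :=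
  checkRows_append_of F 6 2097152 1492992 _ _ 117000 1000 118000 rows117_ok rows117_len rfl rowsFrom118_ok

theorem rowsFrom117_len : rowsFrom117.length = 131832 := by
  unfold rowsFrom117
  rw [List.length_append, rows117_len, rowsFrom118_len]

theorem rowsFrom116_ok : checkRows F 6 2097152 1492992 rowsFrom116 116000 = true :=
  checkRows_append_of F 6 2097152 1492992 _ _ 116000 1000 117000 rows116_ok rows116_len rfl rowsFrom117_ok

theorem rowsFrom116_len : rowsFrom116.length = 132832 := by
  unfold rowsFrom116
  rw [List.length_append, rows116_len, rowsFrom117_len]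

theorem rowsFrom115_ok : checkRows F 6 2097152 1492992 rowsFrom115 115000 = true :=
  checkRows_append_of F 6 2097152 1492992 _ _ 115000 1000 116000 rows115_ok rows115_len rfl rowsFrom116_ok

theorem rowsFrom115_len : rowsFrom115.length = 133832 := by
  unfold rowsFrom115
  rw [List.length_append, rows115_len, rowsFrom116_len]

theorem rowsFrom114_ok : checkRows F 6 2097152 1492992 rowsFrom114 114000 = true :=
  checkRows_append_of F 6 2097152 1492992 _ _ 114000 1000 115000 rows114_ok rows114_len rfl rowsFrom115_ok

theorem rowsFrom114_len : rowsFrom114.length = 134832 := by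
  unfold rowsFrom114
  rw [List.length_append, rows114_len, rowsFrom115_len]

theorem rowsFrom113_ok : checkRows F 6 2097152 1492992 rowsFrom113 113000 = true :=
  checkRows_append_of F 6 2097152 1492992 _ _ 113000 1000 114000 rows113_ok rows113_len rfl rowsFrom114_ok

theorem rowsFrom113_len : rowsFrom113.length = 135832 := by
  unfold rowsFrom113
  rw [List.length_append, rows113_len, rowsFrom114_len]

theorem rowsFrom112_ok : checkRows F 6 2097152 1492992 rowsFrom112 112000 = true :=
  checkRows_append_of F 6 2097152 1492992 _ _ 112000 1000 113000 rows112_ok rows112_len rfl rowsFrom113_ok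

theorem rowsFrom112_len : rowsFrom112.length = 136832 := by
  unfold rowsFrom112
  rw [List.length_append, rows112_len, rowsFrom113_len]

theorem rowsFrom111_ok : checkRows F 6 2097152 1492992 rowsFrom111 111000 = true :=
  checkRows_append_of F 6 2097152 1492992 _ _ 111000 1000 112000 rows111_ok rows111_len rfl rowsFrom112_ok

theorem rowsFrom111_len : rowsFrom111.length = 137832 := by
  unfold rowsFrom111
  rw [List.length_append, rows111_len, rowsFrom112_len]

theorem rowsFrom110_ok : checkRows F 6 2097152 1492992 rowsFrom110 110000 = true :=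
  checkRows_append_of F 6 2097152 1492992 _ _ 110000 1000 111000 rows110_ok rows110_len rfl rowsFrom111_ok

theorem rowsFrom110_len : rowsFrom110.length = 138832 := by
  unfold rowsFrom110
  rw [List.length_append, rows110_len, rowsFrom111_len]

theorem rowsFrom109_ok : checkRows F 6 2097152 1492992 rowsFrom109 109000 = true :=
  checkRows_append_of F 6 2097152 1492992 _ _ 109000 1000 110000 rows109_ok rows109_len rfl rowsFrom110_ok

theorem rowsFrom109_len : rowsFrom109.length = 139832 := by
  unfold rowsFrom109
  rw [List.length_append, rows109_len, rowsFrom110_len]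

theorem rowsFrom108_ok : checkRows F 6 2097152 1492992 rowsFrom108 108000 = true :=
  checkRows_append_of F 6 2097152 1492992 _ _ 108000 1000 109000 rows108_ok rows108_len rfl rowsFrom109_ok

theorem rowsFrom108_len : rowsFrom108.length = 140832 := by
  unfold rowsFrom108
  rw [List.length_append, rows108_len, rowsFrom109_len]

theorem rowsFrom107_ok : checkRows F 6 2097152 1492992 rowsFrom107 107000 = true :=
  checkRows_append_of F 6 2097152 1492992 _ _ 107000 1000 108000 rows107_ok rows107_len rfl rowsFrom108_ok

theorem rowsFrom107_len : rowsFrom107.length = 141832 := by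
  unfold rowsFrom107
  rw [List.length_append, rows107_len, rowsFrom108_len]

theorem rowsFrom106_ok : checkRows F 6 2097152 1492992 rowsFrom106 106000 = true :=
  checkRows_append_of F 6 2097152 1492992 _ _ 106000 1000 107000 rows106_ok rows106_len rfl rowsFrom107_ok

theorem rowsFrom106_len : rowsFrom106.length = 142832 := by
  unfold rowsFrom106
  rw [List.length_append, rows106_len, rowsFrom107_len]

theorem rowsFrom105_ok : checkRows F 6 2097152 1492992 rowsFrom105 105000 = true :=
  checkRows_append_of F 6 2097152 1492992 _ _ 105000 1000 106000 rows105_ok rows105_len rfl rowsFrom106_ok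

theorem rowsFrom105_len : rowsFrom105.length = 143832 := by
  unfold rowsFrom105
  rw [List.length_append, rows105_len, rowsFrom106_len]

theorem rowsFrom104_ok : checkRows F 6 2097152 1492992 rowsFrom104 104000 = true :=
  checkRows_append_of F 6 2097152 1492992 _ _ 104000 1000 105000 rows104_ok rows104_len rfl rowsFrom105_ok

theorem rowsFrom104_len : rowsFrom104.length = 144832 := by
  unfold rowsFrom104
  rw [List.length_append, rows104_len, rowsFrom105_len]

theorem rowsFrom103_ok : checkRows F 6 2097152 1492992 rowsFrom103 103000 = true :=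
  checkRows_append_of F 6 2097152 1492992 _ _ 103000 1000 104000 rows103_ok rows103_len rfl rowsFrom104_ok

theorem rowsFrom103_len : rowsFrom103.length = 145832 := by
  unfold rowsFrom103
  rw [List.length_append, rows103_len, rowsFrom104_len]

theorem rowsFrom102_ok : checkRows F 6 2097152 1492992 rowsFrom102 102000 = true :=
  checkRows_append_of F 6 2097152 1492992 _ _ 102000 1000 103000 rows102_ok rows102_len rfl rowsFrom103_ok

theorem rowsFrom102_len : rowsFrom102.length = 146832 := by
  unfold rowsFrom102
  rw [List.length_append, rows102_len, rowsFrom103_len]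

theorem rowsFrom101_ok : checkRows F 6 2097152 1492992 rowsFrom101 101000 = true :=
  checkRows_append_of F 6 2097152 1492992 _ _ 101000 1000 102000 rows101_ok rows101_len rfl rowsFrom102_ok

theorem rowsFrom101_len : rowsFrom101.length = 147832 := by
  unfold rowsFrom101
  rw [List.length_append, rows101_len, rowsFrom102_len]

theorem rowsFrom100_ok : checkRows F 6 2097152 1492992 rowsFrom100 100000 = true :=
  checkRows_append_of F 6 2097152 1492992 _ _ 100000 1000 101000 rows100_ok rows100_len rfl rowsFrom101_ok

theorem rowsFrom100_len : rowsFrom100.length = 148832 := by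
  unfold rowsFrom100
  rw [List.length_append, rows100_len, rowsFrom101_len]

theorem rowsFrom99_ok : checkRows F 6 2097152 1492992 rowsFrom99 99000 = true :=
  checkRows_append_of F 6 2097152 1492992 _ _ 99000 1000 100000 rows99_ok rows99_len rfl rowsFrom100_ok

theorem rowsFrom99_len : rowsFrom99.length = 149832 := by
  unfold rowsFrom99
  rw [List.length_append, rows99_len, rowsFrom100_len]

theorem rowsFrom98_ok : checkRows F 6 2097152 1492992 rowsFrom98 98000 = true :=
  checkRows_append_of F 6 2097152 1492992 _ _ 98000 1000 99000 rows98_ok rows98_len rfl rowsFrom99_ok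

theorem rowsFrom98_len : rowsFrom98.length = 150832 := by
  unfold rowsFrom98
  rw [List.length_append, rows98_len, rowsFrom99_len]

theorem rowsFrom97_ok : checkRows F 6 2097152 1492992 rowsFrom97 97000 = true :=
  checkRows_append_of F 6 2097152 1492992 _ _ 97000 1000 98000 rows97_ok rows97_len rfl rowsFrom98_ok

theorem rowsFrom97_len : rowsFrom97.length = 151832 := by
  unfold rowsFrom97
  rw [List.length_append, rows97_len, rowsFrom98_len]

theorem rowsFrom96_ok : checkRows F 6 2097152 1492992 rowsFrom96 96000 = true :=
  checkRows_append_of F 6 2097152 1492992 _ _ 96000 1000 97000 rows96_ok rows96_len rfl rowsFrom97_ok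

theorem rowsFrom96_len : rowsFrom96.length = 152832 := by
  unfold rowsFrom96
  rw [List.length_append, rows96_len, rowsFrom97_len]

theorem rowsFrom95_ok : checkRows F 6 2097152 1492992 rowsFrom95 95000 = true :=
  checkRows_append_of F 6 2097152 1492992 _ _ 95000 1000 96000 rows95_ok rows95_len rfl rowsFrom96_ok

theorem rowsFrom95_len : rowsFrom95.length = 153832 := by
  unfold rowsFrom95
  rw [List.length_append, rows95_len, rowsFrom96_len]

theorem rowsFrom94_ok : checkRows F 6 2097152 1492992 rowsFrom94 94000 = true :=
  checkRows_append_of F 6 2097152 1492992 _ _ 94000 1000 95000 rows94_ok rows94_len rfl rowsFrom95_ok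

theorem rowsFrom94_len : rowsFrom94.length = 154832 := by
  unfold rowsFrom94
  rw [List.length_append, rows94_len, rowsFrom95_len]

theorem rowsFrom93_ok : checkRows F 6 2097152 1492992 rowsFrom93 93000 = true :=
  checkRows_append_of F 6 2097152 1492992 _ _ 93000 1000 94000 rows93_ok rows93_len rfl rowsFrom94_ok

theorem rowsFrom93_len : rowsFrom93.length = 155832 := by
  unfold rowsFrom93
  rw [List.length_append, rows93_len, rowsFrom94_len]

theorem rowsFrom92_ok : checkRows F 6 2097152 1492992 rowsFrom92 92000 = true :=
  checkRows_append_of F 6 2097152 1492992 _ _ 92000 1000 93000 rows92_ok rows92_len rfl rowsFrom93_ok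

theorem rowsFrom92_len : rowsFrom92.length = 156832 := by
  unfold rowsFrom92
  rw [List.length_append, rows92_len, rowsFrom93_len]

theorem rowsFrom91_ok : checkRows F 6 2097152 1492992 rowsFrom91 91000 = true :=
  checkRows_append_of F 6 2097152 1492992 _ _ 91000 1000 92000 rows91_ok rows91_len rfl rowsFrom92_ok

theorem rowsFrom91_len : rowsFrom91.length = 157832 := by
  unfold rowsFrom91
  rw [List.length_append, rows91_len, rowsFrom92_len]

theorem rowsFrom90_ok : checkRows F 6 2097152 1492992 rowsFrom90 90000 = true :=
  checkRows_append_of F 6 2097152 1492992 _ _ 90000 1000 91000 rows90_ok rows90_len rfl rowsFrom91_ok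

theorem rowsFrom90_len : rowsFrom90.length = 158832 := by
  unfold rowsFrom90
  rw [List.length_append, rows90_len, rowsFrom91_len]

theorem rowsFrom89_ok : checkRows F 6 2097152 1492992 rowsFrom89 89000 = true :=
  checkRows_append_of F 6 2097152 1492992 _ _ 89000 1000 90000 rows89_ok rows89_len rfl rowsFrom90_ok

theorem rowsFrom89_len : rowsFrom89.length = 159832 := by
  unfold rowsFrom89
  rw [List.length_append, rows89_len, rowsFrom90_len]

theorem rowsFrom88_ok : checkRows F 6 2097152 1492992 rowsFrom88 88000 = true :=
  checkRows_append_of F 6 2097152 1492992 _ _ 88000 1000 89000 rows88_ok rows88_len rfl rowsFrom89_ok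

theorem rowsFrom88_len : rowsFrom88.length = 160832 := by
  unfold rowsFrom88
  rw [List.length_append, rows88_len, rowsFrom89_len]

theorem rowsFrom87_ok : checkRows F 6 2097152 1492992 rowsFrom87 87000 = true :=
  checkRows_append_of F 6 2097152 1492992 _ _ 87000 1000 88000 rows87_ok rows87_len rfl rowsFrom88_ok

theorem rowsFrom87_len : rowsFrom87.length = 161832 := by
  unfold rowsFrom87
  rw [List.length_append, rows87_len, rowsFrom88_len]

theorem rowsFrom86_ok : checkRows F 6 2097152 1492992 rowsFrom86 86000 = true :=
  checkRows_append_of F 6 2097152 1492992 _ _ 86000 1000 87000 rows86_ok rows86_len rfl rowsFrom87_ok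

theorem rowsFrom86_len : rowsFrom86.length = 162832 := by
  unfold rowsFrom86
  rw [List.length_append, rows86_len, rowsFrom87_len]

theorem rowsFrom85_ok : checkRows F 6 2097152 1492992 rowsFrom85 85000 = true :=
  checkRows_append_of F 6 2097152 1492992 _ _ 85000 1000 86000 rows85_ok rows85_len rfl rowsFrom86_ok

theorem rowsFrom85_len : rowsFrom85.length = 163832 := by
  unfold rowsFrom85
  rw [List.length_append, rows85_len, rowsFrom86_len]

theorem rowsFrom84_ok : checkRows F 6 2097152 1492992 rowsFrom84 84000 = true :=
  checkRows_append_of F 6 2097152 1492992 _ _ 84000 1000 85000 rows84_ok rows84_len rfl rowsFrom85_ok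

theorem rowsFrom84_len : rowsFrom84.length = 164832 := by
  unfold rowsFrom84
  rw [List.length_append, rows84_len, rowsFrom85_len]

theorem rowsFrom83_ok : checkRows F 6 2097152 1492992 rowsFrom83 83000 = true :=
  checkRows_append_of F 6 2097152 1492992 _ _ 83000 1000 84000 rows83_ok rows83_len rfl rowsFrom84_ok

theorem rowsFrom83_len : rowsFrom83.length = 165832 := by
  unfold rowsFrom83
  rw [List.length_append, rows83_len, rowsFrom84_len]

theorem rowsFrom82_ok : checkRows F 6 2097152 1492992 rowsFrom82 82000 = true :=
  checkRows_append_of F 6 2097152 1492992 _ _ 82000 1000 83000 rows82_ok rows82_len rfl rowsFrom83_ok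

theorem rowsFrom82_len : rowsFrom82.length = 166832 := by
  unfold rowsFrom82
  rw [List.length_append, rows82_len, rowsFrom83_len]

theorem rowsFrom81_ok : checkRows F 6 2097152 1492992 rowsFrom81 81000 = true :=
  checkRows_append_of F 6 2097152 1492992 _ _ 81000 1000 82000 rows81_ok rows81_len rfl rowsFrom82_ok

theorem rowsFrom81_len : rowsFrom81.length = 167832 := by
  unfold rowsFrom81
  rw [List.length_append, rows81_len, rowsFrom82_len]

theorem rowsFrom80_ok : checkRows F 6 2097152 1492992 rowsFrom80 80000 = true :=
  checkRows_append_of F 6 2097152 1492992 _ _ 80000 1000 81000 rows80_ok rows80_len rfl rowsFrom81_ok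

theorem rowsFrom80_len : rowsFrom80.length = 168832 := by
  unfold rowsFrom80
  rw [List.length_append, rows80_len, rowsFrom81_len]

theorem rowsFrom79_ok : checkRows F 6 2097152 1492992 rowsFrom79 79000 = true :=
  checkRows_append_of F 6 2097152 1492992 _ _ 79000 1000 80000 rows79_ok rows79_len rfl rowsFrom80_ok

theorem rowsFrom79_len : rowsFrom79.length = 169832 := by
  unfold rowsFrom79
  rw [List.length_append, rows79_len, rowsFrom80_len]

theorem rowsFrom78_ok : checkRows F 6 2097152 1492992 rowsFrom78 78000 = true :=
  checkRows_append_of F 6 2097152 1492992 _ _ 78000 1000 79000 rows78_ok rows78_len rfl rowsFrom79_ok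

theorem rowsFrom78_len : rowsFrom78.length = 170832 := by
  unfold rowsFrom78
  rw [List.length_append, rows78_len, rowsFrom79_len]

theorem rowsFrom77_ok : checkRows F 6 2097152 1492992 rowsFrom77 77000 = true :=
  checkRows_append_of F 6 2097152 1492992 _ _ 77000 1000 78000 rows77_ok rows77_len rfl rowsFrom78_ok

theorem rowsFrom77_len : rowsFrom77.length = 171832 := by
  unfold rowsFrom77
  rw [List.length_append, rows77_len, rowsFrom78_len]

theorem rowsFrom76_ok : checkRows F 6 2097152 1492992 rowsFrom76 76000 = true :=
  checkRows_append_of F 6 2097152 1492992 _ _ 76000 1000 77000 rows76_ok rows76_len rfl rowsFrom77_ok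

theorem rowsFrom76_len : rowsFrom76.length = 172832 := by
  unfold rowsFrom76
  rw [List.length_append, rows76_len, rowsFrom77_len]

theorem rowsFrom75_ok : checkRows F 6 2097152 1492992 rowsFrom75 75000 = true :=
  checkRows_append_of F 6 2097152 1492992 _ _ 75000 1000 76000 rows75_ok rows75_len rfl rowsFrom76_ok

theorem rowsFrom75_len : rowsFrom75.length = 173832 := by
  unfold rowsFrom75
  rw [List.length_append, rows75_len, rowsFrom76_len]

theorem rowsFrom74_ok : checkRows F 6 2097152 1492992 rowsFrom74 74000 = true :=
  checkRows_append_of F 6 2097152 1492992 _ _ 74000 1000 75000 rows74_ok rows74_len rfl rowsFrom75_ok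

theorem rowsFrom74_len : rowsFrom74.length = 174832 := by
  unfold rowsFrom74
  rw [List.length_append, rows74_len, rowsFrom75_len]

theorem rowsFrom73_ok : checkRows F 6 2097152 1492992 rowsFrom73 73000 = true :=
  checkRows_append_of F 6 2097152 1492992 _ _ 73000 1000 74000 rows73_ok rows73_len rfl rowsFrom74_ok

theorem rowsFrom73_len : rowsFrom73.length = 175832 := by
  unfold rowsFrom73
  rw [List.length_append, rows73_len, rowsFrom74_len]

theorem rowsFrom72_ok : checkRows F 6 2097152 1492992 rowsFrom72 72000 = true :=
  checkRows_append_of F 6 2097152 1492992 _ _ 72000 1000 73000 rows72_ok rows72_len rfl rowsFrom73_ok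

theorem rowsFrom72_len : rowsFrom72.length = 176832 := by
  unfold rowsFrom72
  rw [List.length_append, rows72_len, rowsFrom73_len]

theorem rowsFrom71_ok : checkRows F 6 2097152 1492992 rowsFrom71 71000 = true :=
  checkRows_append_of F 6 2097152 1492992 _ _ 71000 1000 72000 rows71_ok rows71_len rfl rowsFrom72_ok

theorem rowsFrom71_len : rowsFrom71.length = 177832 := by
  unfold rowsFrom71
  rw [List.length_append, rows71_len, rowsFrom72_len]

theorem rowsFrom70_ok : checkRows F 6 2097152 1492992 rowsFrom70 70000 = true :=
  checkRows_append_of F 6 2097152 1492992 _ _ 70000 1000 71000 rows70_ok rows70_len rfl rowsFrom71_ok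

theorem rowsFrom70_len : rowsFrom70.length = 178832 := by
  unfold rowsFrom70
  rw [List.length_append, rows70_len, rowsFrom71_len]

theorem rowsFrom69_ok : checkRows F 6 2097152 1492992 rowsFrom69 69000 = true :=
  checkRows_append_of F 6 2097152 1492992 _ _ 69000 1000 70000 rows69_ok rows69_len rfl rowsFrom70_ok

theorem rowsFrom69_len : rowsFrom69.length = 179832 := by
  unfold rowsFrom69
  rw [List.length_append, rows69_len, rowsFrom70_len]

theorem rowsFrom68_ok : checkRows F 6 2097152 1492992 rowsFrom68 68000 = true :=
  checkRows_append_of F 6 2097152 1492992 _ _ 68000 1000 69000 rows68_ok rows68_len rfl rowsFrom69_ok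

theorem rowsFrom68_len : rowsFrom68.length = 180832 := by
  unfold rowsFrom68
  rw [List.length_append, rows68_len, rowsFrom69_len]

theorem rowsFrom67_ok : checkRows F 6 2097152 1492992 rowsFrom67 67000 = true :=
  checkRows_append_of F 6 2097152 1492992 _ _ 67000 1000 68000 rows67_ok rows67_len rfl rowsFrom68_ok

theorem rowsFrom67_len : rowsFrom67.length = 181832 := by
  unfold rowsFrom67
  rw [List.length_append, rows67_len, rowsFrom68_len]

theorem rowsFrom66_ok : checkRows F 6 2097152 1492992 rowsFrom66 66000 = true :=
  checkRows_append_of F 6 2097152 1492992 _ _ 66000 1000 67000 rows66_ok rows66_len rfl rowsFrom67_ok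

theorem rowsFrom66_len : rowsFrom66.length = 182832 := by
  unfold rowsFrom66
  rw [List.length_append, rows66_len, rowsFrom67_len]

theorem rowsFrom65_ok : checkRows F 6 2097152 1492992 rowsFrom65 65000 = true :=
  checkRows_append_of F 6 2097152 1492992 _ _ 65000 1000 66000 rows65_ok rows65_len rfl rowsFrom66_ok

theorem rowsFrom65_len : rowsFrom65.length = 183832 := by
  unfold rowsFrom65
  rw [List.length_append, rows65_len, rowsFrom66_len]

theorem rowsFrom64_ok : checkRows F 6 2097152 1492992 rowsFrom64 64000 = true :=
  checkRows_append_of F 6 2097152 1492992 _ _ 64000 1000 65000 rows64_ok rows64_len rfl rowsFrom65_ok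

theorem rowsFrom64_len : rowsFrom64.length = 184832 := by
  unfold rowsFrom64
  rw [List.length_append, rows64_len, rowsFrom65_len]

theorem rowsFrom63_ok : checkRows F 6 2097152 1492992 rowsFrom63 63000 = true :=
  checkRows_append_of F 6 2097152 1492992 _ _ 63000 1000 64000 rows63_ok rows63_len rfl rowsFrom64_ok

theorem rowsFrom63_len : rowsFrom63.length = 185832 := by
  unfold rowsFrom63
  rw [List.length_append, rows63_len, rowsFrom64_len]

theorem rowsFrom62_ok : checkRows F 6 2097152 1492992 rowsFrom62 62000 = true :=
  checkRows_append_of F 6 2097152 1492992 _ _ 62000 1000 63000 rows62_ok rows62_len rfl rowsFrom63_ok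

theorem rowsFrom62_len : rowsFrom62.length = 186832 := by
  unfold rowsFrom62
  rw [List.length_append, rows62_len, rowsFrom63_len]

theorem rowsFrom61_ok : checkRows F 6 2097152 1492992 rowsFrom61 61000 = true :=
  checkRows_append_of F 6 2097152 1492992 _ _ 61000 1000 62000 rows61_ok rows61_len rfl rowsFrom62_ok

theorem rowsFrom61_len : rowsFrom61.length = 187832 := by
  unfold rowsFrom61
  rw [List.length_append, rows61_len, rowsFrom62_len]

theorem rowsFrom60_ok : checkRows F 6 2097152 1492992 rowsFrom60 60000 = true :=
  checkRows_append_of F 6 2097152 1492992 _ _ 60000 1000 61000 rows60_ok rows60_len rfl rowsFrom61_ok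

theorem rowsFrom60_len : rowsFrom60.length = 188832 := by
  unfold rowsFrom60
  rw [List.length_append, rows60_len, rowsFrom61_len]

theorem rowsFrom59_ok : checkRows F 6 2097152 1492992 rowsFrom59 59000 = true :=
  checkRows_append_of F 6 2097152 1492992 _ _ 59000 1000 60000 rows59_ok rows59_len rfl rowsFrom60_ok

theorem rowsFrom59_len : rowsFrom59.length = 189832 := by
  unfold rowsFrom59
  rw [List.length_append, rows59_len, rowsFrom60_len]

theorem rowsFrom58_ok : checkRows F 6 2097152 1492992 rowsFrom58 58000 = true :=
  checkRows_append_of F 6 2097152 1492992 _ _ 58000 1000 59000 rows58_ok rows58_len rfl rowsFrom59_ok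

theorem rowsFrom58_len : rowsFrom58.length = 190832 := by
  unfold rowsFrom58
  rw [List.length_append, rows58_len, rowsFrom59_len]

theorem rowsFrom57_ok : checkRows F 6 2097152 1492992 rowsFrom57 57000 = true :=
  checkRows_append_of F 6 2097152 1492992 _ _ 57000 1000 58000 rows57_ok rows57_len rfl rowsFrom58_ok

theorem rowsFrom57_len : rowsFrom57.length = 191832 := by
  unfold rowsFrom57
  rw [List.length_append, rows57_len, rowsFrom58_len]

theorem rowsFrom56_ok : checkRows F 6 2097152 1492992 rowsFrom56 56000 = true :=
  checkRows_append_of F 6 2097152 1492992 _ _ 56000 1000 57000 rows56_ok rows56_len rfl rowsFrom57_ok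

theorem rowsFrom56_len : rowsFrom56.length = 192832 := by
  unfold rowsFrom56
  rw [List.length_append, rows56_len, rowsFrom57_len]

theorem rowsFrom55_ok : checkRows F 6 2097152 1492992 rowsFrom55 55000 = true :=
  checkRows_append_of F 6 2097152 1492992 _ _ 55000 1000 56000 rows55_ok rows55_len rfl rowsFrom56_ok

theorem rowsFrom55_len : rowsFrom55.length = 193832 := by
  unfold rowsFrom55
  rw [List.length_append, rows55_len, rowsFrom56_len]

theorem rowsFrom54_ok : checkRows F 6 2097152 1492992 rowsFrom54 54000 = true :=
  checkRows_append_of F 6 2097152 1492992 _ _ 54000 1000 55000 rows54_ok rows54_len rfl rowsFrom55_ok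

theorem rowsFrom54_len : rowsFrom54.length = 194832 := by
  unfold rowsFrom54
  rw [List.length_append, rows54_len, rowsFrom55_len]

theorem rowsFrom53_ok : checkRows F 6 2097152 1492992 rowsFrom53 53000 = true :=
  checkRows_append_of F 6 2097152 1492992 _ _ 53000 1000 54000 rows53_ok rows53_len rfl rowsFrom54_ok

theorem rowsFrom53_len : rowsFrom53.length = 195832 := by
  unfold rowsFrom53
  rw [List.length_append, rows53_len, rowsFrom54_len]

theorem rowsFrom52_ok : checkRows F 6 2097152 1492992 rowsFrom52 52000 = true :=
  checkRows_append_of F 6 2097152 1492992 _ _ 52000 1000 53000 rows52_ok rows52_len rfl rowsFrom53_ok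

theorem rowsFrom52_len : rowsFrom52.length = 196832 := by
  unfold rowsFrom52
  rw [List.length_append, rows52_len, rowsFrom53_len]

theorem rowsFrom51_ok : checkRows F 6 2097152 1492992 rowsFrom51 51000 = true :=
  checkRows_append_of F 6 2097152 1492992 _ _ 51000 1000 52000 rows51_ok rows51_len rfl rowsFrom52_ok

theorem rowsFrom51_len : rowsFrom51.length = 197832 := by
  unfold rowsFrom51
  rw [List.length_append, rows51_len, rowsFrom52_len]

theorem rowsFrom50_ok : checkRows F 6 2097152 1492992 rowsFrom50 50000 = true :=
  checkRows_append_of F 6 2097152 1492992 _ _ 50000 1000 51000 rows50_ok rows50_len rfl rowsFrom51_ok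

theorem rowsFrom50_len : rowsFrom50.length = 198832 := by
  unfold rowsFrom50
  rw [List.length_append, rows50_len, rowsFrom51_len]

theorem rowsFrom49_ok : checkRows F 6 2097152 1492992 rowsFrom49 49000 = true :=
  checkRows_append_of F 6 2097152 1492992 _ _ 49000 1000 50000 rows49_ok rows49_len rfl rowsFrom50_ok

theorem rowsFrom49_len : rowsFrom49.length = 199832 := by
  unfold rowsFrom49
  rw [List.length_append, rows49_len, rowsFrom50_len]

theorem rowsFrom48_ok : checkRows F 6 2097152 1492992 rowsFrom48 48000 = true :=
  checkRows_append_of F 6 2097152 1492992 _ _ 48000 1000 49000 rows48_ok rows48_len rfl rowsFrom49_ok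

theorem rowsFrom48_len : rowsFrom48.length = 200832 := by
  unfold rowsFrom48
  rw [List.length_append, rows48_len, rowsFrom49_len]

theorem rowsFrom47_ok : checkRows F 6 2097152 1492992 rowsFrom47 47000 = true :=
  checkRows_append_of F 6 2097152 1492992 _ _ 47000 1000 48000 rows47_ok rows47_len rfl rowsFrom48_ok

theorem rowsFrom47_len : rowsFrom47.length = 201832 := by
  unfold rowsFrom47
  rw [List.length_append, rows47_len, rowsFrom48_len]

theorem rowsFrom46_ok : checkRows F 6 2097152 1492992 rowsFrom46 46000 = true :=
  checkRows_append_of F 6 2097152 1492992 _ _ 46000 1000 47000 rows46_ok rows46_len rfl rowsFrom47_ok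

theorem rowsFrom46_len : rowsFrom46.length = 202832 := by
  unfold rowsFrom46
  rw [List.length_append, rows46_len, rowsFrom47_len]

theorem rowsFrom45_ok : checkRows F 6 2097152 1492992 rowsFrom45 45000 = true :=
  checkRows_append_of F 6 2097152 1492992 _ _ 45000 1000 46000 rows45_ok rows45_len rfl rowsFrom46_ok

theorem rowsFrom45_len : rowsFrom45.length = 203832 := by
  unfold rowsFrom45
  rw [List.length_append, rows45_len, rowsFrom46_len]

theorem rowsFrom44_ok : checkRows F 6 2097152 1492992 rowsFrom44 44000 = true :=
  checkRows_append_of F 6 2097152 1492992 _ _ 44000 1000 45000 rows44_ok rows44_len rfl rowsFrom45_ok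

theorem rowsFrom44_len : rowsFrom44.length = 204832 := by
  unfold rowsFrom44
  rw [List.length_append, rows44_len, rowsFrom45_len]

theorem rowsFrom43_ok : checkRows F 6 2097152 1492992 rowsFrom43 43000 = true :=
  checkRows_append_of F 6 2097152 1492992 _ _ 43000 1000 44000 rows43_ok rows43_len rfl rowsFrom44_ok

theorem rowsFrom43_len : rowsFrom43.length = 205832 := by
  unfold rowsFrom43
  rw [List.length_append, rows43_len, rowsFrom44_len]

theorem rowsFrom42_ok : checkRows F 6 2097152 1492992 rowsFrom42 42000 = true :=
  checkRows_append_of F 6 2097152 1492992 _ _ 42000 1000 43000 rows42_ok rows42_len rfl rowsFrom43_ok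

theorem rowsFrom42_len : rowsFrom42.length = 206832 := by
  unfold rowsFrom42
  rw [List.length_append, rows42_len, rowsFrom43_len]

theorem rowsFrom41_ok : checkRows F 6 2097152 1492992 rowsFrom41 41000 = true :=
  checkRows_append_of F 6 2097152 1492992 _ _ 41000 1000 42000 rows41_ok rows41_len rfl rowsFrom42_ok

theorem rowsFrom41_len : rowsFrom41.length = 207832 := by
  unfold rowsFrom41
  rw [List.length_append, rows41_len, rowsFrom42_len]

theorem rowsFrom40_ok : checkRows F 6 2097152 1492992 rowsFrom40 40000 = true :=
  checkRows_append_of F 6 2097152 1492992 _ _ 40000 1000 41000 rows40_ok rows40_len rfl rowsFrom41_ok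

theorem rowsFrom40_len : rowsFrom40.length = 208832 := by
  unfold rowsFrom40
  rw [List.length_append, rows40_len, rowsFrom41_len]

theorem rowsFrom39_ok : checkRows F 6 2097152 1492992 rowsFrom39 39000 = true :=
  checkRows_append_of F 6 2097152 1492992 _ _ 39000 1000 40000 rows39_ok rows39_len rfl rowsFrom40_ok

theorem rowsFrom39_len : rowsFrom39.length = 209832 := by
  unfold rowsFrom39
  rw [List.length_append, rows39_len, rowsFrom40_len]

theorem rowsFrom38_ok : checkRows F 6 2097152 1492992 rowsFrom38 38000 = true :=
  checkRows_append_of F 6 2097152 1492992 _ _ 38000 1000 39000 rows38_ok rows38_len rfl rowsFrom39_ok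

theorem rowsFrom38_len : rowsFrom38.length = 210832 := by
  unfold rowsFrom38
  rw [List.length_append, rows38_len, rowsFrom39_len]

theorem rowsFrom37_ok : checkRows F 6 2097152 1492992 rowsFrom37 37000 = true :=
  checkRows_append_of F 6 2097152 1492992 _ _ 37000 1000 38000 rows37_ok rows37_len rfl rowsFrom38_ok

theorem rowsFrom37_len : rowsFrom37.length = 211832 := by
  unfold rowsFrom37
  rw [List.length_append, rows37_len, rowsFrom38_len]

theorem rowsFrom36_ok : checkRows F 6 2097152 1492992 rowsFrom36 36000 = true :=
  checkRows_append_of F 6 2097152 1492992 _ _ 36000 1000 37000 rows36_ok rows36_len rfl rowsFrom37_ok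

theorem rowsFrom36_len : rowsFrom36.length = 212832 := by
  unfold rowsFrom36
  rw [List.length_append, rows36_len, rowsFrom37_len]

theorem rowsFrom35_ok : checkRows F 6 2097152 1492992 rowsFrom35 35000 = true :=
  checkRows_append_of F 6 2097152 1492992 _ _ 35000 1000 36000 rows35_ok rows35_len rfl rowsFrom36_ok

theorem rowsFrom35_len : rowsFrom35.length = 213832 := by
  unfold rowsFrom35
  rw [List.length_append, rows35_len, rowsFrom36_len]

theorem rowsFrom34_ok : checkRows F 6 2097152 1492992 rowsFrom34 34000 = true :=
  checkRows_append_of F 6 2097152 1492992 _ _ 34000 1000 35000 rows34_ok rows34_len rfl rowsFrom35_ok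

theorem rowsFrom34_len : rowsFrom34.length = 214832 := by
  unfold rowsFrom34
  rw [List.length_append, rows34_len, rowsFrom35_len]

theorem rowsFrom33_ok : checkRows F 6 2097152 1492992 rowsFrom33 33000 = true :=
  checkRows_append_of F 6 2097152 1492992 _ _ 33000 1000 34000 rows33_ok rows33_len rfl rowsFrom34_ok

theorem rowsFrom33_len : rowsFrom33.length = 215832 := by
  unfold rowsFrom33
  rw [List.length_append, rows33_len, rowsFrom34_len]

theorem rowsFrom32_ok : checkRows F 6 2097152 1492992 rowsFrom32 32000 = true :=
  checkRows_append_of F 6 2097152 1492992 _ _ 32000 1000 33000 rows32_ok rows32_len rfl rowsFrom33_ok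

theorem rowsFrom32_len : rowsFrom32.length = 216832 := by
  unfold rowsFrom32
  rw [List.length_append, rows32_len, rowsFrom33_len]

theorem rowsFrom31_ok : checkRows F 6 2097152 1492992 rowsFrom31 31000 = true :=
  checkRows_append_of F 6 2097152 1492992 _ _ 31000 1000 32000 rows31_ok rows31_len rfl rowsFrom32_ok

theorem rowsFrom31_len : rowsFrom31.length = 217832 := by
  unfold rowsFrom31
  rw [List.length_append, rows31_len, rowsFrom32_len]

theorem rowsFrom30_ok : checkRows F 6 2097152 1492992 rowsFrom30 30000 = true :=
  checkRows_append_of F 6 2097152 1492992 _ _ 30000 1000 31000 rows30_ok rows30_len rfl rowsFrom31_ok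

theorem rowsFrom30_len : rowsFrom30.length = 218832 := by
  unfold rowsFrom30
  rw [List.length_append, rows30_len, rowsFrom31_len]

theorem rowsFrom29_ok : checkRows F 6 2097152 1492992 rowsFrom29 29000 = true :=
  checkRows_append_of F 6 2097152 1492992 _ _ 29000 1000 30000 rows29_ok rows29_len rfl rowsFrom30_ok

theorem rowsFrom29_len : rowsFrom29.length = 219832 := by
  unfold rowsFrom29
  rw [List.length_append, rows29_len, rowsFrom30_len]

theorem rowsFrom28_ok : checkRows F 6 2097152 1492992 rowsFrom28 28000 = true :=
  checkRows_append_of F 6 2097152 1492992 _ _ 28000 1000 29000 rows28_ok rows28_len rfl rowsFrom29_ok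

theorem rowsFrom28_len : rowsFrom28.length = 220832 := by
  unfold rowsFrom28
  rw [List.length_append, rows28_len, rowsFrom29_len]

theorem rowsFrom27_ok : checkRows F 6 2097152 1492992 rowsFrom27 27000 = true :=
  checkRows_append_of F 6 2097152 1492992 _ _ 27000 1000 28000 rows27_ok rows27_len rfl rowsFrom28_ok

theorem rowsFrom27_len : rowsFrom27.length = 221832 := by
  unfold rowsFrom27
  rw [List.length_append, rows27_len, rowsFrom28_len]

theorem rowsFrom26_ok : checkRows F 6 2097152 1492992 rowsFrom26 26000 = true :=
  checkRows_append_of F 6 2097152 1492992 _ _ 26000 1000 27000 rows26_ok rows26_len rfl rowsFrom27_ok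

theorem rowsFrom26_len : rowsFrom26.length = 222832 := by
  unfold rowsFrom26
  rw [List.length_append, rows26_len, rowsFrom27_len]

theorem rowsFrom25_ok : checkRows F 6 2097152 1492992 rowsFrom25 25000 = true :=
  checkRows_append_of F 6 2097152 1492992 _ _ 25000 1000 26000 rows25_ok rows25_len rfl rowsFrom26_ok

theorem rowsFrom25_len : rowsFrom25.length = 223832 := by
  unfold rowsFrom25
  rw [List.length_append, rows25_len, rowsFrom26_len]

theorem rowsFrom24_ok : checkRows F 6 2097152 1492992 rowsFrom24 24000 = true :=
  checkRows_append_of F 6 2097152 1492992 _ _ 24000 1000 25000 rows24_ok rows24_len rfl rowsFrom25_ok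

theorem rowsFrom24_len : rowsFrom24.length = 224832 := by
  unfold rowsFrom24
  rw [List.length_append, rows24_len, rowsFrom25_len]

theorem rowsFrom23_ok : checkRows F 6 2097152 1492992 rowsFrom23 23000 = true :=
  checkRows_append_of F 6 2097152 1492992 _ _ 23000 1000 24000 rows23_ok rows23_len rfl rowsFrom24_ok

theorem rowsFrom23_len : rowsFrom23.length = 225832 := by
  unfold rowsFrom23
  rw [List.length_append, rows23_len, rowsFrom24_len]

theorem rowsFrom22_ok : checkRows F 6 2097152 1492992 rowsFrom22 22000 = true :=
  checkRows_append_of F 6 2097152 1492992 _ _ 22000 1000 23000 rows22_ok rows22_len rfl rowsFrom23_ok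

theorem rowsFrom22_len : rowsFrom22.length = 226832 := by
  unfold rowsFrom22
  rw [List.length_append, rows22_len, rowsFrom23_len]

theorem rowsFrom21_ok : checkRows F 6 2097152 1492992 rowsFrom21 21000 = true :=
  checkRows_append_of F 6 2097152 1492992 _ _ 21000 1000 22000 rows21_ok rows21_len rfl rowsFrom22_ok

theorem rowsFrom21_len : rowsFrom21.length = 227832 := by
  unfold rowsFrom21
  rw [List.length_append, rows21_len, rowsFrom22_len]

theorem rowsFrom20_ok : checkRows F 6 2097152 1492992 rowsFrom20 20000 = true :=
  checkRows_append_of F 6 2097152 1492992 _ _ 20000 1000 21000 rows20_ok rows20_len rfl rowsFrom21_ok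

theorem rowsFrom20_len : rowsFrom20.length = 228832 := by
  unfold rowsFrom20
  rw [List.length_append, rows20_len, rowsFrom21_len]

theorem rowsFrom19_ok : checkRows F 6 2097152 1492992 rowsFrom19 19000 = true :=
  checkRows_append_of F 6 2097152 1492992 _ _ 19000 1000 20000 rows19_ok rows19_len rfl rowsFrom20_ok

theorem rowsFrom19_len : rowsFrom19.length = 229832 := by
  unfold rowsFrom19
  rw [List.length_append, rows19_len, rowsFrom20_len]

theorem rowsFrom18_ok : checkRows F 6 2097152 1492992 rowsFrom18 18000 = true :=
  checkRows_append_of F 6 2097152 1492992 _ _ 18000 1000 19000 rows18_ok rows18_len rfl rowsFrom19_ok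

theorem rowsFrom18_len : rowsFrom18.length = 230832 := by
  unfold rowsFrom18
  rw [List.length_append, rows18_len, rowsFrom19_len]

theorem rowsFrom17_ok : checkRows F 6 2097152 1492992 rowsFrom17 17000 = true :=
  checkRows_append_of F 6 2097152 1492992 _ _ 17000 1000 18000 rows17_ok rows17_len rfl rowsFrom18_ok

theorem rowsFrom17_len : rowsFrom17.length = 231832 := by
  unfold rowsFrom17
  rw [List.length_append, rows17_len, rowsFrom18_len]

theorem rowsFrom16_ok : checkRows F 6 2097152 1492992 rowsFrom16 16000 = true :=
  checkRows_append_of F 6 2097152 1492992 _ _ 16000 1000 17000 rows16_ok rows16_len rfl rowsFrom17_ok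

theorem rowsFrom16_len : rowsFrom16.length = 232832 := by
  unfold rowsFrom16
  rw [List.length_append, rows16_len, rowsFrom17_len]

theorem rowsFrom15_ok : checkRows F 6 2097152 1492992 rowsFrom15 15000 = true :=
  checkRows_append_of F 6 2097152 1492992 _ _ 15000 1000 16000 rows15_ok rows15_len rfl rowsFrom16_ok

theorem rowsFrom15_len : rowsFrom15.length = 233832 := by
  unfold rowsFrom15
  rw [List.length_append, rows15_len, rowsFrom16_len]

theorem rowsFrom14_ok : checkRows F 6 2097152 1492992 rowsFrom14 14000 = true :=
  checkRows_append_of F 6 2097152 1492992 _ _ 14000 1000 15000 rows14_ok rows14_len rfl rowsFrom15_ok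

theorem rowsFrom14_len : rowsFrom14.length = 234832 := by
  unfold rowsFrom14
  rw [List.length_append, rows14_len, rowsFrom15_len]

theorem rowsFrom13_ok : checkRows F 6 2097152 1492992 rowsFrom13 13000 = true :=
  checkRows_append_of F 6 2097152 1492992 _ _ 13000 1000 14000 rows13_ok rows13_len rfl rowsFrom14_ok

theorem rowsFrom13_len : rowsFrom13.length = 235832 := by
  unfold rowsFrom13
  rw [List.length_append, rows13_len, rowsFrom14_len]

theorem rowsFrom12_ok : checkRows F 6 2097152 1492992 rowsFrom12 12000 = true :=
  checkRows_append_of F 6 2097152 1492992 _ _ 12000 1000 13000 rows12_ok rows12_len rfl rowsFrom13_ok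

theorem rowsFrom12_len : rowsFrom12.length = 236832 := by
  unfold rowsFrom12
  rw [List.length_append, rows12_len, rowsFrom13_len]

theorem rowsFrom11_ok : checkRows F 6 2097152 1492992 rowsFrom11 11000 = true :=
  checkRows_append_of F 6 2097152 1492992 _ _ 11000 1000 12000 rows11_ok rows11_len rfl rowsFrom12_ok

theorem rowsFrom11_len : rowsFrom11.length = 237832 := by
  unfold rowsFrom11
  rw [List.length_append, rows11_len, rowsFrom12_len]

theorem rowsFrom10_ok : checkRows F 6 2097152 1492992 rowsFrom10 10000 = true :=
  checkRows_append_of F 6 2097152 1492992 _ _ 10000 1000 11000 rows10_ok rows10_len rfl rowsFrom11_ok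

theorem rowsFrom10_len : rowsFrom10.length = 238832 := by
  unfold rowsFrom10
  rw [List.length_append, rows10_len, rowsFrom11_len]

theorem rowsFrom9_ok : checkRows F 6 2097152 1492992 rowsFrom9 9000 = true :=
  checkRows_append_of F 6 2097152 1492992 _ _ 9000 1000 10000 rows9_ok rows9_len rfl rowsFrom10_ok

theorem rowsFrom9_len : rowsFrom9.length = 239832 := by
  unfold rowsFrom9
  rw [List.length_append, rows9_len, rowsFrom10_len]

theorem rowsFrom8_ok : checkRows F 6 2097152 1492992 rowsFrom8 8000 = true :=
  checkRows_append_of F 6 2097152 1492992 _ _ 8000 1000 9000 rows8_ok rows8_len rfl rowsFrom9_ok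

theorem rowsFrom8_len : rowsFrom8.length = 240832 := by
  unfold rowsFrom8
  rw [List.length_append, rows8_len, rowsFrom9_len]

theorem rowsFrom7_ok : checkRows F 6 2097152 1492992 rowsFrom7 7000 = true :=
  checkRows_append_of F 6 2097152 1492992 _ _ 7000 1000 8000 rows7_ok rows7_len rfl rowsFrom8_ok

theorem rowsFrom7_len : rowsFrom7.length = 241832 := by
  unfold rowsFrom7
  rw [List.length_append, rows7_len, rowsFrom8_len]

theorem rowsFrom6_ok : checkRows F 6 2097152 1492992 rowsFrom6 6000 = true :=
  checkRows_append_of F 6 2097152 1492992 _ _ 6000 1000 7000 rows6_ok rows6_len rfl rowsFrom7_ok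

theorem rowsFrom6_len : rowsFrom6.length = 242832 := by
  unfold rowsFrom6
  rw [List.length_append, rows6_len, rowsFrom7_len]

theorem rowsFrom5_ok : checkRows F 6 2097152 1492992 rowsFrom5 5000 = true :=
  checkRows_append_of F 6 2097152 1492992 _ _ 5000 1000 6000 rows5_ok rows5_len rfl rowsFrom6_ok

theorem rowsFrom5_len : rowsFrom5.length = 243832 := by
  unfold rowsFrom5
  rw [List.length_append, rows5_len, rowsFrom6_len]

theorem rowsFrom4_ok : checkRows F 6 2097152 1492992 rowsFrom4 4000 = true :=
  checkRows_append_of F 6 2097152 1492992 _ _ 4000 1000 5000 rows4_ok rows4_len rfl rowsFrom5_ok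

theorem rowsFrom4_len : rowsFrom4.length = 244832 := by
  unfold rowsFrom4
  rw [List.length_append, rows4_len, rowsFrom5_len]

theorem rowsFrom3_ok : checkRows F 6 2097152 1492992 rowsFrom3 3000 = true :=
  checkRows_append_of F 6 2097152 1492992 _ _ 3000 1000 4000 rows3_ok rows3_len rfl rowsFrom4_ok

theorem rowsFrom3_len : rowsFrom3.length = 245832 := by
  unfold rowsFrom3
  rw [List.length_append, rows3_len, rowsFrom4_len]

theorem rowsFrom2_ok : checkRows F 6 2097152 1492992 rowsFrom2 2000 = true :=
  checkRows_append_of F 6 2097152 1492992 _ _ 2000 1000 3000 rows2_ok rows2_len rfl rowsFrom3_ok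

theorem rowsFrom2_len : rowsFrom2.length = 246832 := by
  unfold rowsFrom2
  rw [List.length_append, rows2_len, rowsFrom3_len]

theorem rowsFrom1_ok : checkRows F 6 2097152 1492992 rowsFrom1 1000 = true :=
  checkRows_append_of F 6 2097152 1492992 _ _ 1000 1000 2000 rows1_ok rows1_len rfl rowsFrom2_ok

theorem rowsFrom1_len : rowsFrom1.length = 247832 := by
  unfold rowsFrom1
  rw [List.length_append, rows1_len, rowsFrom2_len]

theorem rowsFrom0_ok : checkRows F 6 2097152 1492992 rowsFrom0 0 = true :=
  checkRows_append_of F 6 2097152 1492992 _ _ 0 1000 1000 rows0_ok rows0_len rfl rowsFrom1_ok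

theorem rowsFrom0_len : rowsFrom0.length = 248832 := by
  unfold rowsFrom0
  rw [List.length_append, rows0_len, rowsFrom1_len]

/-- all rows -/
def rows : List ℕ := rowsFrom0

theorem rows_ok : checkRows F 6 2097152 1492992 rows 0 = true := rowsFrom0_ok

theorem rows_length : rows.length = 248832 := rowsFrom0_len

end Cfsg.Agent.Lib.H16.U62M.P2
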