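import Cfsg.Agent.Lib.H16.U62M.P2.Run9
import Cfsg.Agent.Lib.H16.U62M.P2.Rows

set_option autoImplicit false
set_option maxRecDepth 100000

/-! # Running the monomial certificate (generated) -/

namespace Cfsg.Agent.Lib.H16.U62M.P2

open Cfsg.Agent.Lib.H17.CosetCert (BT WT)
open Cfsg.Agent.Lib.H17.MonoCert
open Cfsg.Agent.Lib.H16.G24M

variable {G Q A : Type*} [Group G] [MulAction G Q] [Group A] [MulAction A Q]
  [SMulCommClass G A Q] (tw : List ℕ → A) (γ : ℕ → G)

theorem run (hfree : ∀ (α β : A) (q : Q), α • q = β • q → α = β)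
    (htw : TwOK (nadd NN) (List.replicate 0 0) neq tw) (q0 : Q) (hw : WordsOK Ev tw γ q0 words 231) :
    Inv F Ev tw γ q0 words 1492992 248832 231 :=
  run9 tw γ hfree htw q0 hw

end Cfsg.Agent.Lib.H16.U62M.P2
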