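import Cfsg.Agent.Lib.H16.G24M.ModTw
import Cfsg.Agent.Lib.H16.U62M.P2.DataT0
import Cfsg.Agent.Lib.H16.U62M.P2.DataT1
import Cfsg.Agent.Lib.H16.U62M.P2.DataT2
import Cfsg.Agent.Lib.H16.U62M.P2.DataT3
import Cfsg.Agent.Lib.H16.U62M.P2.DataT4
import Cfsg.Agent.Lib.H16.U62M.P2.DataT5
import Cfsg.Agent.Lib.H16.U62M.P2.DataT6
import Cfsg.Agent.Lib.H16.U62M.P2.DataT7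

set_option autoImplicit false
set_option maxRecDepth 100000

/-! # Data of the monomial coset enumeration (generated) -/

namespace Cfsg.Agent.Lib.H16.U62M.P2

open Cfsg.Agent.Lib.H17.CosetCert (BT WT)
open Cfsg.Agent.Lib.H17.MonoCert
open Cfsg.Agent.Lib.H16.G24M

/-- the modulus of the twists -/
abbrev NN : ℕ := 23887872

/-- the packed facts -/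
def factTree : BT := .node (.node (.node (sub0) (sub1)) (.node (sub2) (sub3))) (.node (.node (sub4) (sub5)) (.node (sub6) (sub7)))

/-- the fact with a given number -/
noncomputable def F (f : ℕ) : (ℕ × ℕ × ℕ) × List ℕ :=
  factOfN factTree 4096 256 39 549755813888 18 262144 25 33554432 0 f

/-- the words -/
def words : WT := .node (.node (.node (.node (.node (.node (.node (.node (.leaf [0] false) (.leaf [0, 0, 4, 1, 5, 0, 4, 1, 5, 0, 4, 4, 0, 4, 0, 4] true)) (.node (.leaf [0, 0, 5, 3, 4, 1, 4, 1, 2, 1, 5, 1, 2, 5, 2] true) (.leaf [0, 2, 4, 4, 1, 5, 0, 5, 2, 2, 0, 4, 0, 3, 3, 5] true))) (.node (.node (.leaf [0, 0, 4, 2, 2, 4, 4, 2, 0, 2, 5, 1, 1, 5] true) (.leaf [0, 0, 5, 3, 1, 5, 2, 5, 3,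 4, 3, 1, 4, 0, 5, 3] true)) (.node (.leaf [0, 0, 0, 5, 2, 0, 4, 4, 1, 1, 5, 1, 4, 3, 5, 5] true) (.leaf [0, 5, 2, 5, 5, 2, 4, 4, 1, 2, 2, 5, 3, 4, 3, 4] true)))) (.node (.node (.node (.leaf [0, 2, 0, 3, 1, 2, 1, 3] true) (.leaf [0, 0, 4, 4, 1, 3, 3, 4, 3, 4, 2, 5, 5, 0, 4, 4] true)) (.node (.leaf [0, 3, 5, 5, 0, 4, 0, 5, 5, 1, 3, 3, 4, 3, 3] true) (.leaf [0, 3, 4, 1, 2, 4, 0, 5, 5, 2, 5, 1, 5, 1, 3, 5] true))) (.node (.node (.leaf [0, 0, 3, 3, 4, 4, 1, 4, 2, 0, 5, 5, 1, 1, 5] true) (.leaf [0, 2, 1, 5, 1, 3, 5, 3, 0, 5, 1, 3, 0, 4, 1, 4] true)) (.node (.leaf [0, 0, 3, 3, 1, 4, 2, 5, 2, 5, 0, 5, 3, 1, 4, 4] true) (.nil))))) (.node (.node (.node (.node (.leaf [0, 0, 2, 2, 0, 3, 3] true) (.leaf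 [0, 0, 4, 2, 4, 0, 4, 1, 1, 4, 4, 2, 4, 2, 0, 5] true)) (.node (.leaf [0, 2, 4, 4, 2, 1, 3, 0, 5, 5, 5, 5, 0, 5, 3] true) (.leaf [0, 3, 0, 4, 0, 4, 2, 1, 4, 2, 0, 4, 0, 4, 3, 5] true))) (.node (.node (.leaf [0, 3, 5, 1, 5, 1, 4, 1, 2, 4, 0, 5, 5, 5] true) (.leaf [0, 2, 0, 3, 5, 0, 5, 5, 5, 5, 2, 1, 3, 0, 4, 4] true)) (.node (.leaf [0, 0, 2, 4, 1, 2, 4, 2, 0, 4, 0, 3, 1, 5, 0, 5] true) (.nil)))) (.node (.node (.node (.leaf [0, 0, 5, 5, 3, 1, 2, 4, 1, 4, 4, 4, 4] true) (.leaf [0, 0, 5, 0, 3, 0, 4, 3, 4, 1, 2, 2, 5, 0, 3, 4] true)) (.node (.leaf [0, 0, 0, 4, 1, 4, 1, 4, 1, 5, 5, 5, 1, 1, 4, 4] true) (.leaf [0, 4, 1, 2, 0, 4, 3, 4, 3, 3, 4, 1, 4, 3, 0, 5] true))) (.node (.node (.leaf [0, 0, 4,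 1, 4, 3, 3, 4, 0, 2, 2, 2, 4, 2, 4] true) (.leaf [0, 2, 4, 0, 4, 1, 2, 4, 4, 2, 4, 0, 4, 2, 5, 5] true)) (.node (.leaf [0, 0, 4, 0, 4, 1, 2, 5, 3, 0, 4, 0, 4, 2, 4, 3] true) (.nil)))))) (.node (.node (.node (.node (.node (.leaf [2, 0, 3, 1, 1, 1] true) (.leaf [0, 0, 4, 2, 1, 4, 1, 4, 2, 0, 4, 4, 2, 0, 0, 5] true)) (.node (.leaf [0, 2, 1, 5, 5, 0, 4, 0, 5, 5, 1, 3, 3, 4, 2] true) (.leaf [0, 2, 5, 3, 5, 1, 5, 0, 3, 0, 4, 1, 4, 2, 4, 4] true))) (.node (.node (.leaf [0, 0, 5, 5, 2, 1, 3, 1, 4, 1, 4, 4, 4, 4] true) (.leaf [0, 0, 5, 5, 1, 3, 4, 2, 1, 3, 4, 4, 2, 5, 0, 4] true)) (.node (.leaf [0, 0, 2, 1, 4, 0, 5, 5, 5, 0, 3, 5, 1, 5, 1, 4] true) (.leaf [3, 2] true)))) (.node (.node (.node (.leaf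 [0, 5, 0, 5, 0, 5, 0, 5, 0, 5] true) (.leaf [0, 0, 4, 4, 1, 5, 5, 1, 4, 4, 1, 3, 4, 1, 4, 2] true)) (.node (.leaf [0, 0, 0, 0, 4, 4, 0, 2, 1, 3, 5, 5, 5, 5, 0, 5] true) (.leaf [0, 3, 5, 3, 4, 3, 4, 0, 5, 1, 3, 0, 5, 5, 0, 5] true))) (.node (.node (.leaf [0, 0, 4, 0, 3, 3, 1, 5, 5, 3, 3, 5, 1, 1, 4] true) (.leaf [0, 2, 2, 0, 4, 2, 5, 2, 5, 0, 5, 3, 1, 4, 4, 2] true)) (.node (.leaf [0, 0, 3, 4, 4, 0, 0, 4, 3, 0, 2, 5, 5, 2, 4, 4] true) (.nil))))) (.node (.node (.node (.node (.leaf [0, 0, 3, 0, 3, 0, 2, 2] true) (.leaf [0, 0, 4, 3, 4, 4, 2, 5, 5, 1, 1, 3, 3, 5, 3, 5] true)) (.node (.leaf [0, 2, 5, 5, 2, 2, 4, 1, 4, 0, 5, 0, 5, 5, 5] true) (.leaf [0, 3, 3, 5, 5, 0, 5, 1, 3, 3, 3, 5, 5, 3, 4,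 4] true))) (.node (.node (.leaf [0, 0, 0, 4, 1, 1, 5, 2, 4, 4, 4, 1, 4, 1, 5] true) (.leaf [0, 2, 1, 4, 1, 5, 0, 2, 5, 2, 4, 3, 4, 0, 2, 4] true)) (.node (.leaf [0, 0, 2, 4, 3, 4, 3, 3, 4, 1, 4, 3, 0, 5, 0, 4] true) (.nil)))) (.node (.node (.node (.leaf [0, 0, 2, 5, 5, 0, 5, 2, 4, 3, 5, 2, 5, 3] true) (.leaf [0, 0, 5, 1, 4, 1, 4, 0, 5, 5, 0, 4, 1, 4, 1, 5] true)) (.node (.leaf [0, 0, 0, 4, 3, 4, 3, 3, 3, 3, 5, 3, 4, 1, 4, 4] true) (.leaf [0, 4, 4, 1, 5, 2, 4, 1, 4, 3, 4, 3, 5, 5, 2, 2] true))) (.node (.node (.leaf [0, 0, 4, 4, 1, 3, 5, 0, 5, 5, 3, 0, 3, 3, 4] true) (.leaf [0, 2, 4, 2, 2, 4, 4, 3, 4, 4, 4, 4, 1, 5, 0, 5] true)) (.node (.leaf [0, 0, 4, 1, 1, 3, 3, 4, 3, 4, 2, 5, 0, 0, 4, 4]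 true) (.nil))))))) (.node (.node (.node (.node (.node (.node (.leaf [0, 0, 0, 0, 0, 0, 0, 0, 0, 0, 0] true) (.leaf [0, 0, 4, 2, 0, 2, 1, 5, 5, 0, 4, 0, 5, 5, 3, 3] true)) (.node (.leaf [0, 0, 5, 3, 5, 0, 2, 5, 5, 0, 2, 2, 5, 1, 4] true) (.leaf [0, 2, 5, 1, 4, 4, 1, 2, 2, 0, 4, 3, 4, 4, 1, 4] true))) (.node (.node (.leaf [0, 0, 4, 4, 4, 4, 1, 4, 2, 1, 3, 1, 5, 5] true) (.leaf [0, 0, 5, 3, 4, 1, 4, 3, 1, 2, 2, 5, 1, 2, 5, 2] true)) (.node (.leaf [0, 0, 0, 5, 5, 0, 2, 4, 1, 4, 3, 4, 3, 5, 2, 2] true) (.leaf [1, 0] true)))) (.node (.node (.node (.leaf [0, 4, 0, 4, 0, 4, 0, 4] true) (.leaf [0, 0, 4, 4, 1, 3, 5, 0, 5, 5, 3, 0, 2, 2, 2, 4] true)) (.node (.leaf [0, 4, 4, 4, 4, 1, 4, 1, 4, 3, 4, 2,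 5, 3, 4] true) (.leaf [0, 3, 4, 3, 4, 2, 1, 5, 3, 3, 5, 5, 5, 5, 5, 5] true))) (.node (.node (.leaf [0, 0, 3, 5, 2, 2, 0, 4, 4, 1, 5, 1, 4, 4, 3] true) (.leaf [0, 2, 1, 5, 3, 1, 2, 5, 3, 1, 2, 5, 3, 5, 1, 5] true)) (.node (.leaf [0, 0, 3, 4, 1, 2, 0, 4, 2, 0, 4, 3, 4, 0, 5, 5] true) (.nil))))) (.node (.node (.node (.node (.leaf [0, 2, 1, 2, 1, 3, 3] true) (.leaf [0, 0, 4, 3, 0, 4, 0, 3, 0, 5, 0, 5, 2, 4, 0, 3] true)) (.node (.leaf [0, 2, 5, 1, 4, 4, 2, 1, 2, 4, 3, 4, 4, 1, 4] true) (.leaf [0, 3, 0, 5, 2, 2, 0, 4, 4, 1, 5, 1, 4, 4, 1, 3] true))) (.node (.node (.leaf [0, 0, 0, 3, 5, 1, 5, 5, 1, 2, 5, 1, 4, 4, 4] true) (.leaf [0, 2, 0, 5, 5, 1, 3, 3, 4, 3, 4, 3, 4, 4, 1, 4] true)) (.node (.leaf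 [0, 0, 2, 4, 1, 5, 2, 5, 2, 4, 2, 1, 4, 1, 4, 4] true) (.nil)))) (.node (.node (.node (.leaf [0, 0, 0, 0, 4, 4, 1, 1, 5, 5, 5, 5, 0, 5] true) (.leaf [0, 0, 5, 1, 2, 5, 2, 0, 0, 5, 3, 4, 1, 4, 0, 2] true)) (.node (.leaf [0, 0, 0, 4, 3, 0, 0, 5, 2, 4, 0, 0, 0, 4, 4, 4] true) (.leaf [0, 4, 2, 5, 5, 3, 5, 2, 4, 1, 4, 1, 4, 2, 2, 5] true))) (.node (.node (.leaf [0, 0, 4, 3, 3, 0, 5, 5, 0, 5, 2, 0, 0, 4, 4] true) (.leaf [0, 2, 4, 1, 4, 3, 4, 3, 5, 1, 2, 1, 2, 0, 5, 5] true)) (.node (.leaf [0, 0, 4, 0, 4, 2, 4, 3, 0, 2, 4, 3, 0, 2, 4, 3] true) (.nil)))))) (.node (.node (.node (.node (.node (.leaf [0, 0, 0, 0, 3, 1, 2] true) (.leaf [0, 0, 4, 2, 2, 2, 0, 5, 5, 0, 5, 2, 0, 0, 4, 4] true)) (.node (.leaf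 [0, 2, 4, 1, 4, 3, 4, 3, 5, 3, 3, 0, 3, 5, 5] true) (.leaf [0, 2, 5, 5, 2, 5, 2, 2, 1, 5, 2, 2, 5, 1, 5, 2] true))) (.node (.node (.leaf [0, 2, 5, 5, 5, 0, 4, 3, 0, 4, 1, 5, 1, 5] true) (.leaf [0, 0, 5, 5, 5, 5, 0, 5, 3, 0, 2, 4, 4, 3, 1, 2] true)) (.node (.leaf [0, 0, 2, 1, 5, 1, 4, 4, 4, 3, 1, 4, 0, 4, 0, 5] true) (.leaf [5, 4] true)))) (.node (.node (.node (.leaf [0, 0, 0, 4, 3, 4, 2, 5, 3, 4, 1, 4, 4] true) (.leaf [0, 0, 4, 4, 3, 4, 4, 4, 2, 4, 0, 2, 4, 2, 5, 3] true)) (.node (.leaf [0, 0, 0, 4, 0, 3, 1, 5, 2, 4, 0, 0, 0, 4, 4, 4] true) (.leaf [0, 4, 0, 4, 3, 4, 3, 4, 4, 0, 4, 0, 5, 2, 5, 2] true))) (.node (.node (.leaf [0, 0, 4, 1, 1, 5, 2, 0, 2, 5, 5, 3, 3, 3, 4] true) (.leaf [0, 2,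 2, 1, 5, 5, 0, 5, 5, 3, 4, 0, 4, 2, 5, 5] true)) (.node (.leaf [0, 0, 3, 5, 2, 0, 0, 5, 5, 1, 3, 5, 0, 2, 0, 5] true) (.nil))))) (.node (.node (.node (.node (.leaf [0, 0, 3, 3, 3, 0, 3, 3] true) (.leaf [0, 0, 4, 3, 4, 4, 2, 5, 5, 3, 0, 3, 0, 5, 3, 5] true)) (.node (.leaf [0, 3, 4, 2, 5, 3, 4, 0, 4, 4, 4, 0, 5, 0, 5] true) (.leaf [0, 3, 4, 0, 5, 5, 2, 2, 5, 5, 3, 5, 2, 4, 0, 5] true))) (.node (.node (.leaf [0, 0, 2, 4, 1, 4, 4, 4, 4, 0, 0, 5, 5, 1, 3] true) (.leaf [0, 2, 1, 4, 3, 5, 3, 1, 5, 3, 5, 5, 5, 2, 5, 5] true)) (.node (.leaf [0, 0, 3, 1, 4, 3, 0, 4, 0, 3, 0, 5, 0, 5, 2, 4] true) (.nil)))) (.node (.node (.node (.leaf [0, 0, 4, 1, 1, 5, 2, 0, 2, 5, 5, 2, 2, 4] true) (.leaf [0, 0, 5,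 2, 1, 3, 0, 5, 3, 3, 4, 4, 3, 1, 3, 4] true)) (.node (.leaf [0, 0, 0, 4, 4, 4, 2, 0, 3, 4, 0, 3, 1, 5, 2, 4] true) (.leaf [0, 4, 4, 4, 1, 3, 4, 3, 4, 4, 1, 2, 2, 4, 2, 5] true))) (.node (.node (.leaf [0, 0, 5, 2, 1, 3, 4, 0, 5, 0, 5, 5, 5, 3, 4] true) (.leaf [0, 2, 4, 3, 4, 3, 4, 2, 1, 3, 4, 0, 4, 4, 4, 3] true)) (.node (.leaf [0, 0, 4, 1, 3, 3, 1, 5, 5, 0, 5, 2, 0, 0, 4, 4] true) (.nil)))))))) (.node (.node (.node (.node (.node (.node (.node (.leaf [2] false) (.leaf [0, 0, 4, 1, 5, 5, 1, 1, 5, 5, 1, 4, 0, 0, 4, 4] true)) (.node (.leaf [0, 0, 5, 3, 4, 2, 4, 1, 3, 4, 1, 5, 0, 2, 5] true) (.leaf [0, 2, 5, 0, 5, 1, 4, 1, 4, 4, 4, 2, 1, 4, 4, 2] true))) (.node (.node (.leaf [0, 0, 4, 4, 4, 4,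 1, 4, 1, 2, 1, 3, 5, 5] true) (.leaf [0, 0, 5, 3, 4, 1, 4, 2, 4, 1, 5, 5, 0, 3, 5, 3] true)) (.node (.leaf [0, 0, 0, 5, 2, 5, 2, 5, 3, 1, 2, 5, 5, 5, 1, 5] true) (.leaf [0, 1] true)))) (.node (.node (.node (.leaf [0, 2, 1, 2, 1, 2, 2, 2] true) (.leaf [0, 0, 4, 4, 1, 3, 5, 0, 5, 5, 1, 3, 3, 0, 3, 4] true)) (.node (.leaf [0, 4, 4, 1, 2, 4, 3, 5, 5, 1, 4, 4, 2, 5, 2] true) (.leaf [0, 3, 4, 1, 2, 5, 5, 2, 1, 4, 2, 1, 2, 4, 4, 3] true))) (.node (.node (.leaf [0, 0, 3, 4, 2, 5, 2, 5, 0, 5, 3, 1, 4, 4, 3] true) (.leaf [0, 2, 1, 5, 3, 0, 4, 0, 4, 2, 4, 3, 0, 5, 1, 5] true)) (.node (.leaf [0, 0, 3, 4, 0, 0, 5, 1, 1, 5, 3, 3, 4, 4, 1, 3] true) (.nil))))) (.node (.node (.node (.node (.leaf [0, 2, 0,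 3, 3, 1, 2] true) (.leaf [0, 0, 4, 3, 0, 3, 0, 4, 3, 4, 2, 5, 0, 0, 4, 4] true)) (.node (.leaf [0, 2, 5, 0, 5, 5, 5, 5, 2, 1, 3, 0, 4, 4, 3] true) (.leaf [0, 3, 0, 4, 3, 5, 2, 5, 1, 2, 2, 5, 5, 2, 4, 4] true))) (.node (.node (.leaf [0, 4, 1, 2, 0, 5, 5, 5, 0, 4, 3, 0, 4, 4] true) (.leaf [0, 2, 0, 4, 3, 5, 3, 0, 4, 1, 5, 5, 3, 0, 2, 5] true)) (.node (.leaf [0, 0, 2, 4, 1, 2, 4, 2, 0, 4, 3, 0, 0, 5, 0, 5] true) (.nil)))) (.node (.node (.node (.leaf [0, 3, 4, 3, 4, 2, 5, 3, 4, 1, 4, 4, 2] true) (.leaf [0, 0, 5, 0, 5, 3, 5, 5, 2, 5, 0, 5, 3, 3, 0, 4] true)) (.node (.leaf [0, 0, 0, 4, 2, 2, 2, 2, 4, 2, 5, 3, 4, 1, 4, 4] true) (.leaf [0, 4, 1, 4, 2, 4, 2, 5, 5, 0, 4, 1, 5, 5, 3, 3] true))) (.node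 (.node (.leaf [0, 0, 4, 3, 1, 3, 5, 5, 2, 2, 2, 5, 1, 1, 4] true) (.leaf [0, 2, 4, 1, 2, 4, 2, 0, 4, 3, 0, 4, 1, 4, 1, 4] true)) (.node (.leaf [0, 0, 4, 0, 4, 1, 2, 5, 3, 5, 1, 5, 1, 2, 4, 3] true) (.nil)))))) (.node (.node (.node (.node (.node (.leaf [4, 4, 4, 4, 4, 4, 4, 4, 4, 4, 4] true) (.leaf [0, 0, 4, 2, 2, 0, 2, 4, 3, 4, 2, 5, 0, 0, 4, 4] true)) (.node (.leaf [0, 2, 4, 0, 4, 4, 1, 2, 4, 0, 5, 5, 5, 3, 3] true) (.leaf [0, 2, 5, 5, 2, 4, 4, 3, 3, 0, 4, 1, 4, 4, 1, 2] true))) (.node (.node (.leaf [0, 2, 4, 3, 4, 2, 5, 3, 4, 1, 4, 4, 1, 3] true) (.leaf [0, 0, 5, 5, 3, 1, 2, 4, 1, 5, 5, 5, 5, 5, 5, 5] true)) (.node (.leaf [0, 0, 2, 1, 5, 1, 4, 4, 4, 1, 3, 0, 5, 1, 5, 5] true) (.leaf [4,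 5] true)))) (.node (.node (.node (.leaf [0, 4, 1, 5, 0, 4, 1, 5, 0, 4, 1, 5] true) (.leaf [0, 0, 4, 4, 3, 3, 1, 5, 5, 0, 5, 2, 5, 0, 4, 4] true)) (.node (.leaf [0, 0, 0, 0, 5, 0, 5, 5, 5, 5, 2, 1, 3, 0, 4, 4] true) (.leaf [0, 4, 0, 4, 3, 4, 3, 4, 1, 5, 1, 5, 5, 2, 5, 2] true))) (.node (.node (.leaf [0, 0, 4, 1, 1, 5, 0, 2, 2, 1, 5, 5, 2, 2, 4] true) (.leaf [0, 2, 2, 0, 5, 5, 3, 4, 4, 0, 3, 3, 5, 5, 0, 5] true)) (.node (.leaf [0, 0, 3, 4, 4, 3, 5, 0, 5, 1, 5, 1, 4, 1, 4, 3] true) (.nil))))) (.node (.node (.node (.node (.leaf [0, 0, 3, 3, 0, 2, 0, 2] true) (.leaf [0, 0, 4, 3, 4, 4, 2, 5, 5, 2, 2, 0, 2, 5, 3, 5] true)) (.node (.leaf [0, 3, 3, 5, 5, 0, 5, 1, 2, 2, 5, 5, 3, 4, 4] true) (.leaf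 [0, 3, 4, 0, 4, 1, 2, 4, 4, 2, 2, 4, 4, 1, 4, 4] true))) (.node (.node (.leaf [0, 0, 2, 2, 5, 2, 2, 5, 0, 5, 1, 1, 5, 3, 5] true) (.leaf [0, 2, 1, 4, 2, 1, 4, 4, 0, 5, 3, 5, 0, 5, 2, 4] true)) (.node (.leaf [0, 0, 3, 1, 4, 1, 4, 4, 1, 2, 2, 5, 1, 1, 5, 5] true) (.nil)))) (.node (.node (.node (.leaf [0, 0, 2, 5, 5, 5, 0, 4, 3, 0, 4, 4, 0, 4] true) (.leaf [0, 0, 5, 1, 4, 3, 3, 5, 1, 2, 4, 1, 4, 3, 5, 5] true)) (.node (.leaf [0, 0, 0, 4, 4, 1, 1, 5, 5, 5, 1, 4, 1, 4, 1, 4] true) (.leaf [0, 4, 4, 3, 4, 3, 5, 3, 4, 2, 2, 0, 5, 5, 5, 2] true))) (.node (.node (.leaf [0, 0, 4, 4, 4, 1, 5, 3, 0, 5, 5, 1, 5, 0, 2] true) (.leaf [0, 2, 4, 3, 0, 2, 4, 3, 0, 5, 1, 5, 1, 2, 4, 3] true)) (.node (.leaf [0,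 0, 4, 1, 1, 5, 3, 3, 0, 3, 0, 5, 5, 2, 2, 4] true) (.nil))))))) (.node (.node (.node (.node (.node (.node (.leaf [2, 2, 2, 2, 2] true) (.leaf [0, 0, 4, 2, 1, 3, 0, 5, 2, 0, 2, 5, 5, 2, 2, 4] true)) (.node (.leaf [0, 0, 5, 5, 1, 3, 1, 2, 0, 4, 1, 4, 4, 4, 4] true) (.leaf [0, 2, 5, 2, 2, 0, 4, 4, 1, 5, 1, 4, 4, 1, 2, 2] true))) (.node (.node (.leaf [0, 0, 5, 5, 1, 2, 1, 3, 4, 1, 4, 4, 4, 4] true) (.leaf [0, 0, 5, 3, 5, 0, 2, 5, 5, 1, 2, 2, 1, 5, 1, 4] true)) (.node (.leaf [0, 0, 2, 0, 2, 5, 5, 0, 2, 4, 1, 4, 3, 4, 3, 5] true) (.leaf [2, 3] true)))) (.node (.node (.node (.leaf [0, 0, 2, 0, 3, 1, 3, 1, 2] true) (.leaf [0, 0, 4, 4, 1, 3, 5, 0, 5, 5, 3, 3, 1, 3, 0, 4] true)) (.node (.leaf [0, 5,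 5, 2, 4, 4, 2, 5, 5, 3, 5, 3, 3, 4, 4] true) (.leaf [0, 3, 5, 0, 5, 0, 4, 0, 4, 1, 4, 2, 5, 5, 3, 3] true))) (.node (.node (.leaf [0, 0, 3, 5, 5, 0, 0, 4, 4, 4, 4, 1, 4, 0, 2] true) (.leaf [0, 2, 1, 5, 3, 5, 1, 5, 1, 2, 4, 3, 0, 5, 1, 5] true)) (.node (.leaf [0, 0, 3, 4, 1, 4, 2, 5, 3, 1, 3, 5, 2, 4, 2, 5] true) (.nil))))) (.node (.node (.node (.node (.leaf [0, 0, 2, 2, 0, 2, 2, 2] true) (.leaf [0, 0, 4, 3, 4, 4, 1, 3, 3, 5, 0, 4, 4, 2, 5, 2] true)) (.node (.leaf [0, 2, 5, 5, 0, 5, 5, 3, 4, 0, 4, 2, 5, 5, 2] true) (.leaf [0, 3, 0, 5, 5, 3, 0, 5, 5, 3, 3, 4, 4, 4, 3, 4] true))) (.node (.node (.leaf [0, 0, 0, 4, 0, 5, 2, 4, 3, 5, 0, 0, 5, 2, 4] true) (.leaf [0, 2, 1, 2, 4, 4, 1, 5, 1, 4, 4,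 0, 3, 1, 3, 5] true)) (.node (.leaf [0, 0, 2, 4, 2, 0, 4, 3, 4, 0, 5, 5, 0, 0, 3, 4] true) (.nil)))) (.node (.node (.node (.leaf [0, 0, 0, 0, 5, 0, 5, 5, 5, 5, 1, 1, 4, 4] true) (.leaf [0, 0, 5, 1, 3, 4, 4, 1, 1, 3, 4, 1, 4, 3, 1, 4] true)) (.node (.leaf [0, 0, 0, 4, 3, 4, 2, 5, 2, 2, 2, 2, 4, 1, 4, 4] true) (.leaf [0, 4, 3, 4, 1, 3, 4, 3, 4, 3, 0, 4, 4, 0, 5, 3] true))) (.node (.node (.leaf [0, 0, 4, 4, 1, 3, 5, 0, 5, 5, 0, 2, 0, 2, 4] true) (.leaf [0, 2, 4, 1, 4, 3, 4, 3, 5, 3, 1, 3, 3, 0, 5, 5] true)) (.node (.leaf [0, 0, 4, 0, 4, 4, 1, 4, 0, 3, 1, 3, 4, 4, 3, 5] true) (.nil)))))) (.node (.node (.node (.node (.node (.leaf [0, 0, 0, 3, 0, 0, 2] true) (.leaf [0, 0, 4, 2, 2, 4, 4, 2, 0, 2,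 5, 0, 2, 1, 3, 5] true)) (.node (.leaf [0, 2, 4, 2, 5, 0, 2, 4, 2, 5, 0, 2, 4, 2, 5] true) (.leaf [0, 3, 0, 3, 4, 1, 4, 4, 2, 2, 1, 5, 5, 2, 4, 4] true))) (.node (.node (.leaf [0, 3, 0, 4, 0, 4, 4, 1, 2, 4, 0, 5, 5, 5] true) (.leaf [0, 0, 5, 5, 5, 5, 5, 5, 5, 1, 4, 3, 1, 2, 5, 5] true)) (.node (.leaf [0, 0, 2, 4, 0, 5, 0, 5, 5, 5, 3, 4, 0, 0, 5, 3] true) (.nil)))) (.node (.node (.node (.leaf [0, 0, 4, 4, 4, 4, 1, 4, 3, 1, 2, 5, 5] true) (.leaf [0, 0, 5, 0, 2, 1, 3, 5, 3, 3, 4, 4, 3, 1, 3, 4] true)) (.node (.leaf [0, 0, 0, 4, 0, 3, 1, 5, 2, 4, 2, 0, 3, 4, 4, 4] true) (.leaf [0, 4, 0, 5, 5, 5, 2, 0, 5, 1, 5, 5, 3, 0, 4, 3] true))) (.node (.node (.leaf [0, 0, 4, 1, 4, 2, 2, 2, 4, 0, 3, 3, 4,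 2, 4] true) (.leaf [0, 2, 2, 5, 0, 4, 2, 5, 5, 3, 5, 2, 0, 5, 0, 5] true)) (.node (.leaf [0, 0, 4, 0, 3, 0, 3, 5, 5, 0, 5, 2, 0, 0, 4, 4] true) (.nil))))) (.node (.node (.node (.node (.leaf [0, 2, 0, 2, 2, 2, 1, 2] true) (.leaf [0, 0, 4, 3, 5, 2, 4, 4, 2, 2, 0, 4, 4, 0, 3, 4] true)) (.node (.leaf [0, 3, 4, 3, 4, 2, 1, 5, 3, 3, 4, 4, 4, 4, 4] true) (.leaf [0, 3, 4, 1, 2, 4, 0, 5, 5, 2, 0, 4, 0, 4, 3, 5] true))) (.node (.node (.leaf [0, 0, 3, 0, 4, 1, 4, 4, 4, 4, 0, 0, 5, 5, 2] true) (.leaf [0, 2, 1, 5, 0, 5, 0, 4, 0, 4, 1, 4, 2, 5, 5, 2] true)) (.node (.leaf [0, 0, 3, 3, 0, 4, 0, 0, 5, 1, 1, 5, 3, 3, 4, 4] true) (.nil)))) (.node (.node (.node (.leaf [0, 0, 4, 1, 4, 3, 3, 4, 0, 3, 3, 4, 2,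 4] true) (.leaf [0, 0, 5, 2, 4, 2, 2, 0, 4, 1, 4, 3, 4, 3, 1, 4] true)) (.node (.leaf [0, 0, 0, 5, 1, 5, 1, 4, 1, 2, 4, 0, 5, 5, 5, 3] true) (.leaf [0, 5, 2, 4, 1, 5, 3, 3, 4, 4, 4, 4, 4, 3, 5, 5] true))) (.node (.node (.leaf [0, 0, 5, 2, 4, 2, 0, 3, 4, 0, 5, 2, 4, 3, 5] true) (.leaf [0, 2, 4, 3, 5, 3, 4, 3, 0, 5, 5, 5, 5, 3, 0, 4] true)) (.node (.leaf [0, 0, 4, 1, 4, 4, 1, 2, 2, 5, 1, 1, 5, 5, 0, 3] true) (.nil))))))))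

/-- the twists of the words -/
def evL : List (List ℕ) := [[], [], [], [], [], [], [], [], [], [], [], [], [], [], [], [], [], [], [], [], [], [], [], [], [], [], [], [], [], [], [], [], [], [], [], [], [], [], [], [], [], [], [], [], [], [], [], [], [], [], [], [], [], [], [], [], [], [], [], [], [], [], [], [], [], [], [], [], [], [], [], [], [], [], [], [], [], [], [], [], [], [], [], [], [], [], [], [], [], [], [], [], [], [], [], [], [], [], [], [], [], [], [], [], [], [], [], [], [], [], [], [], [], [], [], [], [], [], [], [], [], [], [], [], [], [], [], [], [], [], [], [], [], [], [], [], [], [], [], [], [], [], [], [], [], [], [], [], [], [], [], [], [], [], [], [], [], [], [], [],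 [], [], [], [], [], [], [], [], [], [], [], [], [], [], [], [], [], [], [], [], [], [], [], [], [], [], [], [], [], [], [], [], [], [], [], [], [], [], [], [], [], [], [], [], [], [], [], [], [], [], [], [], [], [], [], [], [], [], [], [], [], [], [], [], [], [], [], [], [], [], []]

/-- the twist of a word -/
noncomputable def Ev (w : ℕ) : List ℕ := lnthN evL w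

/-- all relator words -/
def relL : List (List ℕ) := [[0, 0, 0, 0, 0, 0, 0, 0, 0, 0, 0], [2, 2, 2, 2, 2], [2, 0, 3, 1, 1, 1], [4, 4, 4, 4, 4, 4, 4, 4, 4, 4, 4], [0, 0, 0, 0, 3, 1, 2], [0, 0, 0, 3, 0, 0, 2], [0, 0, 2, 2, 0, 3, 3], [0, 2, 0, 3, 3, 1, 2], [0, 2, 1, 2, 1, 3, 3], [0, 0, 2, 2, 0, 2, 2, 2], [0, 0, 3, 0, 3, 0, 2, 2], [0, 0, 3, 3, 0, 2, 0, 2], [0, 0, 3, 3, 3, 0, 3, 3], [0, 2, 0, 2, 2, 2, 1, 2], [0, 2, 0, 3, 1, 2, 1, 3], [0, 2, 1, 2, 1, 2, 2, 2], [0, 4, 0, 4, 0, 4, 0, 4], [0, 0, 2, 0, 3, 1, 3, 1, 2], [0, 5, 0, 5, 0, 5, 0, 5, 0, 5], [0, 4, 1, 5, 0, 4, 1, 5, 0, 4, 1, 5], [0, 0, 0, 4, 3, 4, 2, 5, 3, 4, 1, 4, 4], [0, 0, 4, 4, 4, 4, 1, 4, 3, 1, 2, 5, 5], [0, 0, 5, 5, 3, 1, 2, 4, 1, 4,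 4, 4, 4], [0, 3, 4, 3, 4, 2, 5, 3, 4, 1, 4, 4, 2], [0, 0, 0, 0, 4, 4, 1, 1, 5, 5, 5, 5, 0, 5], [0, 0, 0, 0, 5, 0, 5, 5, 5, 5, 1, 1, 4, 4], [0, 0, 2, 5, 5, 0, 5, 2, 4, 3, 5, 2, 5, 3], [0, 0, 2, 5, 5, 5, 0, 4, 3, 0, 4, 4, 0, 4], [0, 0, 4, 1, 1, 5, 2, 0, 2, 5, 5, 2, 2, 4], [0, 0, 4, 1, 4, 3, 3, 4, 0, 3, 3, 4, 2, 4], [0, 0, 4, 2, 2, 4, 4, 2, 0, 2, 5, 1, 1, 5], [0, 0, 4, 4, 4, 4, 1, 4, 1, 2, 1, 3, 5, 5], [0, 0, 4, 4, 4, 4, 1, 4, 2, 1, 3, 1, 5, 5], [0, 0, 5, 5, 1, 2, 1, 3, 4, 1, 4, 4, 4, 4], [0, 0, 5, 5, 2, 1, 3, 1, 4, 1, 4, 4, 4, 4], [0, 2, 4, 3, 4, 2, 5, 3, 4, 1, 4, 4, 1, 3], [0, 2, 5, 5, 5, 0, 4, 3, 0, 4, 1, 5, 1, 5], [0, 3, 0, 4, 0, 4, 4, 1, 2, 4, 0, 5, 5, 5], [0, 3, 5, 1, 5, 1, 4, 1, 2, 4,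 0, 5, 5, 5], [0, 4, 1, 2, 0, 5, 5, 5, 0, 4, 3, 0, 4, 4], [0, 0, 0, 3, 5, 1, 5, 5, 1, 2, 5, 1, 4, 4, 4], [0, 0, 0, 4, 0, 5, 2, 4, 3, 5, 0, 0, 5, 2, 4], [0, 0, 0, 4, 1, 1, 5, 2, 4, 4, 4, 1, 4, 1, 5], [0, 0, 2, 2, 5, 2, 2, 5, 0, 5, 1, 1, 5, 3, 5], [0, 0, 2, 4, 1, 4, 4, 4, 4, 0, 0, 5, 5, 1, 3], [0, 0, 3, 0, 4, 1, 4, 4, 4, 4, 0, 0, 5, 5, 2], [0, 0, 3, 3, 4, 4, 1, 4, 2, 0, 5, 5, 1, 1, 5], [0, 0, 3, 4, 2, 5, 2, 5, 0, 5, 3, 1, 4, 4, 3], [0, 0, 3, 5, 2, 2, 0, 4, 4, 1, 5, 1, 4, 4, 3], [0, 0, 3, 5, 5, 0, 0, 4, 4, 4, 4, 1, 4, 0, 2], [0, 0, 4, 0, 3, 3, 1, 5, 5, 3, 3, 5, 1, 1, 4], [0, 0, 4, 1, 1, 5, 0, 2, 2, 1, 5, 5, 2, 2, 4], [0, 0, 4, 1, 1, 5, 2, 0, 2, 5, 5, 3, 3, 3, 4], [0, 0, 4, 1, 4, 2, 2, 2, 4, 0,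 3, 3, 4, 2, 4], [0, 0, 4, 1, 4, 3, 3, 4, 0, 2, 2, 2, 4, 2, 4], [0, 0, 4, 3, 1, 3, 5, 5, 2, 2, 2, 5, 1, 1, 4], [0, 0, 4, 3, 3, 0, 5, 5, 0, 5, 2, 0, 0, 4, 4], [0, 0, 4, 4, 1, 3, 5, 0, 5, 5, 0, 2, 0, 2, 4], [0, 0, 4, 4, 1, 3, 5, 0, 5, 5, 3, 0, 3, 3, 4], [0, 0, 4, 4, 4, 1, 5, 3, 0, 5, 5, 1, 5, 0, 2], [0, 0, 5, 2, 1, 3, 4, 0, 5, 0, 5, 5, 5, 3, 4], [0, 0, 5, 2, 4, 2, 0, 3, 4, 0, 5, 2, 4, 3, 5], [0, 0, 5, 3, 4, 1, 4, 1, 2, 1, 5, 1, 2, 5, 2], [0, 0, 5, 3, 4, 2, 4, 1, 3, 4, 1, 5, 0, 2, 5], [0, 0, 5, 3, 5, 0, 2, 5, 5, 0, 2, 2, 5, 1, 4], [0, 0, 5, 5, 1, 3, 1, 2, 0, 4, 1, 4, 4, 4, 4], [0, 2, 1, 5, 5, 0, 4, 0, 5, 5, 1, 3, 3, 4, 2], [0, 2, 4, 0, 4, 4, 1, 2, 4, 0, 5, 5, 5, 3, 3], [0, 2, 4, 1, 4, 3, 4, 3,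 5, 3, 3, 0, 3, 5, 5], [0, 2, 4, 2, 5, 0, 2, 4, 2, 5, 0, 2, 4, 2, 5], [0, 2, 4, 4, 2, 1, 3, 0, 5, 5, 5, 5, 0, 5, 3], [0, 2, 5, 0, 5, 5, 5, 5, 2, 1, 3, 0, 4, 4, 3], [0, 2, 5, 1, 4, 4, 2, 1, 2, 4, 3, 4, 4, 1, 4], [0, 2, 5, 5, 0, 5, 5, 3, 4, 0, 4, 2, 5, 5, 2], [0, 2, 5, 5, 2, 2, 4, 1, 4, 0, 5, 0, 5, 5, 5], [0, 3, 3, 5, 5, 0, 5, 1, 2, 2, 5, 5, 3, 4, 4], [0, 3, 4, 2, 5, 3, 4, 0, 4, 4, 4, 0, 5, 0, 5], [0, 3, 4, 3, 4, 2, 1, 5, 3, 3, 4, 4, 4, 4, 4], [0, 3, 5, 5, 0, 4, 0, 5, 5, 1, 3, 3, 4, 3, 3], [0, 4, 4, 1, 2, 4, 3, 5, 5, 1, 4, 4, 2, 5, 2], [0, 4, 4, 4, 4, 1, 4, 1, 4, 3, 4, 2, 5, 3, 4], [0, 5, 5, 2, 4, 4, 2, 5, 5, 3, 5, 3, 3, 4, 4], [0, 0, 0, 0, 4, 4, 0, 2, 1, 3, 5, 5, 5, 5, 0, 5], [0, 0, 0, 0, 5,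 0, 5, 5, 5, 5, 2, 1, 3, 0, 4, 4], [0, 0, 0, 4, 0, 3, 1, 5, 2, 4, 0, 0, 0, 4, 4, 4], [0, 0, 0, 4, 0, 3, 1, 5, 2, 4, 2, 0, 3, 4, 4, 4], [0, 0, 0, 4, 1, 4, 1, 4, 1, 5, 5, 5, 1, 1, 4, 4], [0, 0, 0, 4, 2, 2, 2, 2, 4, 2, 5, 3, 4, 1, 4, 4], [0, 0, 0, 4, 3, 0, 0, 5, 2, 4, 0, 0, 0, 4, 4, 4], [0, 0, 0, 4, 3, 4, 2, 5, 2, 2, 2, 2, 4, 1, 4, 4], [0, 0, 0, 4, 3, 4, 3, 3, 3, 3, 5, 3, 4, 1, 4, 4], [0, 0, 0, 4, 4, 1, 1, 5, 5, 5, 1, 4, 1, 4, 1, 4], [0, 0, 0, 4, 4, 4, 2, 0, 3, 4, 0, 3, 1, 5, 2, 4], [0, 0, 0, 5, 1, 5, 1, 4, 1, 2, 4, 0, 5, 5, 5, 3], [0, 0, 0, 5, 2, 0, 4, 4, 1, 1, 5, 1, 4, 3, 5, 5], [0, 0, 0, 5, 2, 5, 2, 5, 3, 1, 2, 5, 5, 5, 1, 5], [0, 0, 0, 5, 5, 0, 2, 4, 1, 4, 3, 4, 3, 5, 2, 2], [0, 0, 2, 0,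 2, 5, 5, 0, 2, 4, 1, 4, 3, 4, 3, 5], [0, 0, 2, 1, 4, 0, 5, 5, 5, 0, 3, 5, 1, 5, 1, 4], [0, 0, 2, 1, 5, 1, 4, 4, 4, 1, 3, 0, 5, 1, 5, 5], [0, 0, 2, 1, 5, 1, 4, 4, 4, 3, 1, 4, 0, 4, 0, 5], [0, 0, 2, 4, 0, 5, 0, 5, 5, 5, 3, 4, 0, 0, 5, 3], [0, 0, 2, 4, 1, 2, 4, 2, 0, 4, 0, 3, 1, 5, 0, 5], [0, 0, 2, 4, 1, 2, 4, 2, 0, 4, 3, 0, 0, 5, 0, 5], [0, 0, 2, 4, 1, 5, 2, 5, 2, 4, 2, 1, 4, 1, 4, 4], [0, 0, 2, 4, 2, 0, 4, 3, 4, 0, 5, 5, 0, 0, 3, 4], [0, 0, 2, 4, 3, 4, 3, 3, 4, 1, 4, 3, 0, 5, 0, 4], [0, 0, 3, 1, 4, 1, 4, 4, 1, 2, 2, 5, 1, 1, 5, 5], [0, 0, 3, 1, 4, 3, 0, 4, 0, 3, 0, 5, 0, 5, 2, 4], [0, 0, 3, 3, 0, 4, 0, 0, 5, 1, 1, 5, 3, 3, 4, 4], [0, 0, 3, 3, 1, 4, 2, 5, 2, 5, 0, 5, 3, 1, 4, 4], [0, 0, 3,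 4, 0, 0, 5, 1, 1, 5, 3, 3, 4, 4, 1, 3], [0, 0, 3, 4, 1, 2, 0, 4, 2, 0, 4, 3, 4, 0, 5, 5], [0, 0, 3, 4, 1, 4, 2, 5, 3, 1, 3, 5, 2, 4, 2, 5], [0, 0, 3, 4, 4, 0, 0, 4, 3, 0, 2, 5, 5, 2, 4, 4], [0, 0, 3, 4, 4, 3, 5, 0, 5, 1, 5, 1, 4, 1, 4, 3], [0, 0, 3, 5, 2, 0, 0, 5, 5, 1, 3, 5, 0, 2, 0, 5], [0, 0, 4, 0, 3, 0, 3, 5, 5, 0, 5, 2, 0, 0, 4, 4], [0, 0, 4, 0, 4, 1, 2, 5, 3, 0, 4, 0, 4, 2, 4, 3], [0, 0, 4, 0, 4, 1, 2, 5, 3, 5, 1, 5, 1, 2, 4, 3], [0, 0, 4, 0, 4, 2, 4, 3, 0, 2, 4, 3, 0, 2, 4, 3], [0, 0, 4, 0, 4, 4, 1, 4, 0, 3, 1, 3, 4, 4, 3, 5], [0, 0, 4, 1, 1, 3, 3, 4, 3, 4, 2, 5, 0, 0, 4, 4], [0, 0, 4, 1, 1, 5, 3, 3, 0, 3, 0, 5, 5, 2, 2, 4], [0, 0, 4, 1, 3, 3, 1, 5, 5, 0, 5, 2, 0, 0, 4, 4], [0, 0,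 4, 1, 4, 4, 1, 2, 2, 5, 1, 1, 5, 5, 0, 3], [0, 0, 4, 1, 5, 0, 4, 1, 5, 0, 4, 4, 0, 4, 0, 4], [0, 0, 4, 1, 5, 5, 1, 1, 5, 5, 1, 4, 0, 0, 4, 4], [0, 0, 4, 2, 0, 2, 1, 5, 5, 0, 4, 0, 5, 5, 3, 3], [0, 0, 4, 2, 1, 3, 0, 5, 2, 0, 2, 5, 5, 2, 2, 4], [0, 0, 4, 2, 1, 4, 1, 4, 2, 0, 4, 4, 2, 0, 0, 5], [0, 0, 4, 2, 2, 0, 2, 4, 3, 4, 2, 5, 0, 0, 4, 4], [0, 0, 4, 2, 2, 2, 0, 5, 5, 0, 5, 2, 0, 0, 4, 4], [0, 0, 4, 2, 2, 4, 4, 2, 0, 2, 5, 0, 2, 1, 3, 5], [0, 0, 4, 2, 4, 0, 4, 1, 1, 4, 4, 2, 4, 2, 0, 5], [0, 0, 4, 3, 0, 3, 0, 4, 3, 4, 2, 5, 0, 0, 4, 4], [0, 0, 4, 3, 0, 4, 0, 3, 0, 5, 0, 5, 2, 4, 0, 3], [0, 0, 4, 3, 4, 4, 1, 3, 3, 5, 0, 4, 4, 2, 5, 2], [0, 0, 4, 3, 4, 4, 2, 5, 5, 1, 1, 3, 3, 5, 3, 5], [0,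 0, 4, 3, 4, 4, 2, 5, 5, 2, 2, 0, 2, 5, 3, 5], [0, 0, 4, 3, 4, 4, 2, 5, 5, 3, 0, 3, 0, 5, 3, 5], [0, 0, 4, 3, 5, 2, 4, 4, 2, 2, 0, 4, 4, 0, 3, 4], [0, 0, 4, 4, 1, 3, 3, 4, 3, 4, 2, 5, 5, 0, 4, 4], [0, 0, 4, 4, 1, 3, 5, 0, 5, 5, 1, 3, 3, 0, 3, 4], [0, 0, 4, 4, 1, 3, 5, 0, 5, 5, 3, 0, 2, 2, 2, 4], [0, 0, 4, 4, 1, 3, 5, 0, 5, 5, 3, 3, 1, 3, 0, 4], [0, 0, 4, 4, 1, 5, 5, 1, 4, 4, 1, 3, 4, 1, 4, 2], [0, 0, 4, 4, 3, 3, 1, 5, 5, 0, 5, 2, 5, 0, 4, 4], [0, 0, 4, 4, 3, 4, 4, 4, 2, 4, 0, 2, 4, 2, 5, 3], [0, 0, 5, 0, 2, 1, 3, 5, 3, 3, 4, 4, 3, 1, 3, 4], [0, 0, 5, 0, 3, 0, 4, 3, 4, 1, 2, 2, 5, 0, 3, 4], [0, 0, 5, 0, 5, 3, 5, 5, 2, 5, 0, 5, 3, 3, 0, 4], [0, 0, 5, 1, 2, 5, 2, 0, 0, 5, 3, 4, 1, 4, 0, 2], [0,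 0, 5, 1, 3, 4, 4, 1, 1, 3, 4, 1, 4, 3, 1, 4], [0, 0, 5, 1, 4, 1, 4, 0, 5, 5, 0, 4, 1, 4, 1, 5], [0, 0, 5, 1, 4, 3, 3, 5, 1, 2, 4, 1, 4, 3, 5, 5], [0, 0, 5, 2, 1, 3, 0, 5, 3, 3, 4, 4, 3, 1, 3, 4], [0, 0, 5, 2, 4, 2, 2, 0, 4, 1, 4, 3, 4, 3, 1, 4], [0, 0, 5, 3, 1, 5, 2, 5, 3, 4, 3, 1, 4, 0, 5, 3], [0, 0, 5, 3, 4, 1, 4, 2, 4, 1, 5, 5, 0, 3, 5, 3], [0, 0, 5, 3, 4, 1, 4, 3, 1, 2, 2, 5, 1, 2, 5, 2], [0, 0, 5, 3, 5, 0, 2, 5, 5, 1, 2, 2, 1, 5, 1, 4], [0, 0, 5, 5, 1, 3, 4, 2, 1, 3, 4, 4, 2, 5, 0, 4], [0, 0, 5, 5, 3, 1, 2, 4, 1, 5, 5, 5, 5, 5, 5, 5], [0, 0, 5, 5, 5, 5, 0, 5, 3, 0, 2, 4, 4, 3, 1, 2], [0, 0, 5, 5, 5, 5, 5, 5, 5, 1, 4, 3, 1, 2, 5, 5], [0, 2, 0, 3, 5, 0, 5, 5, 5, 5, 2, 1, 3, 0, 4, 4], [0,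 2, 0, 4, 3, 5, 3, 0, 4, 1, 5, 5, 3, 0, 2, 5], [0, 2, 0, 5, 5, 1, 3, 3, 4, 3, 4, 3, 4, 4, 1, 4], [0, 2, 1, 2, 4, 4, 1, 5, 1, 4, 4, 0, 3, 1, 3, 5], [0, 2, 1, 4, 1, 5, 0, 2, 5, 2, 4, 3, 4, 0, 2, 4], [0, 2, 1, 4, 2, 1, 4, 4, 0, 5, 3, 5, 0, 5, 2, 4], [0, 2, 1, 4, 3, 5, 3, 1, 5, 3, 5, 5, 5, 2, 5, 5], [0, 2, 1, 5, 0, 5, 0, 4, 0, 4, 1, 4, 2, 5, 5, 2], [0, 2, 1, 5, 1, 3, 5, 3, 0, 5, 1, 3, 0, 4, 1, 4], [0, 2, 1, 5, 3, 0, 4, 0, 4, 2, 4, 3, 0, 5, 1, 5], [0, 2, 1, 5, 3, 1, 2, 5, 3, 1, 2, 5, 3, 5, 1, 5], [0, 2, 1, 5, 3, 5, 1, 5, 1, 2, 4, 3, 0, 5, 1, 5], [0, 2, 2, 0, 4, 2, 5, 2, 5, 0, 5, 3, 1, 4, 4, 2], [0, 2, 2, 0, 5, 5, 3, 4, 4, 0, 3, 3, 5, 5, 0, 5], [0, 2, 2, 1, 5, 5, 0, 5, 5, 3, 4, 0, 4, 2, 5, 5], [0,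 2, 2, 5, 0, 4, 2, 5, 5, 3, 5, 2, 0, 5, 0, 5], [0, 2, 4, 0, 4, 1, 2, 4, 4, 2, 4, 0, 4, 2, 5, 5], [0, 2, 4, 1, 2, 4, 2, 0, 4, 3, 0, 4, 1, 4, 1, 4], [0, 2, 4, 1, 4, 3, 4, 3, 5, 1, 2, 1, 2, 0, 5, 5], [0, 2, 4, 1, 4, 3, 4, 3, 5, 3, 1, 3, 3, 0, 5, 5], [0, 2, 4, 2, 2, 4, 4, 3, 4, 4, 4, 4, 1, 5, 0, 5], [0, 2, 4, 3, 0, 2, 4, 3, 0, 5, 1, 5, 1, 2, 4, 3], [0, 2, 4, 3, 4, 3, 4, 2, 1, 3, 4, 0, 4, 4, 4, 3], [0, 2, 4, 3, 5, 3, 4, 3, 0, 5, 5, 5, 5, 3, 0, 4], [0, 2, 4, 4, 1, 5, 0, 5, 2, 2, 0, 4, 0, 3, 3, 5], [0, 2, 5, 0, 5, 1, 4, 1, 4, 4, 4, 2, 1, 4, 4, 2], [0, 2, 5, 1, 4, 4, 1, 2, 2, 0, 4, 3, 4, 4, 1, 4], [0, 2, 5, 2, 2, 0, 4, 4, 1, 5, 1, 4, 4, 1, 2, 2], [0, 2, 5, 3, 5, 1, 5, 0, 3, 0, 4, 1, 4, 2, 4, 4], [0,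 2, 5, 5, 2, 4, 4, 3, 3, 0, 4, 1, 4, 4, 1, 2], [0, 2, 5, 5, 2, 5, 2, 2, 1, 5, 2, 2, 5, 1, 5, 2], [0, 3, 0, 3, 4, 1, 4, 4, 2, 2, 1, 5, 5, 2, 4, 4], [0, 3, 0, 4, 0, 4, 2, 1, 4, 2, 0, 4, 0, 4, 3, 5], [0, 3, 0, 4, 3, 5, 2, 5, 1, 2, 2, 5, 5, 2, 4, 4], [0, 3, 0, 5, 2, 2, 0, 4, 4, 1, 5, 1, 4, 4, 1, 3], [0, 3, 0, 5, 5, 3, 0, 5, 5, 3, 3, 4, 4, 4, 3, 4], [0, 3, 3, 5, 5, 0, 5, 1, 3, 3, 3, 5, 5, 3, 4, 4], [0, 3, 4, 0, 4, 1, 2, 4, 4, 2, 2, 4, 4, 1, 4, 4], [0, 3, 4, 0, 5, 5, 2, 2, 5, 5, 3, 5, 2, 4, 0, 5], [0, 3, 4, 1, 2, 4, 0, 5, 5, 2, 0, 4, 0, 4, 3, 5], [0, 3, 4, 1, 2, 4, 0, 5, 5, 2, 5, 1, 5, 1, 3, 5], [0, 3, 4, 1, 2, 5, 5, 2, 1, 4, 2, 1, 2, 4, 4, 3], [0, 3, 4, 3, 4, 2, 1, 5, 3, 3, 5, 5, 5, 5, 5, 5], [0,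 3, 5, 0, 5, 0, 4, 0, 4, 1, 4, 2, 5, 5, 3, 3], [0, 3, 5, 3, 4, 3, 4, 0, 5, 1, 3, 0, 5, 5, 0, 5], [0, 4, 0, 4, 3, 4, 3, 4, 1, 5, 1, 5, 5, 2, 5, 2], [0, 4, 0, 4, 3, 4, 3, 4, 4, 0, 4, 0, 5, 2, 5, 2], [0, 4, 0, 5, 5, 5, 2, 0, 5, 1, 5, 5, 3, 0, 4, 3], [0, 4, 1, 2, 0, 4, 3, 4, 3, 3, 4, 1, 4, 3, 0, 5], [0, 4, 1, 4, 2, 4, 2, 5, 5, 0, 4, 1, 5, 5, 3, 3], [0, 4, 2, 5, 5, 3, 5, 2, 4, 1, 4, 1, 4, 2, 2, 5], [0, 4, 3, 4, 1, 3, 4, 3, 4, 3, 0, 4, 4, 0, 5, 3], [0, 4, 4, 1, 5, 2, 4, 1, 4, 3, 4, 3, 5, 5, 2, 2], [0, 4, 4, 3, 4, 3, 5, 3, 4, 2, 2, 0, 5, 5, 5, 2], [0, 4, 4, 4, 1, 3, 4, 3, 4, 4, 1, 2, 2, 4, 2, 5], [0, 5, 2, 4, 1, 5, 3, 3, 4, 4, 4, 4, 4, 3, 5, 5], [0, 5, 2, 5, 5, 2, 4, 4, 1, 2, 2, 5, 3, 4, 3, 4], [0,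 1], [1, 0], [2, 3], [3, 2], [4, 5], [5, 4]]

/-- the subgroup generator words -/
def subL : List (List ℕ) := [[0], [2]]

/-- the seed relators with their twists -/
def seedL : List (List ℕ × List ℕ) := [([0, 0, 0, 0, 0, 0, 0, 0, 0, 0, 0], []), ([2, 2, 2, 2, 2], []), ([2, 0, 3, 1, 1, 1], []), ([4, 4, 4, 4, 4, 4, 4, 4, 4, 4, 4], []), ([0, 0, 0, 0, 3, 1, 2], []), ([0, 0, 0, 3, 0, 0, 2], []), ([0, 0, 2, 2, 0, 3, 3], []), ([0, 2, 0, 3, 3, 1, 2], []), ([0, 2, 1, 2, 1, 3, 3], []), ([0, 0, 2, 2, 0, 2, 2, 2], []), ([0, 0, 3, 0, 3, 0, 2, 2], []), ([0, 0, 3, 3, 0, 2, 0, 2], []), ([0, 0, 3, 3, 3, 0, 3, 3], []), ([0, 2, 0, 2, 2, 2, 1, 2], []), ([0, 2, 0, 3, 1, 2, 1, 3], []), ([0, 2, 1, 2, 1, 2, 2, 2],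 []), ([0, 4, 0, 4, 0, 4, 0, 4], []), ([0, 0, 2, 0, 3, 1, 3, 1, 2], []), ([0, 5, 0, 5, 0, 5, 0, 5, 0, 5], []), ([0, 4, 1, 5, 0, 4, 1, 5, 0, 4, 1, 5], []), ([0, 0, 0, 4, 3, 4, 2, 5, 3, 4, 1, 4, 4], []), ([0, 0, 4, 4, 4, 4, 1, 4, 3, 1, 2, 5, 5], []), ([0, 0, 5, 5, 3, 1, 2, 4, 1, 4, 4, 4, 4], []), ([0, 3, 4, 3, 4, 2, 5, 3, 4, 1, 4, 4, 2], []), ([0, 0, 0, 0, 4, 4, 1, 1, 5, 5, 5, 5, 0, 5], []), ([0, 0, 0, 0, 5, 0, 5, 5, 5, 5, 1, 1, 4, 4], []), ([0, 0, 2, 5, 5, 0, 5, 2, 4, 3, 5, 2, 5, 3], []), ([0, 0, 2, 5, 5, 5, 0, 4, 3, 0, 4, 4, 0, 4], []), ([0, 0, 4, 1, 1, 5, 2, 0, 2, 5, 5, 2, 2, 4], []), ([0, 0, 4, 1, 4, 3, 3, 4, 0, 3, 3, 4, 2, 4], []), ([0, 0, 4, 2, 2, 4, 4, 2, 0, 2, 5, 1, 1, 5], []), ([0,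 0, 4, 4, 4, 4, 1, 4, 1, 2, 1, 3, 5, 5], []), ([0, 0, 4, 4, 4, 4, 1, 4, 2, 1, 3, 1, 5, 5], []), ([0, 0, 5, 5, 1, 2, 1, 3, 4, 1, 4, 4, 4, 4], []), ([0, 0, 5, 5, 2, 1, 3, 1, 4, 1, 4, 4, 4, 4], []), ([0, 2, 4, 3, 4, 2, 5, 3, 4, 1, 4, 4, 1, 3], []), ([0, 2, 5, 5, 5, 0, 4, 3, 0, 4, 1, 5, 1, 5], []), ([0, 3, 0, 4, 0, 4, 4, 1, 2, 4, 0, 5, 5, 5], []), ([0, 3, 5, 1, 5, 1, 4, 1, 2, 4, 0, 5, 5, 5], []), ([0, 4, 1, 2, 0, 5, 5, 5, 0, 4, 3, 0, 4, 4], []), ([0, 0, 0, 3, 5, 1, 5, 5, 1, 2, 5, 1, 4, 4, 4], []), ([0, 0, 0, 4, 0, 5, 2, 4, 3, 5, 0, 0, 5, 2, 4], []), ([0, 0, 0, 4, 1, 1, 5, 2, 4, 4, 4, 1, 4, 1, 5], []), ([0, 0, 2, 2, 5, 2, 2, 5, 0, 5, 1, 1, 5, 3, 5], []), ([0, 0, 2, 4, 1, 4, 4, 4, 4, 0, 0, 5, 5,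 1, 3], []), ([0, 0, 3, 0, 4, 1, 4, 4, 4, 4, 0, 0, 5, 5, 2], []), ([0, 0, 3, 3, 4, 4, 1, 4, 2, 0, 5, 5, 1, 1, 5], []), ([0, 0, 3, 4, 2, 5, 2, 5, 0, 5, 3, 1, 4, 4, 3], []), ([0, 0, 3, 5, 2, 2, 0, 4, 4, 1, 5, 1, 4, 4, 3], []), ([0, 0, 3, 5, 5, 0, 0, 4, 4, 4, 4, 1, 4, 0, 2], []), ([0, 0, 4, 0, 3, 3, 1, 5, 5, 3, 3, 5, 1, 1, 4], []), ([0, 0, 4, 1, 1, 5, 0, 2, 2, 1, 5, 5, 2, 2, 4], []), ([0, 0, 4, 1, 1, 5, 2, 0, 2, 5, 5, 3, 3, 3, 4], []), ([0, 0, 4, 1, 4, 2, 2, 2, 4, 0, 3, 3, 4, 2, 4], []), ([0, 0, 4, 1, 4, 3, 3, 4, 0, 2, 2, 2, 4, 2, 4], []), ([0, 0, 4, 3, 1, 3, 5, 5, 2, 2, 2, 5, 1, 1, 4], []), ([0, 0, 4, 3, 3, 0, 5, 5, 0, 5, 2, 0, 0, 4, 4], []), ([0, 0, 4, 4, 1, 3, 5, 0, 5, 5, 0, 2, 0, 2, 4], []),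 ([0, 0, 4, 4, 1, 3, 5, 0, 5, 5, 3, 0, 3, 3, 4], []), ([0, 0, 4, 4, 4, 1, 5, 3, 0, 5, 5, 1, 5, 0, 2], []), ([0, 0, 5, 2, 1, 3, 4, 0, 5, 0, 5, 5, 5, 3, 4], []), ([0, 0, 5, 2, 4, 2, 0, 3, 4, 0, 5, 2, 4, 3, 5], []), ([0, 0, 5, 3, 4, 1, 4, 1, 2, 1, 5, 1, 2, 5, 2], []), ([0, 0, 5, 3, 4, 2, 4, 1, 3, 4, 1, 5, 0, 2, 5], []), ([0, 0, 5, 3, 5, 0, 2, 5, 5, 0, 2, 2, 5, 1, 4], []), ([0, 0, 5, 5, 1, 3, 1, 2, 0, 4, 1, 4, 4, 4, 4], []), ([0, 2, 1, 5, 5, 0, 4, 0, 5, 5, 1, 3, 3, 4, 2], []), ([0, 2, 4, 0, 4, 4, 1, 2, 4, 0, 5, 5, 5, 3, 3], []), ([0, 2, 4, 1, 4, 3, 4, 3, 5, 3, 3, 0, 3, 5, 5], []), ([0, 2, 4, 2, 5, 0, 2, 4, 2, 5, 0, 2, 4, 2, 5], []), ([0, 2, 4, 4, 2, 1, 3, 0, 5, 5, 5, 5, 0, 5, 3], []), ([0, 2,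 5, 0, 5, 5, 5, 5, 2, 1, 3, 0, 4, 4, 3], []), ([0, 2, 5, 1, 4, 4, 2, 1, 2, 4, 3, 4, 4, 1, 4], []), ([0, 2, 5, 5, 0, 5, 5, 3, 4, 0, 4, 2, 5, 5, 2], []), ([0, 2, 5, 5, 2, 2, 4, 1, 4, 0, 5, 0, 5, 5, 5], []), ([0, 3, 3, 5, 5, 0, 5, 1, 2, 2, 5, 5, 3, 4, 4], []), ([0, 3, 4, 2, 5, 3, 4, 0, 4, 4, 4, 0, 5, 0, 5], []), ([0, 3, 4, 3, 4, 2, 1, 5, 3, 3, 4, 4, 4, 4, 4], []), ([0, 3, 5, 5, 0, 4, 0, 5, 5, 1, 3, 3, 4, 3, 3], []), ([0, 4, 4, 1, 2, 4, 3, 5, 5, 1, 4, 4, 2, 5, 2], []), ([0, 4, 4, 4, 4, 1, 4, 1, 4, 3, 4, 2, 5, 3, 4], []), ([0, 5, 5, 2, 4, 4, 2, 5, 5, 3, 5, 3, 3, 4, 4], []), ([0, 0, 0, 0, 4, 4, 0, 2, 1, 3, 5, 5, 5, 5, 0, 5], []), ([0, 0, 0, 0, 5, 0, 5, 5, 5, 5, 2, 1, 3, 0, 4, 4], []), ([0, 0, 0,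 4, 0, 3, 1, 5, 2, 4, 0, 0, 0, 4, 4, 4], []), ([0, 0, 0, 4, 0, 3, 1, 5, 2, 4, 2, 0, 3, 4, 4, 4], []), ([0, 0, 0, 4, 1, 4, 1, 4, 1, 5, 5, 5, 1, 1, 4, 4], []), ([0, 0, 0, 4, 2, 2, 2, 2, 4, 2, 5, 3, 4, 1, 4, 4], []), ([0, 0, 0, 4, 3, 0, 0, 5, 2, 4, 0, 0, 0, 4, 4, 4], []), ([0, 0, 0, 4, 3, 4, 2, 5, 2, 2, 2, 2, 4, 1, 4, 4], []), ([0, 0, 0, 4, 3, 4, 3, 3, 3, 3, 5, 3, 4, 1, 4, 4], []), ([0, 0, 0, 4, 4, 1, 1, 5, 5, 5, 1, 4, 1, 4, 1, 4], []), ([0, 0, 0, 4, 4, 4, 2, 0, 3, 4, 0, 3, 1, 5, 2, 4], []), ([0, 0, 0, 5, 1, 5, 1, 4, 1, 2, 4, 0, 5, 5, 5, 3], []), ([0, 0, 0, 5, 2, 0, 4, 4, 1, 1, 5, 1, 4, 3, 5, 5], []), ([0, 0, 0, 5, 2, 5, 2, 5, 3, 1, 2, 5, 5, 5, 1, 5], []), ([0, 0, 0, 5, 5, 0, 2, 4, 1, 4, 3, 4,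 3, 5, 2, 2], []), ([0, 0, 2, 0, 2, 5, 5, 0, 2, 4, 1, 4, 3, 4, 3, 5], []), ([0, 0, 2, 1, 4, 0, 5, 5, 5, 0, 3, 5, 1, 5, 1, 4], []), ([0, 0, 2, 1, 5, 1, 4, 4, 4, 1, 3, 0, 5, 1, 5, 5], []), ([0, 0, 2, 1, 5, 1, 4, 4, 4, 3, 1, 4, 0, 4, 0, 5], []), ([0, 0, 2, 4, 0, 5, 0, 5, 5, 5, 3, 4, 0, 0, 5, 3], []), ([0, 0, 2, 4, 1, 2, 4, 2, 0, 4, 0, 3, 1, 5, 0, 5], []), ([0, 0, 2, 4, 1, 2, 4, 2, 0, 4, 3, 0, 0, 5, 0, 5], []), ([0, 0, 2, 4, 1, 5, 2, 5, 2, 4, 2, 1, 4, 1, 4, 4], []), ([0, 0, 2, 4, 2, 0, 4, 3, 4, 0, 5, 5, 0, 0, 3, 4], []), ([0, 0, 2, 4, 3, 4, 3, 3, 4, 1, 4, 3, 0, 5, 0, 4], []), ([0, 0, 3, 1, 4, 1, 4, 4, 1, 2, 2, 5, 1, 1, 5, 5], []), ([0, 0, 3, 1, 4, 3, 0, 4, 0, 3, 0, 5, 0, 5, 2, 4], []), ([0, 0,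 3, 3, 0, 4, 0, 0, 5, 1, 1, 5, 3, 3, 4, 4], []), ([0, 0, 3, 3, 1, 4, 2, 5, 2, 5, 0, 5, 3, 1, 4, 4], []), ([0, 0, 3, 4, 0, 0, 5, 1, 1, 5, 3, 3, 4, 4, 1, 3], []), ([0, 0, 3, 4, 1, 2, 0, 4, 2, 0, 4, 3, 4, 0, 5, 5], []), ([0, 0, 3, 4, 1, 4, 2, 5, 3, 1, 3, 5, 2, 4, 2, 5], []), ([0, 0, 3, 4, 4, 0, 0, 4, 3, 0, 2, 5, 5, 2, 4, 4], []), ([0, 0, 3, 4, 4, 3, 5, 0, 5, 1, 5, 1, 4, 1, 4, 3], []), ([0, 0, 3, 5, 2, 0, 0, 5, 5, 1, 3, 5, 0, 2, 0, 5], []), ([0, 0, 4, 0, 3, 0, 3, 5, 5, 0, 5, 2, 0, 0, 4, 4], []), ([0, 0, 4, 0, 4, 1, 2, 5, 3, 0, 4, 0, 4, 2, 4, 3], []), ([0, 0, 4, 0, 4, 1, 2, 5, 3, 5, 1, 5, 1, 2, 4, 3], []), ([0, 0, 4, 0, 4, 2, 4, 3, 0, 2, 4, 3, 0, 2, 4, 3], []), ([0, 0, 4, 0, 4, 4, 1, 4, 0, 3, 1,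 3, 4, 4, 3, 5], []), ([0, 0, 4, 1, 1, 3, 3, 4, 3, 4, 2, 5, 0, 0, 4, 4], []), ([0, 0, 4, 1, 1, 5, 3, 3, 0, 3, 0, 5, 5, 2, 2, 4], []), ([0, 0, 4, 1, 3, 3, 1, 5, 5, 0, 5, 2, 0, 0, 4, 4], []), ([0, 0, 4, 1, 4, 4, 1, 2, 2, 5, 1, 1, 5, 5, 0, 3], []), ([0, 0, 4, 1, 5, 0, 4, 1, 5, 0, 4, 4, 0, 4, 0, 4], []), ([0, 0, 4, 1, 5, 5, 1, 1, 5, 5, 1, 4, 0, 0, 4, 4], []), ([0, 0, 4, 2, 0, 2, 1, 5, 5, 0, 4, 0, 5, 5, 3, 3], []), ([0, 0, 4, 2, 1, 3, 0, 5, 2, 0, 2, 5, 5, 2, 2, 4], []), ([0, 0, 4, 2, 1, 4, 1, 4, 2, 0, 4, 4, 2, 0, 0, 5], []), ([0, 0, 4, 2, 2, 0, 2, 4, 3, 4, 2, 5, 0, 0, 4, 4], []), ([0, 0, 4, 2, 2, 2, 0, 5, 5, 0, 5, 2, 0, 0, 4, 4], []), ([0, 0, 4, 2, 2, 4, 4, 2, 0, 2, 5, 0, 2, 1, 3, 5], []), ([0,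 0, 4, 2, 4, 0, 4, 1, 1, 4, 4, 2, 4, 2, 0, 5], []), ([0, 0, 4, 3, 0, 3, 0, 4, 3, 4, 2, 5, 0, 0, 4, 4], []), ([0, 0, 4, 3, 0, 4, 0, 3, 0, 5, 0, 5, 2, 4, 0, 3], []), ([0, 0, 4, 3, 4, 4, 1, 3, 3, 5, 0, 4, 4, 2, 5, 2], []), ([0, 0, 4, 3, 4, 4, 2, 5, 5, 1, 1, 3, 3, 5, 3, 5], []), ([0, 0, 4, 3, 4, 4, 2, 5, 5, 2, 2, 0, 2, 5, 3, 5], []), ([0, 0, 4, 3, 4, 4, 2, 5, 5, 3, 0, 3, 0, 5, 3, 5], []), ([0, 0, 4, 3, 5, 2, 4, 4, 2, 2, 0, 4, 4, 0, 3, 4], []), ([0, 0, 4, 4, 1, 3, 3, 4, 3, 4, 2, 5, 5, 0, 4, 4], []), ([0, 0, 4, 4, 1, 3, 5, 0, 5, 5, 1, 3, 3, 0, 3, 4], []), ([0, 0, 4, 4, 1, 3, 5, 0, 5, 5, 3, 0, 2, 2, 2, 4], []), ([0, 0, 4, 4, 1, 3, 5, 0, 5, 5, 3, 3, 1, 3, 0, 4], []), ([0, 0, 4, 4, 1, 5, 5, 1, 4, 4,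 1, 3, 4, 1, 4, 2], []), ([0, 0, 4, 4, 3, 3, 1, 5, 5, 0, 5, 2, 5, 0, 4, 4], []), ([0, 0, 4, 4, 3, 4, 4, 4, 2, 4, 0, 2, 4, 2, 5, 3], []), ([0, 0, 5, 0, 2, 1, 3, 5, 3, 3, 4, 4, 3, 1, 3, 4], []), ([0, 0, 5, 0, 3, 0, 4, 3, 4, 1, 2, 2, 5, 0, 3, 4], []), ([0, 0, 5, 0, 5, 3, 5, 5, 2, 5, 0, 5, 3, 3, 0, 4], []), ([0, 0, 5, 1, 2, 5, 2, 0, 0, 5, 3, 4, 1, 4, 0, 2], []), ([0, 0, 5, 1, 3, 4, 4, 1, 1, 3, 4, 1, 4, 3, 1, 4], []), ([0, 0, 5, 1, 4, 1, 4, 0, 5, 5, 0, 4, 1, 4, 1, 5], []), ([0, 0, 5, 1, 4, 3, 3, 5, 1, 2, 4, 1, 4, 3, 5, 5], []), ([0, 0, 5, 2, 1, 3, 0, 5, 3, 3, 4, 4, 3, 1, 3, 4], []), ([0, 0, 5, 2, 4, 2, 2, 0, 4, 1, 4, 3, 4, 3, 1, 4], []), ([0, 0, 5, 3, 1, 5, 2, 5, 3, 4, 3, 1, 4, 0, 5, 3], []), ([0,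 0, 5, 3, 4, 1, 4, 2, 4, 1, 5, 5, 0, 3, 5, 3], []), ([0, 0, 5, 3, 4, 1, 4, 3, 1, 2, 2, 5, 1, 2, 5, 2], []), ([0, 0, 5, 3, 5, 0, 2, 5, 5, 1, 2, 2, 1, 5, 1, 4], []), ([0, 0, 5, 5, 1, 3, 4, 2, 1, 3, 4, 4, 2, 5, 0, 4], []), ([0, 0, 5, 5, 3, 1, 2, 4, 1, 5, 5, 5, 5, 5, 5, 5], []), ([0, 0, 5, 5, 5, 5, 0, 5, 3, 0, 2, 4, 4, 3, 1, 2], []), ([0, 0, 5, 5, 5, 5, 5, 5, 5, 1, 4, 3, 1, 2, 5, 5], []), ([0, 2, 0, 3, 5, 0, 5, 5, 5, 5, 2, 1, 3, 0, 4, 4], []), ([0, 2, 0, 4, 3, 5, 3, 0, 4, 1, 5, 5, 3, 0, 2, 5], []), ([0, 2, 0, 5, 5, 1, 3, 3, 4, 3, 4, 3, 4, 4, 1, 4], []), ([0, 2, 1, 2, 4, 4, 1, 5, 1, 4, 4, 0, 3, 1, 3, 5], []), ([0, 2, 1, 4, 1, 5, 0, 2, 5, 2, 4, 3, 4, 0, 2, 4], []), ([0, 2, 1, 4, 2, 1, 4, 4, 0, 5,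 3, 5, 0, 5, 2, 4], []), ([0, 2, 1, 4, 3, 5, 3, 1, 5, 3, 5, 5, 5, 2, 5, 5], []), ([0, 2, 1, 5, 0, 5, 0, 4, 0, 4, 1, 4, 2, 5, 5, 2], []), ([0, 2, 1, 5, 1, 3, 5, 3, 0, 5, 1, 3, 0, 4, 1, 4], []), ([0, 2, 1, 5, 3, 0, 4, 0, 4, 2, 4, 3, 0, 5, 1, 5], []), ([0, 2, 1, 5, 3, 1, 2, 5, 3, 1, 2, 5, 3, 5, 1, 5], []), ([0, 2, 1, 5, 3, 5, 1, 5, 1, 2, 4, 3, 0, 5, 1, 5], []), ([0, 2, 2, 0, 4, 2, 5, 2, 5, 0, 5, 3, 1, 4, 4, 2], []), ([0, 2, 2, 0, 5, 5, 3, 4, 4, 0, 3, 3, 5, 5, 0, 5], []), ([0, 2, 2, 1, 5, 5, 0, 5, 5, 3, 4, 0, 4, 2, 5, 5], []), ([0, 2, 2, 5, 0, 4, 2, 5, 5, 3, 5, 2, 0, 5, 0, 5], []), ([0, 2, 4, 0, 4, 1, 2, 4, 4, 2, 4, 0, 4, 2, 5, 5], []), ([0, 2, 4, 1, 2, 4, 2, 0, 4, 3, 0, 4, 1, 4, 1, 4], []), ([0,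 2, 4, 1, 4, 3, 4, 3, 5, 1, 2, 1, 2, 0, 5, 5], []), ([0, 2, 4, 1, 4, 3, 4, 3, 5, 3, 1, 3, 3, 0, 5, 5], []), ([0, 2, 4, 2, 2, 4, 4, 3, 4, 4, 4, 4, 1, 5, 0, 5], []), ([0, 2, 4, 3, 0, 2, 4, 3, 0, 5, 1, 5, 1, 2, 4, 3], []), ([0, 2, 4, 3, 4, 3, 4, 2, 1, 3, 4, 0, 4, 4, 4, 3], []), ([0, 2, 4, 3, 5, 3, 4, 3, 0, 5, 5, 5, 5, 3, 0, 4], []), ([0, 2, 4, 4, 1, 5, 0, 5, 2, 2, 0, 4, 0, 3, 3, 5], []), ([0, 2, 5, 0, 5, 1, 4, 1, 4, 4, 4, 2, 1, 4, 4, 2], []), ([0, 2, 5, 1, 4, 4, 1, 2, 2, 0, 4, 3, 4, 4, 1, 4], []), ([0, 2, 5, 2, 2, 0, 4, 4, 1, 5, 1, 4, 4, 1, 2, 2], []), ([0, 2, 5, 3, 5, 1, 5, 0, 3, 0, 4, 1, 4, 2, 4, 4], []), ([0, 2, 5, 5, 2, 4, 4, 3, 3, 0, 4, 1, 4, 4, 1, 2], []), ([0, 2, 5, 5, 2, 5, 2, 2, 1, 5,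 2, 2, 5, 1, 5, 2], []), ([0, 3, 0, 3, 4, 1, 4, 4, 2, 2, 1, 5, 5, 2, 4, 4], []), ([0, 3, 0, 4, 0, 4, 2, 1, 4, 2, 0, 4, 0, 4, 3, 5], []), ([0, 3, 0, 4, 3, 5, 2, 5, 1, 2, 2, 5, 5, 2, 4, 4], []), ([0, 3, 0, 5, 2, 2, 0, 4, 4, 1, 5, 1, 4, 4, 1, 3], []), ([0, 3, 0, 5, 5, 3, 0, 5, 5, 3, 3, 4, 4, 4, 3, 4], []), ([0, 3, 3, 5, 5, 0, 5, 1, 3, 3, 3, 5, 5, 3, 4, 4], []), ([0, 3, 4, 0, 4, 1, 2, 4, 4, 2, 2, 4, 4, 1, 4, 4], []), ([0, 3, 4, 0, 5, 5, 2, 2, 5, 5, 3, 5, 2, 4, 0, 5], []), ([0, 3, 4, 1, 2, 4, 0, 5, 5, 2, 0, 4, 0, 4, 3, 5], []), ([0, 3, 4, 1, 2, 4, 0, 5, 5, 2, 5, 1, 5, 1, 3, 5], []), ([0, 3, 4, 1, 2, 5, 5, 2, 1, 4, 2, 1, 2, 4, 4, 3], []), ([0, 3, 4, 3, 4, 2, 1, 5, 3, 3, 5, 5, 5, 5, 5, 5], []), ([0,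 3, 5, 0, 5, 0, 4, 0, 4, 1, 4, 2, 5, 5, 3, 3], []), ([0, 3, 5, 3, 4, 3, 4, 0, 5, 1, 3, 0, 5, 5, 0, 5], []), ([0, 4, 0, 4, 3, 4, 3, 4, 1, 5, 1, 5, 5, 2, 5, 2], []), ([0, 4, 0, 4, 3, 4, 3, 4, 4, 0, 4, 0, 5, 2, 5, 2], []), ([0, 4, 0, 5, 5, 5, 2, 0, 5, 1, 5, 5, 3, 0, 4, 3], []), ([0, 4, 1, 2, 0, 4, 3, 4, 3, 3, 4, 1, 4, 3, 0, 5], []), ([0, 4, 1, 4, 2, 4, 2, 5, 5, 0, 4, 1, 5, 5, 3, 3], []), ([0, 4, 2, 5, 5, 3, 5, 2, 4, 1, 4, 1, 4, 2, 2, 5], []), ([0, 4, 3, 4, 1, 3, 4, 3, 4, 3, 0, 4, 4, 0, 5, 3], []), ([0, 4, 4, 1, 5, 2, 4, 1, 4, 3, 4, 3, 5, 5, 2, 2], []), ([0, 4, 4, 3, 4, 3, 5, 3, 4, 2, 2, 0, 5, 5, 5, 2], []), ([0, 4, 4, 4, 1, 3, 4, 3, 4, 4, 1, 2, 2, 4, 2, 5], []), ([0, 5, 2, 4, 1, 5, 3, 3, 4, 4,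 4, 4, 4, 3, 5, 5], []), ([0, 5, 2, 5, 5, 2, 4, 4, 1, 2, 2, 5, 3, 4, 3, 4], []), ([0, 1], []), ([1, 0], []), ([2, 3], []), ([3, 2], []), ([4, 5], []), ([5, 4], [])]

theorem words_mem : ∀ v ∈ words.toList, (v.2 = true → v.1 ∈ relL) ∧ (v.2 = false → v.1 ∈ subL) := by
  decide +kernel

/-- the seed words are in the seed list -/
noncomputable def seedChk (w : ℕ) : Bool :=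
  match WT.get words w with
  | some (wd, true) => decide ((wd, Ev w) ∈ seedL)
  | _ => true

theorem seed_mem : ∀ w < 231, seedChk w = true := by
  decide +kernel

end Cfsg.Agent.Lib.H16.U62M.P2
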