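import Cfsg.Agent.Lib.H16.U62M.P2.Steps0
import Cfsg.Agent.Lib.H16.U62M.P2.Steps1
import Cfsg.Agent.Lib.H16.U62M.P2.Steps2
import Cfsg.Agent.Lib.H16.U62M.P2.Steps3
import Cfsg.Agent.Lib.H16.U62M.P2.Steps4
import Cfsg.Agent.Lib.H16.U62M.P2.Steps5
import Cfsg.Agent.Lib.H16.U62M.P2.Steps6
import Cfsg.Agent.Lib.H16.U62M.P2.Steps7
import Cfsg.Agent.Lib.H16.U62M.P2.Steps8
import Cfsg.Agent.Lib.H16.U62M.P2.Steps9
import Cfsg.Agent.Lib.H16.U62M.P2.Steps10
import Cfsg.Agent.Lib.H16.U62M.P2.Steps11
import Cfsg.Agent.Lib.H16.U62M.P2.Steps12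

set_option autoImplicit false
set_option maxRecDepth 100000

/-! # Running the monomial certificate, part 0 (generated) -/

namespace Cfsg.Agent.Lib.H16.U62M.P2

open Cfsg.Agent.Lib.H17.CosetCert (BT WT)
open Cfsg.Agent.Lib.H17.MonoCert
open Cfsg.Agent.Lib.H16.G24M

variable {G Q A : Type*} [Group G] [MulAction G Q] [Group A] [MulAction A Q]
  [SMulCommClass G A Q] (tw : List ℕ → A) (γ : ℕ → G)

theorem run0 (hfree : ∀ (α β : A) (q : Q), α • q = β • q → α = β)
    (htw : TwOK (nadd NN) (List.replicate 0 0) neq tw) (q0 : Q) (hw : WordsOK Ev tw γ q0 words 231) :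
    Inv F Ev tw γ q0 words 150000 71462 231 := by
  have h0 := inv_zero F Ev tw γ q0 words 231 hw
  have h1 := checkSteps_sound (nadd NN) (List.replicate 0 0) neq F Ev 6 2097152 tw γ hfree htw q0 words 231 hw steps0 0 1 231 1500 709 231 h0 chk0
  have h2 := checkSteps_sound (nadd NN) (List.replicate 0 0) neq F Ev 6 2097152 tw γ hfree htw q0 words 231 hw steps1 1500 709 231 3000 1433 231 h1 chk1
  have h3 := checkSteps_sound (nadd NN) (List.replicate 0 0) neq F Ev 6 2097152 tw γ hfree htw q0 words 231 hw steps2 3000 1433 231 4500 2144 231 h2 chk2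
  have h4 := checkSteps_sound (nadd NN) (List.replicate 0 0) neq F Ev 6 2097152 tw γ hfree htw q0 words 231 hw steps3 4500 2144 231 6000 2858 231 h3 chk3
  have h5 := checkSteps_sound (nadd NN) (List.replicate 0 0) neq F Ev 6 2097152 tw γ hfree htw q0 words 231 hw steps4 6000 2858 231 7500 3574 231 h4 chk4
  have h6 := checkSteps_sound (nadd NN) (List.replicate 0 0) neq F Ev 6 2097152 tw γ hfree htw q0 words 231 hw steps5 7500 3574 231 9000 4287 231 h5 chk5
  have h7 := checkSteps_sound (nadd NN) (List.replicate 0 0) neq F Ev 6 2097152 tw γ hfree htw q0 words 231 hw steps6 9000 4287 231 10500 5007 231 h6 chk6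
  have h8 := checkSteps_sound (nadd NN) (List.replicate 0 0) neq F Ev 6 2097152 tw γ hfree htw q0 words 231 hw steps7 10500 5007 231 12000 5718 231 h7 chk7
  have h9 := checkSteps_sound (nadd NN) (List.replicate 0 0) neq F Ev 6 2097152 tw γ hfree htw q0 words 231 hw steps8 12000 5718 231 13500 6431 231 h8 chk8
  have h10 := checkSteps_sound (nadd NN) (List.replicate 0 0) neq F Ev 6 2097152 tw γ hfree htw q0 words 231 hw steps9 13500 6431 231 15000 7142 231 h9 chk9
  have h11 := checkSteps_sound (nadd NN) (List.replicate 0 0) neq F Ev 6 2097152 tw γ hfree htw q0 words 231 hw steps10 15000 7142 231 16500 7862 231 h10 chk10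
  have h12 := checkSteps_sound (nadd NN) (List.replicate 0 0) neq F Ev 6 2097152 tw γ hfree htw q0 words 231 hw steps11 16500 7862 231 18000 8568 231 h11 chk11
  have h13 := checkSteps_sound (nadd NN) (List.replicate 0 0) neq F Ev 6 2097152 tw γ hfree htw q0 words 231 hw steps12 18000 8568 231 19500 9283 231 h12 chk12
  have h14 := checkSteps_sound (nadd NN) (List.replicate 0 0) neq F Ev 6 2097152 tw γ hfree htw q0 words 231 hw steps13 19500 9283 231 21000 10001 231 h13 chk13
  have h15 := checkSteps_sound (nadd NN) (List.replicate 0 0) neq F Ev 6 2097152 tw γ hfree htw q0 words 231 hw steps14 21000 10001 231 22500 10702 231 h14 chk14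
  have h16 := checkSteps_sound (nadd NN) (List.replicate 0 0) neq F Ev 6 2097152 tw γ hfree htw q0 words 231 hw steps15 22500 10702 231 24000 11424 231 h15 chk15
  have h17 := checkSteps_sound (nadd NN) (List.replicate 0 0) neq F Ev 6 2097152 tw γ hfree htw q0 words 231 hw steps16 24000 11424 231 25500 12131 231 h16 chk16
  have h18 := checkSteps_sound (nadd NN) (List.replicate 0 0) neq F Ev 6 2097152 tw γ hfree htw q0 words 231 hw steps17 25500 12131 231 27000 12840 231 h17 chk17
  have h19 := checkSteps_sound (nadd NN) (List.replicate 0 0) neq F Ev 6 2097152 tw γ hfree htw q0 words 231 hw steps18 27000 12840 231 28500 13557 231 h18 chk18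
  have h20 := checkSteps_sound (nadd NN) (List.replicate 0 0) neq F Ev 6 2097152 tw γ hfree htw q0 words 231 hw steps19 28500 13557 231 30000 14278 231 h19 chk19
  have h21 := checkSteps_sound (nadd NN) (List.replicate 0 0) neq F Ev 6 2097152 tw γ hfree htw q0 words 231 hw steps20 30000 14278 231 31500 14991 231 h20 chk20
  have h22 := checkSteps_sound (nadd NN) (List.replicate 0 0) neq F Ev 6 2097152 tw γ hfree htw q0 words 231 hw steps21 31500 14991 231 33000 15702 231 h21 chk21
  have h23 := checkSteps_sound (nadd NN) (List.replicate 0 0) neq F Ev 6 2097152 tw γ hfree htw q0 words 231 hw steps22 33000 15702 231 34500 16407 231 h22 chk22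
  have h24 := checkSteps_sound (nadd NN) (List.replicate 0 0) neq F Ev 6 2097152 tw γ hfree htw q0 words 231 hw steps23 34500 16407 231 36000 17123 231 h23 chk23
  have h25 := checkSteps_sound (nadd NN) (List.replicate 0 0) neq F Ev 6 2097152 tw γ hfree htw q0 words 231 hw steps24 36000 17123 231 37500 17836 231 h24 chk24
  have h26 := checkSteps_sound (nadd NN) (List.replicate 0 0) neq F Ev 6 2097152 tw γ hfree htw q0 words 231 hw steps25 37500 17836 231 39000 18541 231 h25 chk25
  have h27 := checkSteps_sound (nadd NN) (List.replicate 0 0) neq F Ev 6 2097152 tw γ hfree htw q0 words 231 hw steps26 39000 18541 231 40500 19260 231 h26 chk26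
  have h28 := checkSteps_sound (nadd NN) (List.replicate 0 0) neq F Ev 6 2097152 tw γ hfree htw q0 words 231 hw steps27 40500 19260 231 42000 19967 231 h27 chk27
  have h29 := checkSteps_sound (nadd NN) (List.replicate 0 0) neq F Ev 6 2097152 tw γ hfree htw q0 words 231 hw steps28 42000 19967 231 43500 20675 231 h28 chk28
  have h30 := checkSteps_sound (nadd NN) (List.replicate 0 0) neq F Ev 6 2097152 tw γ hfree htw q0 words 231 hw steps29 43500 20675 231 45000 21393 231 h29 chk29
  have h31 := checkSteps_sound (nadd NN) (List.replicate 0 0) neq F Ev 6 2097152 tw γ hfree htw q0 words 231 hw steps30 45000 21393 231 46500 22097 231 h30 chk30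
  have h32 := checkSteps_sound (nadd NN) (List.replicate 0 0) neq F Ev 6 2097152 tw γ hfree htw q0 words 231 hw steps31 46500 22097 231 48000 22809 231 h31 chk31
  have h33 := checkSteps_sound (nadd NN) (List.replicate 0 0) neq F Ev 6 2097152 tw γ hfree htw q0 words 231 hw steps32 48000 22809 231 49500 23526 231 h32 chk32
  have h34 := checkSteps_sound (nadd NN) (List.replicate 0 0) neq F Ev 6 2097152 tw γ hfree htw q0 words 231 hw steps33 49500 23526 231 51000 24244 231 h33 chk33
  have h35 := checkSteps_sound (nadd NN) (List.replicate 0 0) neq F Ev 6 2097152 tw γ hfree htw q0 words 231 hw steps34 51000 24244 231 52500 24956 231 h34 chk34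
  have h36 := checkSteps_sound (nadd NN) (List.replicate 0 0) neq F Ev 6 2097152 tw γ hfree htw q0 words 231 hw steps35 52500 24956 231 54000 25655 231 h35 chk35
  have h37 := checkSteps_sound (nadd NN) (List.replicate 0 0) neq F Ev 6 2097152 tw γ hfree htw q0 words 231 hw steps36 54000 25655 231 55500 26381 231 h36 chk36
  have h38 := checkSteps_sound (nadd NN) (List.replicate 0 0) neq F Ev 6 2097152 tw γ hfree htw q0 words 231 hw steps37 55500 26381 231 57000 27088 231 h37 chk37
  have h39 := checkSteps_sound (nadd NN) (List.replicate 0 0) neq F Ev 6 2097152 tw γ hfree htw q0 words 231 hw steps38 57000 27088 231 58500 27804 231 h38 chk38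
  have h40 := checkSteps_sound (nadd NN) (List.replicate 0 0) neq F Ev 6 2097152 tw γ hfree htw q0 words 231 hw steps39 58500 27804 231 60000 28520 231 h39 chk39
  have h41 := checkSteps_sound (nadd NN) (List.replicate 0 0) neq F Ev 6 2097152 tw γ hfree htw q0 words 231 hw steps40 60000 28520 231 61500 29233 231 h40 chk40
  have h42 := checkSteps_sound (nadd NN) (List.replicate 0 0) neq F Ev 6 2097152 tw γ hfree htw q0 words 231 hw steps41 61500 29233 231 63000 29950 231 h41 chk41
  have h43 := checkSteps_sound (nadd NN) (List.replicate 0 0) neq F Ev 6 2097152 tw γ hfree htw q0 words 231 hw steps42 63000 29950 231 64500 30666 231 h42 chk42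
  have h44 := checkSteps_sound (nadd NN) (List.replicate 0 0) neq F Ev 6 2097152 tw γ hfree htw q0 words 231 hw steps43 64500 30666 231 66000 31384 231 h43 chk43
  have h45 := checkSteps_sound (nadd NN) (List.replicate 0 0) neq F Ev 6 2097152 tw γ hfree htw q0 words 231 hw steps44 66000 31384 231 67500 32101 231 h44 chk44
  have h46 := checkSteps_sound (nadd NN) (List.replicate 0 0) neq F Ev 6 2097152 tw γ hfree htw q0 words 231 hw steps45 67500 32101 231 69000 32818 231 h45 chk45
  have h47 := checkSteps_sound (nadd NN) (List.replicate 0 0) neq F Ev 6 2097152 tw γ hfree htw q0 words 231 hw steps46 69000 32818 231 70500 33534 231 h46 chk46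
  have h48 := checkSteps_sound (nadd NN) (List.replicate 0 0) neq F Ev 6 2097152 tw γ hfree htw q0 words 231 hw steps47 70500 33534 231 72000 34250 231 h47 chk47
  have h49 := checkSteps_sound (nadd NN) (List.replicate 0 0) neq F Ev 6 2097152 tw γ hfree htw q0 words 231 hw steps48 72000 34250 231 73500 34959 231 h48 chk48
  have h50 := checkSteps_sound (nadd NN) (List.replicate 0 0) neq F Ev 6 2097152 tw γ hfree htw q0 words 231 hw steps49 73500 34959 231 75000 35676 231 h49 chk49
  have h51 := checkSteps_sound (nadd NN) (List.replicate 0 0) neq F Ev 6 2097152 tw γ hfree htw q0 words 231 hw steps50 75000 35676 231 76500 36379 231 h50 chk50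
  have h52 := checkSteps_sound (nadd NN) (List.replicate 0 0) neq F Ev 6 2097152 tw γ hfree htw q0 words 231 hw steps51 76500 36379 231 78000 37093 231 h51 chk51
  have h53 := checkSteps_sound (nadd NN) (List.replicate 0 0) neq F Ev 6 2097152 tw γ hfree htw q0 words 231 hw steps52 78000 37093 231 79500 37814 231 h52 chk52
  have h54 := checkSteps_sound (nadd NN) (List.replicate 0 0) neq F Ev 6 2097152 tw γ hfree htw q0 words 231 hw steps53 79500 37814 231 81000 38527 231 h53 chk53
  have h55 := checkSteps_sound (nadd NN) (List.replicate 0 0) neq F Ev 6 2097152 tw γ hfree htw q0 words 231 hw steps54 81000 38527 231 82500 39245 231 h54 chk54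
  have h56 := checkSteps_sound (nadd NN) (List.replicate 0 0) neq F Ev 6 2097152 tw γ hfree htw q0 words 231 hw steps55 82500 39245 231 84000 39967 231 h55 chk55
  have h57 := checkSteps_sound (nadd NN) (List.replicate 0 0) neq F Ev 6 2097152 tw γ hfree htw q0 words 231 hw steps56 84000 39967 231 85500 40687 231 h56 chk56
  have h58 := checkSteps_sound (nadd NN) (List.replicate 0 0) neq F Ev 6 2097152 tw γ hfree htw q0 words 231 hw steps57 85500 40687 231 87000 41390 231 h57 chk57
  have h59 := checkSteps_sound (nadd NN) (List.replicate 0 0) neq F Ev 6 2097152 tw γ hfree htw q0 words 231 hw steps58 87000 41390 231 88500 42107 231 h58 chk58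
  have h60 := checkSteps_sound (nadd NN) (List.replicate 0 0) neq F Ev 6 2097152 tw γ hfree htw q0 words 231 hw steps59 88500 42107 231 90000 42823 231 h59 chk59
  have h61 := checkSteps_sound (nadd NN) (List.replicate 0 0) neq F Ev 6 2097152 tw γ hfree htw q0 words 231 hw steps60 90000 42823 231 91500 43545 231 h60 chk60
  have h62 := checkSteps_sound (nadd NN) (List.replicate 0 0) neq F Ev 6 2097152 tw γ hfree htw q0 words 231 hw steps61 91500 43545 231 93000 44254 231 h61 chk61
  have h63 := checkSteps_sound (nadd NN) (List.replicate 0 0) neq F Ev 6 2097152 tw γ hfree htw q0 words 231 hw steps62 93000 44254 231 94500 44976 231 h62 chk62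
  have h64 := checkSteps_sound (nadd NN) (List.replicate 0 0) neq F Ev 6 2097152 tw γ hfree htw q0 words 231 hw steps63 94500 44976 231 96000 45698 231 h63 chk63
  have h65 := checkSteps_sound (nadd NN) (List.replicate 0 0) neq F Ev 6 2097152 tw γ hfree htw q0 words 231 hw steps64 96000 45698 231 97500 46407 231 h64 chk64
  have h66 := checkSteps_sound (nadd NN) (List.replicate 0 0) neq F Ev 6 2097152 tw γ hfree htw q0 words 231 hw steps65 97500 46407 231 99000 47129 231 h65 chk65
  have h67 := checkSteps_sound (nadd NN) (List.replicate 0 0) neq F Ev 6 2097152 tw γ hfree htw q0 words 231 hw steps66 99000 47129 231 100500 47846 231 h66 chk66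
  have h68 := checkSteps_sound (nadd NN) (List.replicate 0 0) neq F Ev 6 2097152 tw γ hfree htw q0 words 231 hw steps67 100500 47846 231 102000 48564 231 h67 chk67
  have h69 := checkSteps_sound (nadd NN) (List.replicate 0 0) neq F Ev 6 2097152 tw γ hfree htw q0 words 231 hw steps68 102000 48564 231 103500 49274 231 h68 chk68
  have h70 := checkSteps_sound (nadd NN) (List.replicate 0 0) neq F Ev 6 2097152 tw γ hfree htw q0 words 231 hw steps69 103500 49274 231 105000 49982 231 h69 chk69
  have h71 := checkSteps_sound (nadd NN) (List.replicate 0 0) neq F Ev 6 2097152 tw γ hfree htw q0 words 231 hw steps70 105000 49982 231 106500 50697 231 h70 chk70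
  have h72 := checkSteps_sound (nadd NN) (List.replicate 0 0) neq F Ev 6 2097152 tw γ hfree htw q0 words 231 hw steps71 106500 50697 231 108000 51401 231 h71 chk71
  have h73 := checkSteps_sound (nadd NN) (List.replicate 0 0) neq F Ev 6 2097152 tw γ hfree htw q0 words 231 hw steps72 108000 51401 231 109500 52124 231 h72 chk72
  have h74 := checkSteps_sound (nadd NN) (List.replicate 0 0) neq F Ev 6 2097152 tw γ hfree htw q0 words 231 hw steps73 109500 52124 231 111000 52846 231 h73 chk73
  have h75 := checkSteps_sound (nadd NN) (List.replicate 0 0) neq F Ev 6 2097152 tw γ hfree htw q0 words 231 hw steps74 111000 52846 231 112500 53562 231 h74 chk74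
  have h76 := checkSteps_sound (nadd NN) (List.replicate 0 0) neq F Ev 6 2097152 tw γ hfree htw q0 words 231 hw steps75 112500 53562 231 114000 54285 231 h75 chk75
  have h77 := checkSteps_sound (nadd NN) (List.replicate 0 0) neq F Ev 6 2097152 tw γ hfree htw q0 words 231 hw steps76 114000 54285 231 115500 55002 231 h76 chk76
  have h78 := checkSteps_sound (nadd NN) (List.replicate 0 0) neq F Ev 6 2097152 tw γ hfree htw q0 words 231 hw steps77 115500 55002 231 117000 55721 231 h77 chk77
  have h79 := checkSteps_sound (nadd NN) (List.replicate 0 0) neq F Ev 6 2097152 tw γ hfree htw q0 words 231 hw steps78 117000 55721 231 118500 56438 231 h78 chk78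
  have h80 := checkSteps_sound (nadd NN) (List.replicate 0 0) neq F Ev 6 2097152 tw γ hfree htw q0 words 231 hw steps79 118500 56438 231 120000 57154 231 h79 chk79
  have h81 := checkSteps_sound (nadd NN) (List.replicate 0 0) neq F Ev 6 2097152 tw γ hfree htw q0 words 231 hw steps80 120000 57154 231 121500 57868 231 h80 chk80
  have h82 := checkSteps_sound (nadd NN) (List.replicate 0 0) neq F Ev 6 2097152 tw γ hfree htw q0 words 231 hw steps81 121500 57868 231 123000 58589 231 h81 chk81
  have h83 := checkSteps_sound (nadd NN) (List.replicate 0 0) neq F Ev 6 2097152 tw γ hfree htw q0 words 231 hw steps82 123000 58589 231 124500 59294 231 h82 chk82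
  have h84 := checkSteps_sound (nadd NN) (List.replicate 0 0) neq F Ev 6 2097152 tw γ hfree htw q0 words 231 hw steps83 124500 59294 231 126000 60014 231 h83 chk83
  have h85 := checkSteps_sound (nadd NN) (List.replicate 0 0) neq F Ev 6 2097152 tw γ hfree htw q0 words 231 hw steps84 126000 60014 231 127500 60717 231 h84 chk84
  have h86 := checkSteps_sound (nadd NN) (List.replicate 0 0) neq F Ev 6 2097152 tw γ hfree htw q0 words 231 hw steps85 127500 60717 231 129000 61434 231 h85 chk85
  have h87 := checkSteps_sound (nadd NN) (List.replicate 0 0) neq F Ev 6 2097152 tw γ hfree htw q0 words 231 hw steps86 129000 61434 231 130500 62150 231 h86 chk86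
  have h88 := checkSteps_sound (nadd NN) (List.replicate 0 0) neq F Ev 6 2097152 tw γ hfree htw q0 words 231 hw steps87 130500 62150 231 132000 62871 231 h87 chk87
  have h89 := checkSteps_sound (nadd NN) (List.replicate 0 0) neq F Ev 6 2097152 tw γ hfree htw q0 words 231 hw steps88 132000 62871 231 133500 63577 231 h88 chk88
  have h90 := checkSteps_sound (nadd NN) (List.replicate 0 0) neq F Ev 6 2097152 tw γ hfree htw q0 words 231 hw steps89 133500 63577 231 135000 64296 231 h89 chk89
  have h91 := checkSteps_sound (nadd NN) (List.replicate 0 0) neq F Ev 6 2097152 tw γ hfree htw q0 words 231 hw steps90 135000 64296 231 136500 65010 231 h90 chk90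
  have h92 := checkSteps_sound (nadd NN) (List.replicate 0 0) neq F Ev 6 2097152 tw γ hfree htw q0 words 231 hw steps91 136500 65010 231 138000 65726 231 h91 chk91
  have h93 := checkSteps_sound (nadd NN) (List.replicate 0 0) neq F Ev 6 2097152 tw γ hfree htw q0 words 231 hw steps92 138000 65726 231 139500 66436 231 h92 chk92
  have h94 := checkSteps_sound (nadd NN) (List.replicate 0 0) neq F Ev 6 2097152 tw γ hfree htw q0 words 231 hw steps93 139500 66436 231 141000 67155 231 h93 chk93
  have h95 := checkSteps_sound (nadd NN) (List.replicate 0 0) neq F Ev 6 2097152 tw γ hfree htw q0 words 231 hw steps94 141000 67155 231 142500 67880 231 h94 chk94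
  have h96 := checkSteps_sound (nadd NN) (List.replicate 0 0) neq F Ev 6 2097152 tw γ hfree htw q0 words 231 hw steps95 142500 67880 231 144000 68591 231 h95 chk95
  have h97 := checkSteps_sound (nadd NN) (List.replicate 0 0) neq F Ev 6 2097152 tw γ hfree htw q0 words 231 hw steps96 144000 68591 231 145500 69314 231 h96 chk96
  have h98 := checkSteps_sound (nadd NN) (List.replicate 0 0) neq F Ev 6 2097152 tw γ hfree htw q0 words 231 hw steps97 145500 69314 231 147000 70034 231 h97 chk97
  have h99 := checkSteps_sound (nadd NN) (List.replicate 0 0) neq F Ev 6 2097152 tw γ hfree htw q0 words 231 hw steps98 147000 70034 231 148500 70745 231 h98 chk98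
  have h100 := checkSteps_sound (nadd NN) (List.replicate 0 0) neq F Ev 6 2097152 tw γ hfree htw q0 words 231 hw steps99 148500 70745 231 150000 71462 231 h99 chk99
  exact h100

end Cfsg.Agent.Lib.H16.U62M.P2
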