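import Cfsg.Agent.Lib.H16.U62M.P2.Steps12
import Cfsg.Agent.Lib.H16.U62M.P2.Steps13
import Cfsg.Agent.Lib.H16.U62M.P2.Steps14
import Cfsg.Agent.Lib.H16.U62M.P2.Steps15
import Cfsg.Agent.Lib.H16.U62M.P2.Steps16
import Cfsg.Agent.Lib.H16.U62M.P2.Steps17
import Cfsg.Agent.Lib.H16.U62M.P2.Steps18
import Cfsg.Agent.Lib.H16.U62M.P2.Steps19
import Cfsg.Agent.Lib.H16.U62M.P2.Steps20
import Cfsg.Agent.Lib.H16.U62M.P2.Steps21
import Cfsg.Agent.Lib.H16.U62M.P2.Steps22
import Cfsg.Agent.Lib.H16.U62M.P2.Steps23
import Cfsg.Agent.Lib.H16.U62M.P2.Steps24
import Cfsg.Agent.Lib.H16.U62M.P2.Run0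

set_option autoImplicit false
set_option maxRecDepth 100000

/-! # Running the monomial certificate, part 1 (generated) -/

namespace Cfsg.Agent.Lib.H16.U62M.P2

open Cfsg.Agent.Lib.H17.CosetCert (BT WT)
open Cfsg.Agent.Lib.H17.MonoCert
open Cfsg.Agent.Lib.H16.G24M

variable {G Q A : Type*} [Group G] [MulAction G Q] [Group A] [MulAction A Q]
  [SMulCommClass G A Q] (tw : List ℕ → A) (γ : ℕ → G)

theorem run1 (hfree : ∀ (α β : A) (q : Q), α • q = β • q → α = β)
    (htw : TwOK (nadd NN) (List.replicate 0 0) neq tw) (q0 : Q) (hw : WordsOK Ev tw γ q0 words 231) :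
    Inv F Ev tw γ q0 words 300000 143422 231 := by
  have h0 := run0 tw γ hfree htw q0 hw
  have h1 := checkSteps_sound (nadd NN) (List.replicate 0 0) neq F Ev 6 2097152 tw γ hfree htw q0 words 231 hw steps100 150000 71462 231 151500 72173 231 h0 chk100
  have h2 := checkSteps_sound (nadd NN) (List.replicate 0 0) neq F Ev 6 2097152 tw γ hfree htw q0 words 231 hw steps101 151500 72173 231 153000 72890 231 h1 chk101
  have h3 := checkSteps_sound (nadd NN) (List.replicate 0 0) neq F Ev 6 2097152 tw γ hfree htw q0 words 231 hw steps102 153000 72890 231 154500 73602 231 h2 chk102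
  have h4 := checkSteps_sound (nadd NN) (List.replicate 0 0) neq F Ev 6 2097152 tw γ hfree htw q0 words 231 hw steps103 154500 73602 231 156000 74329 231 h3 chk103
  have h5 := checkSteps_sound (nadd NN) (List.replicate 0 0) neq F Ev 6 2097152 tw γ hfree htw q0 words 231 hw steps104 156000 74329 231 157500 75042 231 h4 chk104
  have h6 := checkSteps_sound (nadd NN) (List.replicate 0 0) neq F Ev 6 2097152 tw γ hfree htw q0 words 231 hw steps105 157500 75042 231 159000 75758 231 h5 chk105
  have h7 := checkSteps_sound (nadd NN) (List.replicate 0 0) neq F Ev 6 2097152 tw γ hfree htw q0 words 231 hw steps106 159000 75758 231 160500 76469 231 h6 chk106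
  have h8 := checkSteps_sound (nadd NN) (List.replicate 0 0) neq F Ev 6 2097152 tw γ hfree htw q0 words 231 hw steps107 160500 76469 231 162000 77176 231 h7 chk107
  have h9 := checkSteps_sound (nadd NN) (List.replicate 0 0) neq F Ev 6 2097152 tw γ hfree htw q0 words 231 hw steps108 162000 77176 231 163500 77899 231 h8 chk108
  have h10 := checkSteps_sound (nadd NN) (List.replicate 0 0) neq F Ev 6 2097152 tw γ hfree htw q0 words 231 hw steps109 163500 77899 231 165000 78617 231 h9 chk109
  have h11 := checkSteps_sound (nadd NN) (List.replicate 0 0) neq F Ev 6 2097152 tw γ hfree htw q0 words 231 hw steps110 165000 78617 231 166500 79327 231 h10 chk110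
  have h12 := checkSteps_sound (nadd NN) (List.replicate 0 0) neq F Ev 6 2097152 tw γ hfree htw q0 words 231 hw steps111 166500 79327 231 168000 80046 231 h11 chk111
  have h13 := checkSteps_sound (nadd NN) (List.replicate 0 0) neq F Ev 6 2097152 tw γ hfree htw q0 words 231 hw steps112 168000 80046 231 169500 80767 231 h12 chk112
  have h14 := checkSteps_sound (nadd NN) (List.replicate 0 0) neq F Ev 6 2097152 tw γ hfree htw q0 words 231 hw steps113 169500 80767 231 171000 81489 231 h13 chk113
  have h15 := checkSteps_sound (nadd NN) (List.replicate 0 0) neq F Ev 6 2097152 tw γ hfree htw q0 words 231 hw steps114 171000 81489 231 172500 82207 231 h14 chk114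
  have h16 := checkSteps_sound (nadd NN) (List.replicate 0 0) neq F Ev 6 2097152 tw γ hfree htw q0 words 231 hw steps115 172500 82207 231 174000 82919 231 h15 chk115
  have h17 := checkSteps_sound (nadd NN) (List.replicate 0 0) neq F Ev 6 2097152 tw γ hfree htw q0 words 231 hw steps116 174000 82919 231 175500 83627 231 h16 chk116
  have h18 := checkSteps_sound (nadd NN) (List.replicate 0 0) neq F Ev 6 2097152 tw γ hfree htw q0 words 231 hw steps117 175500 83627 231 177000 84345 231 h17 chk117
  have h19 := checkSteps_sound (nadd NN) (List.replicate 0 0) neq F Ev 6 2097152 tw γ hfree htw q0 words 231 hw steps118 177000 84345 231 178500 85059 231 h18 chk118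
  have h20 := checkSteps_sound (nadd NN) (List.replicate 0 0) neq F Ev 6 2097152 tw γ hfree htw q0 words 231 hw steps119 178500 85059 231 180000 85786 231 h19 chk119
  have h21 := checkSteps_sound (nadd NN) (List.replicate 0 0) neq F Ev 6 2097152 tw γ hfree htw q0 words 231 hw steps120 180000 85786 231 181500 86513 231 h20 chk120
  have h22 := checkSteps_sound (nadd NN) (List.replicate 0 0) neq F Ev 6 2097152 tw γ hfree htw q0 words 231 hw steps121 181500 86513 231 183000 87234 231 h21 chk121
  have h23 := checkSteps_sound (nadd NN) (List.replicate 0 0) neq F Ev 6 2097152 tw γ hfree htw q0 words 231 hw steps122 183000 87234 231 184500 87949 231 h22 chk122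
  have h24 := checkSteps_sound (nadd NN) (List.replicate 0 0) neq F Ev 6 2097152 tw γ hfree htw q0 words 231 hw steps123 184500 87949 231 186000 88668 231 h23 chk123
  have h25 := checkSteps_sound (nadd NN) (List.replicate 0 0) neq F Ev 6 2097152 tw γ hfree htw q0 words 231 hw steps124 186000 88668 231 187500 89383 231 h24 chk124
  have h26 := checkSteps_sound (nadd NN) (List.replicate 0 0) neq F Ev 6 2097152 tw γ hfree htw q0 words 231 hw steps125 187500 89383 231 189000 90105 231 h25 chk125
  have h27 := checkSteps_sound (nadd NN) (List.replicate 0 0) neq F Ev 6 2097152 tw γ hfree htw q0 words 231 hw steps126 189000 90105 231 190500 90829 231 h26 chk126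
  have h28 := checkSteps_sound (nadd NN) (List.replicate 0 0) neq F Ev 6 2097152 tw γ hfree htw q0 words 231 hw steps127 190500 90829 231 192000 91540 231 h27 chk127
  have h29 := checkSteps_sound (nadd NN) (List.replicate 0 0) neq F Ev 6 2097152 tw γ hfree htw q0 words 231 hw steps128 192000 91540 231 193500 92263 231 h28 chk128
  have h30 := checkSteps_sound (nadd NN) (List.replicate 0 0) neq F Ev 6 2097152 tw γ hfree htw q0 words 231 hw steps129 193500 92263 231 195000 92969 231 h29 chk129
  have h31 := checkSteps_sound (nadd NN) (List.replicate 0 0) neq F Ev 6 2097152 tw γ hfree htw q0 words 231 hw steps130 195000 92969 231 196500 93696 231 h30 chk130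
  have h32 := checkSteps_sound (nadd NN) (List.replicate 0 0) neq F Ev 6 2097152 tw γ hfree htw q0 words 231 hw steps131 196500 93696 231 198000 94420 231 h31 chk131
  have h33 := checkSteps_sound (nadd NN) (List.replicate 0 0) neq F Ev 6 2097152 tw γ hfree htw q0 words 231 hw steps132 198000 94420 231 199500 95139 231 h32 chk132
  have h34 := checkSteps_sound (nadd NN) (List.replicate 0 0) neq F Ev 6 2097152 tw γ hfree htw q0 words 231 hw steps133 199500 95139 231 201000 95865 231 h33 chk133
  have h35 := checkSteps_sound (nadd NN) (List.replicate 0 0) neq F Ev 6 2097152 tw γ hfree htw q0 words 231 hw steps134 201000 95865 231 202500 96577 231 h34 chk134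
  have h36 := checkSteps_sound (nadd NN) (List.replicate 0 0) neq F Ev 6 2097152 tw γ hfree htw q0 words 231 hw steps135 202500 96577 231 204000 97304 231 h35 chk135
  have h37 := checkSteps_sound (nadd NN) (List.replicate 0 0) neq F Ev 6 2097152 tw γ hfree htw q0 words 231 hw steps136 204000 97304 231 205500 98020 231 h36 chk136
  have h38 := checkSteps_sound (nadd NN) (List.replicate 0 0) neq F Ev 6 2097152 tw γ hfree htw q0 words 231 hw steps137 205500 98020 231 207000 98741 231 h37 chk137
  have h39 := checkSteps_sound (nadd NN) (List.replicate 0 0) neq F Ev 6 2097152 tw γ hfree htw q0 words 231 hw steps138 207000 98741 231 208500 99462 231 h38 chk138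
  have h40 := checkSteps_sound (nadd NN) (List.replicate 0 0) neq F Ev 6 2097152 tw γ hfree htw q0 words 231 hw steps139 208500 99462 231 210000 100186 231 h39 chk139
  have h41 := checkSteps_sound (nadd NN) (List.replicate 0 0) neq F Ev 6 2097152 tw γ hfree htw q0 words 231 hw steps140 210000 100186 231 211500 100909 231 h40 chk140
  have h42 := checkSteps_sound (nadd NN) (List.replicate 0 0) neq F Ev 6 2097152 tw γ hfree htw q0 words 231 hw steps141 211500 100909 231 213000 101625 231 h41 chk141
  have h43 := checkSteps_sound (nadd NN) (List.replicate 0 0) neq F Ev 6 2097152 tw γ hfree htw q0 words 231 hw steps142 213000 101625 231 214500 102344 231 h42 chk142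
  have h44 := checkSteps_sound (nadd NN) (List.replicate 0 0) neq F Ev 6 2097152 tw γ hfree htw q0 words 231 hw steps143 214500 102344 231 216000 103067 231 h43 chk143
  have h45 := checkSteps_sound (nadd NN) (List.replicate 0 0) neq F Ev 6 2097152 tw γ hfree htw q0 words 231 hw steps144 216000 103067 231 217500 103786 231 h44 chk144
  have h46 := checkSteps_sound (nadd NN) (List.replicate 0 0) neq F Ev 6 2097152 tw γ hfree htw q0 words 231 hw steps145 217500 103786 231 219000 104498 231 h45 chk145
  have h47 := checkSteps_sound (nadd NN) (List.replicate 0 0) neq F Ev 6 2097152 tw γ hfree htw q0 words 231 hw steps146 219000 104498 231 220500 105216 231 h46 chk146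
  have h48 := checkSteps_sound (nadd NN) (List.replicate 0 0) neq F Ev 6 2097152 tw γ hfree htw q0 words 231 hw steps147 220500 105216 231 222000 105934 231 h47 chk147
  have h49 := checkSteps_sound (nadd NN) (List.replicate 0 0) neq F Ev 6 2097152 tw γ hfree htw q0 words 231 hw steps148 222000 105934 231 223500 106650 231 h48 chk148
  have h50 := checkSteps_sound (nadd NN) (List.replicate 0 0) neq F Ev 6 2097152 tw γ hfree htw q0 words 231 hw steps149 223500 106650 231 225000 107374 231 h49 chk149
  have h51 := checkSteps_sound (nadd NN) (List.replicate 0 0) neq F Ev 6 2097152 tw γ hfree htw q0 words 231 hw steps150 225000 107374 231 226500 108087 231 h50 chk150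
  have h52 := checkSteps_sound (nadd NN) (List.replicate 0 0) neq F Ev 6 2097152 tw γ hfree htw q0 words 231 hw steps151 226500 108087 231 228000 108812 231 h51 chk151
  have h53 := checkSteps_sound (nadd NN) (List.replicate 0 0) neq F Ev 6 2097152 tw γ hfree htw q0 words 231 hw steps152 228000 108812 231 229500 109534 231 h52 chk152
  have h54 := checkSteps_sound (nadd NN) (List.replicate 0 0) neq F Ev 6 2097152 tw γ hfree htw q0 words 231 hw steps153 229500 109534 231 231000 110246 231 h53 chk153
  have h55 := checkSteps_sound (nadd NN) (List.replicate 0 0) neq F Ev 6 2097152 tw γ hfree htw q0 words 231 hw steps154 231000 110246 231 232500 110968 231 h54 chk154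
  have h56 := checkSteps_sound (nadd NN) (List.replicate 0 0) neq F Ev 6 2097152 tw γ hfree htw q0 words 231 hw steps155 232500 110968 231 234000 111692 231 h55 chk155
  have h57 := checkSteps_sound (nadd NN) (List.replicate 0 0) neq F Ev 6 2097152 tw γ hfree htw q0 words 231 hw steps156 234000 111692 231 235500 112424 231 h56 chk156
  have h58 := checkSteps_sound (nadd NN) (List.replicate 0 0) neq F Ev 6 2097152 tw γ hfree htw q0 words 231 hw steps157 235500 112424 231 237000 113135 231 h57 chk157
  have h59 := checkSteps_sound (nadd NN) (List.replicate 0 0) neq F Ev 6 2097152 tw γ hfree htw q0 words 231 hw steps158 237000 113135 231 238500 113853 231 h58 chk158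
  have h60 := checkSteps_sound (nadd NN) (List.replicate 0 0) neq F Ev 6 2097152 tw γ hfree htw q0 words 231 hw steps159 238500 113853 231 240000 114573 231 h59 chk159
  have h61 := checkSteps_sound (nadd NN) (List.replicate 0 0) neq F Ev 6 2097152 tw γ hfree htw q0 words 231 hw steps160 240000 114573 231 241500 115291 231 h60 chk160
  have h62 := checkSteps_sound (nadd NN) (List.replicate 0 0) neq F Ev 6 2097152 tw γ hfree htw q0 words 231 hw steps161 241500 115291 231 243000 116000 231 h61 chk161
  have h63 := checkSteps_sound (nadd NN) (List.replicate 0 0) neq F Ev 6 2097152 tw γ hfree htw q0 words 231 hw steps162 243000 116000 231 244500 116723 231 h62 chk162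
  have h64 := checkSteps_sound (nadd NN) (List.replicate 0 0) neq F Ev 6 2097152 tw γ hfree htw q0 words 231 hw steps163 244500 116723 231 246000 117447 231 h63 chk163
  have h65 := checkSteps_sound (nadd NN) (List.replicate 0 0) neq F Ev 6 2097152 tw γ hfree htw q0 words 231 hw steps164 246000 117447 231 247500 118168 231 h64 chk164
  have h66 := checkSteps_sound (nadd NN) (List.replicate 0 0) neq F Ev 6 2097152 tw γ hfree htw q0 words 231 hw steps165 247500 118168 231 249000 118900 231 h65 chk165
  have h67 := checkSteps_sound (nadd NN) (List.replicate 0 0) neq F Ev 6 2097152 tw γ hfree htw q0 words 231 hw steps166 249000 118900 231 250500 119618 231 h66 chk166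
  have h68 := checkSteps_sound (nadd NN) (List.replicate 0 0) neq F Ev 6 2097152 tw γ hfree htw q0 words 231 hw steps167 250500 119618 231 252000 120336 231 h67 chk167
  have h69 := checkSteps_sound (nadd NN) (List.replicate 0 0) neq F Ev 6 2097152 tw γ hfree htw q0 words 231 hw steps168 252000 120336 231 253500 121055 231 h68 chk168
  have h70 := checkSteps_sound (nadd NN) (List.replicate 0 0) neq F Ev 6 2097152 tw γ hfree htw q0 words 231 hw steps169 253500 121055 231 255000 121780 231 h69 chk169
  have h71 := checkSteps_sound (nadd NN) (List.replicate 0 0) neq F Ev 6 2097152 tw γ hfree htw q0 words 231 hw steps170 255000 121780 231 256500 122502 231 h70 chk170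
  have h72 := checkSteps_sound (nadd NN) (List.replicate 0 0) neq F Ev 6 2097152 tw γ hfree htw q0 words 231 hw steps171 256500 122502 231 258000 123225 231 h71 chk171
  have h73 := checkSteps_sound (nadd NN) (List.replicate 0 0) neq F Ev 6 2097152 tw γ hfree htw q0 words 231 hw steps172 258000 123225 231 259500 123943 231 h72 chk172
  have h74 := checkSteps_sound (nadd NN) (List.replicate 0 0) neq F Ev 6 2097152 tw γ hfree htw q0 words 231 hw steps173 259500 123943 231 261000 124664 231 h73 chk173
  have h75 := checkSteps_sound (nadd NN) (List.replicate 0 0) neq F Ev 6 2097152 tw γ hfree htw q0 words 231 hw steps174 261000 124664 231 262500 125392 231 h74 chk174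
  have h76 := checkSteps_sound (nadd NN) (List.replicate 0 0) neq F Ev 6 2097152 tw γ hfree htw q0 words 231 hw steps175 262500 125392 231 264000 126113 231 h75 chk175
  have h77 := checkSteps_sound (nadd NN) (List.replicate 0 0) neq F Ev 6 2097152 tw γ hfree htw q0 words 231 hw steps176 264000 126113 231 265500 126829 231 h76 chk176
  have h78 := checkSteps_sound (nadd NN) (List.replicate 0 0) neq F Ev 6 2097152 tw γ hfree htw q0 words 231 hw steps177 265500 126829 231 267000 127556 231 h77 chk177
  have h79 := checkSteps_sound (nadd NN) (List.replicate 0 0) neq F Ev 6 2097152 tw γ hfree htw q0 words 231 hw steps178 267000 127556 231 268500 128280 231 h78 chk178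
  have h80 := checkSteps_sound (nadd NN) (List.replicate 0 0) neq F Ev 6 2097152 tw γ hfree htw q0 words 231 hw steps179 268500 128280 231 270000 129000 231 h79 chk179
  have h81 := checkSteps_sound (nadd NN) (List.replicate 0 0) neq F Ev 6 2097152 tw γ hfree htw q0 words 231 hw steps180 270000 129000 231 271500 129722 231 h80 chk180
  have h82 := checkSteps_sound (nadd NN) (List.replicate 0 0) neq F Ev 6 2097152 tw γ hfree htw q0 words 231 hw steps181 271500 129722 231 273000 130441 231 h81 chk181
  have h83 := checkSteps_sound (nadd NN) (List.replicate 0 0) neq F Ev 6 2097152 tw γ hfree htw q0 words 231 hw steps182 273000 130441 231 274500 131161 231 h82 chk182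
  have h84 := checkSteps_sound (nadd NN) (List.replicate 0 0) neq F Ev 6 2097152 tw γ hfree htw q0 words 231 hw steps183 274500 131161 231 276000 131863 231 h83 chk183
  have h85 := checkSteps_sound (nadd NN) (List.replicate 0 0) neq F Ev 6 2097152 tw γ hfree htw q0 words 231 hw steps184 276000 131863 231 277500 132596 231 h84 chk184
  have h86 := checkSteps_sound (nadd NN) (List.replicate 0 0) neq F Ev 6 2097152 tw γ hfree htw q0 words 231 hw steps185 277500 132596 231 279000 133319 231 h85 chk185
  have h87 := checkSteps_sound (nadd NN) (List.replicate 0 0) neq F Ev 6 2097152 tw γ hfree htw q0 words 231 hw steps186 279000 133319 231 280500 134032 231 h86 chk186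
  have h88 := checkSteps_sound (nadd NN) (List.replicate 0 0) neq F Ev 6 2097152 tw γ hfree htw q0 words 231 hw steps187 280500 134032 231 282000 134758 231 h87 chk187
  have h89 := checkSteps_sound (nadd NN) (List.replicate 0 0) neq F Ev 6 2097152 tw γ hfree htw q0 words 231 hw steps188 282000 134758 231 283500 135467 231 h88 chk188
  have h90 := checkSteps_sound (nadd NN) (List.replicate 0 0) neq F Ev 6 2097152 tw γ hfree htw q0 words 231 hw steps189 283500 135467 231 285000 136191 231 h89 chk189
  have h91 := checkSteps_sound (nadd NN) (List.replicate 0 0) neq F Ev 6 2097152 tw γ hfree htw q0 words 231 hw steps190 285000 136191 231 286500 136903 231 h90 chk190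
  have h92 := checkSteps_sound (nadd NN) (List.replicate 0 0) neq F Ev 6 2097152 tw γ hfree htw q0 words 231 hw steps191 286500 136903 231 288000 137626 231 h91 chk191
  have h93 := checkSteps_sound (nadd NN) (List.replicate 0 0) neq F Ev 6 2097152 tw γ hfree htw q0 words 231 hw steps192 288000 137626 231 289500 138348 231 h92 chk192
  have h94 := checkSteps_sound (nadd NN) (List.replicate 0 0) neq F Ev 6 2097152 tw γ hfree htw q0 words 231 hw steps193 289500 138348 231 291000 139073 231 h93 chk193
  have h95 := checkSteps_sound (nadd NN) (List.replicate 0 0) neq F Ev 6 2097152 tw γ hfree htw q0 words 231 hw steps194 291000 139073 231 292500 139797 231 h94 chk194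
  have h96 := checkSteps_sound (nadd NN) (List.replicate 0 0) neq F Ev 6 2097152 tw γ hfree htw q0 words 231 hw steps195 292500 139797 231 294000 140517 231 h95 chk195
  have h97 := checkSteps_sound (nadd NN) (List.replicate 0 0) neq F Ev 6 2097152 tw γ hfree htw q0 words 231 hw steps196 294000 140517 231 295500 141236 231 h96 chk196
  have h98 := checkSteps_sound (nadd NN) (List.replicate 0 0) neq F Ev 6 2097152 tw γ hfree htw q0 words 231 hw steps197 295500 141236 231 297000 141965 231 h97 chk197
  have h99 := checkSteps_sound (nadd NN) (List.replicate 0 0) neq F Ev 6 2097152 tw γ hfree htw q0 words 231 hw steps198 297000 141965 231 298500 142694 231 h98 chk198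
  have h100 := checkSteps_sound (nadd NN) (List.replicate 0 0) neq F Ev 6 2097152 tw γ hfree htw q0 words 231 hw steps199 298500 142694 231 300000 143422 231 h99 chk199
  exact h100

end Cfsg.Agent.Lib.H16.U62M.P2
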