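import Cfsg.Agent.Lib.H16.U62M.P2.Steps25
import Cfsg.Agent.Lib.H16.U62M.P2.Steps26
import Cfsg.Agent.Lib.H16.U62M.P2.Steps27
import Cfsg.Agent.Lib.H16.U62M.P2.Steps28
import Cfsg.Agent.Lib.H16.U62M.P2.Steps29
import Cfsg.Agent.Lib.H16.U62M.P2.Steps30
import Cfsg.Agent.Lib.H16.U62M.P2.Steps31
import Cfsg.Agent.Lib.H16.U62M.P2.Steps32
import Cfsg.Agent.Lib.H16.U62M.P2.Steps33
import Cfsg.Agent.Lib.H16.U62M.P2.Steps34
import Cfsg.Agent.Lib.H16.U62M.P2.Steps35
import Cfsg.Agent.Lib.H16.U62M.P2.Steps36
import Cfsg.Agent.Lib.H16.U62M.P2.Steps37
import Cfsg.Agent.Lib.H16.U62M.P2.Run1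

set_option autoImplicit false
set_option maxRecDepth 100000

/-! # Running the monomial certificate, part 2 (generated) -/

namespace Cfsg.Agent.Lib.H16.U62M.P2

open Cfsg.Agent.Lib.H17.CosetCert (BT WT)
open Cfsg.Agent.Lib.H17.MonoCert
open Cfsg.Agent.Lib.H16.G24M

variable {G Q A : Type*} [Group G] [MulAction G Q] [Group A] [MulAction A Q]
  [SMulCommClass G A Q] (tw : List ℕ → A) (γ : ℕ → G)

theorem run2 (hfree : ∀ (α β : A) (q : Q), α • q = β • q → α = β)
    (htw : TwOK (nadd NN) (List.replicate 0 0) neq tw) (q0 : Q) (hw : WordsOK Ev tw γ q0 words 231) :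
    Inv F Ev tw γ q0 words 450000 215859 231 := by
  have h0 := run1 tw γ hfree htw q0 hw
  have h1 := checkSteps_sound (nadd NN) (List.replicate 0 0) neq F Ev 6 2097152 tw γ hfree htw q0 words 231 hw steps200 300000 143422 231 301500 144148 231 h0 chk200
  have h2 := checkSteps_sound (nadd NN) (List.replicate 0 0) neq F Ev 6 2097152 tw γ hfree htw q0 words 231 hw steps201 301500 144148 231 303000 144872 231 h1 chk201
  have h3 := checkSteps_sound (nadd NN) (List.replicate 0 0) neq F Ev 6 2097152 tw γ hfree htw q0 words 231 hw steps202 303000 144872 231 304500 145600 231 h2 chk202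
  have h4 := checkSteps_sound (nadd NN) (List.replicate 0 0) neq F Ev 6 2097152 tw γ hfree htw q0 words 231 hw steps203 304500 145600 231 306000 146329 231 h3 chk203
  have h5 := checkSteps_sound (nadd NN) (List.replicate 0 0) neq F Ev 6 2097152 tw γ hfree htw q0 words 231 hw steps204 306000 146329 231 307500 147047 231 h4 chk204
  have h6 := checkSteps_sound (nadd NN) (List.replicate 0 0) neq F Ev 6 2097152 tw γ hfree htw q0 words 231 hw steps205 307500 147047 231 309000 147765 231 h5 chk205
  have h7 := checkSteps_sound (nadd NN) (List.replicate 0 0) neq F Ev 6 2097152 tw γ hfree htw q0 words 231 hw steps206 309000 147765 231 310500 148486 231 h6 chk206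
  have h8 := checkSteps_sound (nadd NN) (List.replicate 0 0) neq F Ev 6 2097152 tw γ hfree htw q0 words 231 hw steps207 310500 148486 231 312000 149205 231 h7 chk207
  have h9 := checkSteps_sound (nadd NN) (List.replicate 0 0) neq F Ev 6 2097152 tw γ hfree htw q0 words 231 hw steps208 312000 149205 231 313500 149928 231 h8 chk208
  have h10 := checkSteps_sound (nadd NN) (List.replicate 0 0) neq F Ev 6 2097152 tw γ hfree htw q0 words 231 hw steps209 313500 149928 231 315000 150634 231 h9 chk209
  have h11 := checkSteps_sound (nadd NN) (List.replicate 0 0) neq F Ev 6 2097152 tw γ hfree htw q0 words 231 hw steps210 315000 150634 231 316500 151363 231 h10 chk210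
  have h12 := checkSteps_sound (nadd NN) (List.replicate 0 0) neq F Ev 6 2097152 tw γ hfree htw q0 words 231 hw steps211 316500 151363 231 318000 152090 231 h11 chk211
  have h13 := checkSteps_sound (nadd NN) (List.replicate 0 0) neq F Ev 6 2097152 tw γ hfree htw q0 words 231 hw steps212 318000 152090 231 319500 152812 231 h12 chk212
  have h14 := checkSteps_sound (nadd NN) (List.replicate 0 0) neq F Ev 6 2097152 tw γ hfree htw q0 words 231 hw steps213 319500 152812 231 321000 153530 231 h13 chk213
  have h15 := checkSteps_sound (nadd NN) (List.replicate 0 0) neq F Ev 6 2097152 tw γ hfree htw q0 words 231 hw steps214 321000 153530 231 322500 154249 231 h14 chk214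
  have h16 := checkSteps_sound (nadd NN) (List.replicate 0 0) neq F Ev 6 2097152 tw γ hfree htw q0 words 231 hw steps215 322500 154249 231 324000 154978 231 h15 chk215
  have h17 := checkSteps_sound (nadd NN) (List.replicate 0 0) neq F Ev 6 2097152 tw γ hfree htw q0 words 231 hw steps216 324000 154978 231 325500 155706 231 h16 chk216
  have h18 := checkSteps_sound (nadd NN) (List.replicate 0 0) neq F Ev 6 2097152 tw γ hfree htw q0 words 231 hw steps217 325500 155706 231 327000 156433 231 h17 chk217
  have h19 := checkSteps_sound (nadd NN) (List.replicate 0 0) neq F Ev 6 2097152 tw γ hfree htw q0 words 231 hw steps218 327000 156433 231 328500 157161 231 h18 chk218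
  have h20 := checkSteps_sound (nadd NN) (List.replicate 0 0) neq F Ev 6 2097152 tw γ hfree htw q0 words 231 hw steps219 328500 157161 231 330000 157888 231 h19 chk219
  have h21 := checkSteps_sound (nadd NN) (List.replicate 0 0) neq F Ev 6 2097152 tw γ hfree htw q0 words 231 hw steps220 330000 157888 231 331500 158623 231 h20 chk220
  have h22 := checkSteps_sound (nadd NN) (List.replicate 0 0) neq F Ev 6 2097152 tw γ hfree htw q0 words 231 hw steps221 331500 158623 231 333000 159345 231 h21 chk221
  have h23 := checkSteps_sound (nadd NN) (List.replicate 0 0) neq F Ev 6 2097152 tw γ hfree htw q0 words 231 hw steps222 333000 159345 231 334500 160070 231 h22 chk222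
  have h24 := checkSteps_sound (nadd NN) (List.replicate 0 0) neq F Ev 6 2097152 tw γ hfree htw q0 words 231 hw steps223 334500 160070 231 336000 160808 231 h23 chk223
  have h25 := checkSteps_sound (nadd NN) (List.replicate 0 0) neq F Ev 6 2097152 tw γ hfree htw q0 words 231 hw steps224 336000 160808 231 337500 161535 231 h24 chk224
  have h26 := checkSteps_sound (nadd NN) (List.replicate 0 0) neq F Ev 6 2097152 tw γ hfree htw q0 words 231 hw steps225 337500 161535 231 339000 162256 231 h25 chk225
  have h27 := checkSteps_sound (nadd NN) (List.replicate 0 0) neq F Ev 6 2097152 tw γ hfree htw q0 words 231 hw steps226 339000 162256 231 340500 162975 231 h26 chk226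
  have h28 := checkSteps_sound (nadd NN) (List.replicate 0 0) neq F Ev 6 2097152 tw γ hfree htw q0 words 231 hw steps227 340500 162975 231 342000 163701 231 h27 chk227
  have h29 := checkSteps_sound (nadd NN) (List.replicate 0 0) neq F Ev 6 2097152 tw γ hfree htw q0 words 231 hw steps228 342000 163701 231 343500 164425 231 h28 chk228
  have h30 := checkSteps_sound (nadd NN) (List.replicate 0 0) neq F Ev 6 2097152 tw γ hfree htw q0 words 231 hw steps229 343500 164425 231 345000 165150 231 h29 chk229
  have h31 := checkSteps_sound (nadd NN) (List.replicate 0 0) neq F Ev 6 2097152 tw γ hfree htw q0 words 231 hw steps230 345000 165150 231 346500 165876 231 h30 chk230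
  have h32 := checkSteps_sound (nadd NN) (List.replicate 0 0) neq F Ev 6 2097152 tw γ hfree htw q0 words 231 hw steps231 346500 165876 231 348000 166600 231 h31 chk231
  have h33 := checkSteps_sound (nadd NN) (List.replicate 0 0) neq F Ev 6 2097152 tw γ hfree htw q0 words 231 hw steps232 348000 166600 231 349500 167320 231 h32 chk232
  have h34 := checkSteps_sound (nadd NN) (List.replicate 0 0) neq F Ev 6 2097152 tw γ hfree htw q0 words 231 hw steps233 349500 167320 231 351000 168044 231 h33 chk233
  have h35 := checkSteps_sound (nadd NN) (List.replicate 0 0) neq F Ev 6 2097152 tw γ hfree htw q0 words 231 hw steps234 351000 168044 231 352500 168764 231 h34 chk234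
  have h36 := checkSteps_sound (nadd NN) (List.replicate 0 0) neq F Ev 6 2097152 tw γ hfree htw q0 words 231 hw steps235 352500 168764 231 354000 169482 231 h35 chk235
  have h37 := checkSteps_sound (nadd NN) (List.replicate 0 0) neq F Ev 6 2097152 tw γ hfree htw q0 words 231 hw steps236 354000 169482 231 355500 170204 231 h36 chk236
  have h38 := checkSteps_sound (nadd NN) (List.replicate 0 0) neq F Ev 6 2097152 tw γ hfree htw q0 words 231 hw steps237 355500 170204 231 357000 170918 231 h37 chk237
  have h39 := checkSteps_sound (nadd NN) (List.replicate 0 0) neq F Ev 6 2097152 tw γ hfree htw q0 words 231 hw steps238 357000 170918 231 358500 171649 231 h38 chk238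
  have h40 := checkSteps_sound (nadd NN) (List.replicate 0 0) neq F Ev 6 2097152 tw γ hfree htw q0 words 231 hw steps239 358500 171649 231 360000 172383 231 h39 chk239
  have h41 := checkSteps_sound (nadd NN) (List.replicate 0 0) neq F Ev 6 2097152 tw γ hfree htw q0 words 231 hw steps240 360000 172383 231 361500 173113 231 h40 chk240
  have h42 := checkSteps_sound (nadd NN) (List.replicate 0 0) neq F Ev 6 2097152 tw γ hfree htw q0 words 231 hw steps241 361500 173113 231 363000 173834 231 h41 chk241
  have h43 := checkSteps_sound (nadd NN) (List.replicate 0 0) neq F Ev 6 2097152 tw γ hfree htw q0 words 231 hw steps242 363000 173834 231 364500 174561 231 h42 chk242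
  have h44 := checkSteps_sound (nadd NN) (List.replicate 0 0) neq F Ev 6 2097152 tw γ hfree htw q0 words 231 hw steps243 364500 174561 231 366000 175284 231 h43 chk243
  have h45 := checkSteps_sound (nadd NN) (List.replicate 0 0) neq F Ev 6 2097152 tw γ hfree htw q0 words 231 hw steps244 366000 175284 231 367500 176006 231 h44 chk244
  have h46 := checkSteps_sound (nadd NN) (List.replicate 0 0) neq F Ev 6 2097152 tw γ hfree htw q0 words 231 hw steps245 367500 176006 231 369000 176726 231 h45 chk245
  have h47 := checkSteps_sound (nadd NN) (List.replicate 0 0) neq F Ev 6 2097152 tw γ hfree htw q0 words 231 hw steps246 369000 176726 231 370500 177449 231 h46 chk246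
  have h48 := checkSteps_sound (nadd NN) (List.replicate 0 0) neq F Ev 6 2097152 tw γ hfree htw q0 words 231 hw steps247 370500 177449 231 372000 178174 231 h47 chk247
  have h49 := checkSteps_sound (nadd NN) (List.replicate 0 0) neq F Ev 6 2097152 tw γ hfree htw q0 words 231 hw steps248 372000 178174 231 373500 178900 231 h48 chk248
  have h50 := checkSteps_sound (nadd NN) (List.replicate 0 0) neq F Ev 6 2097152 tw γ hfree htw q0 words 231 hw steps249 373500 178900 231 375000 179629 231 h49 chk249
  have h51 := checkSteps_sound (nadd NN) (List.replicate 0 0) neq F Ev 6 2097152 tw γ hfree htw q0 words 231 hw steps250 375000 179629 231 376500 180337 231 h50 chk250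
  have h52 := checkSteps_sound (nadd NN) (List.replicate 0 0) neq F Ev 6 2097152 tw γ hfree htw q0 words 231 hw steps251 376500 180337 231 378000 181051 231 h51 chk251
  have h53 := checkSteps_sound (nadd NN) (List.replicate 0 0) neq F Ev 6 2097152 tw γ hfree htw q0 words 231 hw steps252 378000 181051 231 379500 181769 231 h52 chk252
  have h54 := checkSteps_sound (nadd NN) (List.replicate 0 0) neq F Ev 6 2097152 tw γ hfree htw q0 words 231 hw steps253 379500 181769 231 381000 182492 231 h53 chk253
  have h55 := checkSteps_sound (nadd NN) (List.replicate 0 0) neq F Ev 6 2097152 tw γ hfree htw q0 words 231 hw steps254 381000 182492 231 382500 183224 231 h54 chk254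
  have h56 := checkSteps_sound (nadd NN) (List.replicate 0 0) neq F Ev 6 2097152 tw γ hfree htw q0 words 231 hw steps255 382500 183224 231 384000 183950 231 h55 chk255
  have h57 := checkSteps_sound (nadd NN) (List.replicate 0 0) neq F Ev 6 2097152 tw γ hfree htw q0 words 231 hw steps256 384000 183950 231 385500 184676 231 h56 chk256
  have h58 := checkSteps_sound (nadd NN) (List.replicate 0 0) neq F Ev 6 2097152 tw γ hfree htw q0 words 231 hw steps257 385500 184676 231 387000 185398 231 h57 chk257
  have h59 := checkSteps_sound (nadd NN) (List.replicate 0 0) neq F Ev 6 2097152 tw γ hfree htw q0 words 231 hw steps258 387000 185398 231 388500 186131 231 h58 chk258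
  have h60 := checkSteps_sound (nadd NN) (List.replicate 0 0) neq F Ev 6 2097152 tw γ hfree htw q0 words 231 hw steps259 388500 186131 231 390000 186854 231 h59 chk259
  have h61 := checkSteps_sound (nadd NN) (List.replicate 0 0) neq F Ev 6 2097152 tw γ hfree htw q0 words 231 hw steps260 390000 186854 231 391500 187575 231 h60 chk260
  have h62 := checkSteps_sound (nadd NN) (List.replicate 0 0) neq F Ev 6 2097152 tw γ hfree htw q0 words 231 hw steps261 391500 187575 231 393000 188300 231 h61 chk261
  have h63 := checkSteps_sound (nadd NN) (List.replicate 0 0) neq F Ev 6 2097152 tw γ hfree htw q0 words 231 hw steps262 393000 188300 231 394500 189025 231 h62 chk262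
  have h64 := checkSteps_sound (nadd NN) (List.replicate 0 0) neq F Ev 6 2097152 tw γ hfree htw q0 words 231 hw steps263 394500 189025 231 396000 189753 231 h63 chk263
  have h65 := checkSteps_sound (nadd NN) (List.replicate 0 0) neq F Ev 6 2097152 tw γ hfree htw q0 words 231 hw steps264 396000 189753 231 397500 190469 231 h64 chk264
  have h66 := checkSteps_sound (nadd NN) (List.replicate 0 0) neq F Ev 6 2097152 tw γ hfree htw q0 words 231 hw steps265 397500 190469 231 399000 191188 231 h65 chk265
  have h67 := checkSteps_sound (nadd NN) (List.replicate 0 0) neq F Ev 6 2097152 tw γ hfree htw q0 words 231 hw steps266 399000 191188 231 400500 191908 231 h66 chk266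
  have h68 := checkSteps_sound (nadd NN) (List.replicate 0 0) neq F Ev 6 2097152 tw γ hfree htw q0 words 231 hw steps267 400500 191908 231 402000 192626 231 h67 chk267
  have h69 := checkSteps_sound (nadd NN) (List.replicate 0 0) neq F Ev 6 2097152 tw γ hfree htw q0 words 231 hw steps268 402000 192626 231 403500 193361 231 h68 chk268
  have h70 := checkSteps_sound (nadd NN) (List.replicate 0 0) neq F Ev 6 2097152 tw γ hfree htw q0 words 231 hw steps269 403500 193361 231 405000 194083 231 h69 chk269
  have h71 := checkSteps_sound (nadd NN) (List.replicate 0 0) neq F Ev 6 2097152 tw γ hfree htw q0 words 231 hw steps270 405000 194083 231 406500 194800 231 h70 chk270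
  have h72 := checkSteps_sound (nadd NN) (List.replicate 0 0) neq F Ev 6 2097152 tw γ hfree htw q0 words 231 hw steps271 406500 194800 231 408000 195529 231 h71 chk271
  have h73 := checkSteps_sound (nadd NN) (List.replicate 0 0) neq F Ev 6 2097152 tw γ hfree htw q0 words 231 hw steps272 408000 195529 231 409500 196255 231 h72 chk272
  have h74 := checkSteps_sound (nadd NN) (List.replicate 0 0) neq F Ev 6 2097152 tw γ hfree htw q0 words 231 hw steps273 409500 196255 231 411000 196984 231 h73 chk273
  have h75 := checkSteps_sound (nadd NN) (List.replicate 0 0) neq F Ev 6 2097152 tw γ hfree htw q0 words 231 hw steps274 411000 196984 231 412500 197709 231 h74 chk274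
  have h76 := checkSteps_sound (nadd NN) (List.replicate 0 0) neq F Ev 6 2097152 tw γ hfree htw q0 words 231 hw steps275 412500 197709 231 414000 198438 231 h75 chk275
  have h77 := checkSteps_sound (nadd NN) (List.replicate 0 0) neq F Ev 6 2097152 tw γ hfree htw q0 words 231 hw steps276 414000 198438 231 415500 199159 231 h76 chk276
  have h78 := checkSteps_sound (nadd NN) (List.replicate 0 0) neq F Ev 6 2097152 tw γ hfree htw q0 words 231 hw steps277 415500 199159 231 417000 199888 231 h77 chk277
  have h79 := checkSteps_sound (nadd NN) (List.replicate 0 0) neq F Ev 6 2097152 tw γ hfree htw q0 words 231 hw steps278 417000 199888 231 418500 200598 231 h78 chk278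
  have h80 := checkSteps_sound (nadd NN) (List.replicate 0 0) neq F Ev 6 2097152 tw γ hfree htw q0 words 231 hw steps279 418500 200598 231 420000 201326 231 h79 chk279
  have h81 := checkSteps_sound (nadd NN) (List.replicate 0 0) neq F Ev 6 2097152 tw γ hfree htw q0 words 231 hw steps280 420000 201326 231 421500 202058 231 h80 chk280
  have h82 := checkSteps_sound (nadd NN) (List.replicate 0 0) neq F Ev 6 2097152 tw γ hfree htw q0 words 231 hw steps281 421500 202058 231 423000 202787 231 h81 chk281
  have h83 := checkSteps_sound (nadd NN) (List.replicate 0 0) neq F Ev 6 2097152 tw γ hfree htw q0 words 231 hw steps282 423000 202787 231 424500 203515 231 h82 chk282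
  have h84 := checkSteps_sound (nadd NN) (List.replicate 0 0) neq F Ev 6 2097152 tw γ hfree htw q0 words 231 hw steps283 424500 203515 231 426000 204252 231 h83 chk283
  have h85 := checkSteps_sound (nadd NN) (List.replicate 0 0) neq F Ev 6 2097152 tw γ hfree htw q0 words 231 hw steps284 426000 204252 231 427500 204982 231 h84 chk284
  have h86 := checkSteps_sound (nadd NN) (List.replicate 0 0) neq F Ev 6 2097152 tw γ hfree htw q0 words 231 hw steps285 427500 204982 231 429000 205710 231 h85 chk285
  have h87 := checkSteps_sound (nadd NN) (List.replicate 0 0) neq F Ev 6 2097152 tw γ hfree htw q0 words 231 hw steps286 429000 205710 231 430500 206433 231 h86 chk286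
  have h88 := checkSteps_sound (nadd NN) (List.replicate 0 0) neq F Ev 6 2097152 tw γ hfree htw q0 words 231 hw steps287 430500 206433 231 432000 207152 231 h87 chk287
  have h89 := checkSteps_sound (nadd NN) (List.replicate 0 0) neq F Ev 6 2097152 tw γ hfree htw q0 words 231 hw steps288 432000 207152 231 433500 207879 231 h88 chk288
  have h90 := checkSteps_sound (nadd NN) (List.replicate 0 0) neq F Ev 6 2097152 tw γ hfree htw q0 words 231 hw steps289 433500 207879 231 435000 208607 231 h89 chk289
  have h91 := checkSteps_sound (nadd NN) (List.replicate 0 0) neq F Ev 6 2097152 tw γ hfree htw q0 words 231 hw steps290 435000 208607 231 436500 209333 231 h90 chk290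
  have h92 := checkSteps_sound (nadd NN) (List.replicate 0 0) neq F Ev 6 2097152 tw γ hfree htw q0 words 231 hw steps291 436500 209333 231 438000 210062 231 h91 chk291
  have h93 := checkSteps_sound (nadd NN) (List.replicate 0 0) neq F Ev 6 2097152 tw γ hfree htw q0 words 231 hw steps292 438000 210062 231 439500 210794 231 h92 chk292
  have h94 := checkSteps_sound (nadd NN) (List.replicate 0 0) neq F Ev 6 2097152 tw γ hfree htw q0 words 231 hw steps293 439500 210794 231 441000 211515 231 h93 chk293
  have h95 := checkSteps_sound (nadd NN) (List.replicate 0 0) neq F Ev 6 2097152 tw γ hfree htw q0 words 231 hw steps294 441000 211515 231 442500 212243 231 h94 chk294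
  have h96 := checkSteps_sound (nadd NN) (List.replicate 0 0) neq F Ev 6 2097152 tw γ hfree htw q0 words 231 hw steps295 442500 212243 231 444000 212966 231 h95 chk295
  have h97 := checkSteps_sound (nadd NN) (List.replicate 0 0) neq F Ev 6 2097152 tw γ hfree htw q0 words 231 hw steps296 444000 212966 231 445500 213692 231 h96 chk296
  have h98 := checkSteps_sound (nadd NN) (List.replicate 0 0) neq F Ev 6 2097152 tw γ hfree htw q0 words 231 hw steps297 445500 213692 231 447000 214415 231 h97 chk297
  have h99 := checkSteps_sound (nadd NN) (List.replicate 0 0) neq F Ev 6 2097152 tw γ hfree htw q0 words 231 hw steps298 447000 214415 231 448500 215134 231 h98 chk298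
  have h100 := checkSteps_sound (nadd NN) (List.replicate 0 0) neq F Ev 6 2097152 tw γ hfree htw q0 words 231 hw steps299 448500 215134 231 450000 215859 231 h99 chk299
  exact h100

end Cfsg.Agent.Lib.H16.U62M.P2
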