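import Cfsg.Agent.Lib.H16.U62M.P2.Steps37
import Cfsg.Agent.Lib.H16.U62M.P2.Steps38
import Cfsg.Agent.Lib.H16.U62M.P2.Steps39
import Cfsg.Agent.Lib.H16.U62M.P2.Steps40
import Cfsg.Agent.Lib.H16.U62M.P2.Steps41
import Cfsg.Agent.Lib.H16.U62M.P2.Steps42
import Cfsg.Agent.Lib.H16.U62M.P2.Steps43
import Cfsg.Agent.Lib.H16.U62M.P2.Steps44
import Cfsg.Agent.Lib.H16.U62M.P2.Steps45
import Cfsg.Agent.Lib.H16.U62M.P2.Steps46
import Cfsg.Agent.Lib.H16.U62M.P2.Steps47
import Cfsg.Agent.Lib.H16.U62M.P2.Steps48
import Cfsg.Agent.Lib.H16.U62M.P2.Steps49
import Cfsg.Agent.Lib.H16.U62M.P2.Run2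

set_option autoImplicit false
set_option maxRecDepth 100000

/-! # Running the monomial certificate, part 3 (generated) -/

namespace Cfsg.Agent.Lib.H16.U62M.P2

open Cfsg.Agent.Lib.H17.CosetCert (BT WT)
open Cfsg.Agent.Lib.H17.MonoCert
open Cfsg.Agent.Lib.H16.G24M

variable {G Q A : Type*} [Group G] [MulAction G Q] [Group A] [MulAction A Q]
  [SMulCommClass G A Q] (tw : List ℕ → A) (γ : ℕ → G)

theorem run3 (hfree : ∀ (α β : A) (q : Q), α • q = β • q → α = β)
    (htw : TwOK (nadd NN) (List.replicate 0 0) neq tw) (q0 : Q) (hw : WordsOK Ev tw γ q0 words 231) :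
    Inv F Ev tw γ q0 words 600000 248832 231 := by
  have h0 := run2 tw γ hfree htw q0 hw
  have h1 := checkSteps_sound (nadd NN) (List.replicate 0 0) neq F Ev 6 2097152 tw γ hfree htw q0 words 231 hw steps300 450000 215859 231 451500 216593 231 h0 chk300
  have h2 := checkSteps_sound (nadd NN) (List.replicate 0 0) neq F Ev 6 2097152 tw γ hfree htw q0 words 231 hw steps301 451500 216593 231 453000 217323 231 h1 chk301
  have h3 := checkSteps_sound (nadd NN) (List.replicate 0 0) neq F Ev 6 2097152 tw γ hfree htw q0 words 231 hw steps302 453000 217323 231 454500 218049 231 h2 chk302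
  have h4 := checkSteps_sound (nadd NN) (List.replicate 0 0) neq F Ev 6 2097152 tw γ hfree htw q0 words 231 hw steps303 454500 218049 231 456000 218779 231 h3 chk303
  have h5 := checkSteps_sound (nadd NN) (List.replicate 0 0) neq F Ev 6 2097152 tw γ hfree htw q0 words 231 hw steps304 456000 218779 231 457500 219506 231 h4 chk304
  have h6 := checkSteps_sound (nadd NN) (List.replicate 0 0) neq F Ev 6 2097152 tw γ hfree htw q0 words 231 hw steps305 457500 219506 231 459000 220240 231 h5 chk305
  have h7 := checkSteps_sound (nadd NN) (List.replicate 0 0) neq F Ev 6 2097152 tw γ hfree htw q0 words 231 hw steps306 459000 220240 231 460500 220961 231 h6 chk306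
  have h8 := checkSteps_sound (nadd NN) (List.replicate 0 0) neq F Ev 6 2097152 tw γ hfree htw q0 words 231 hw steps307 460500 220961 231 462000 221696 231 h7 chk307
  have h9 := checkSteps_sound (nadd NN) (List.replicate 0 0) neq F Ev 6 2097152 tw γ hfree htw q0 words 231 hw steps308 462000 221696 231 463500 222418 231 h8 chk308
  have h10 := checkSteps_sound (nadd NN) (List.replicate 0 0) neq F Ev 6 2097152 tw γ hfree htw q0 words 231 hw steps309 463500 222418 231 465000 223143 231 h9 chk309
  have h11 := checkSteps_sound (nadd NN) (List.replicate 0 0) neq F Ev 6 2097152 tw γ hfree htw q0 words 231 hw steps310 465000 223143 231 466500 223866 231 h10 chk310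
  have h12 := checkSteps_sound (nadd NN) (List.replicate 0 0) neq F Ev 6 2097152 tw γ hfree htw q0 words 231 hw steps311 466500 223866 231 468000 224596 231 h11 chk311
  have h13 := checkSteps_sound (nadd NN) (List.replicate 0 0) neq F Ev 6 2097152 tw γ hfree htw q0 words 231 hw steps312 468000 224596 231 469500 225327 231 h12 chk312
  have h14 := checkSteps_sound (nadd NN) (List.replicate 0 0) neq F Ev 6 2097152 tw γ hfree htw q0 words 231 hw steps313 469500 225327 231 471000 226057 231 h13 chk313
  have h15 := checkSteps_sound (nadd NN) (List.replicate 0 0) neq F Ev 6 2097152 tw γ hfree htw q0 words 231 hw steps314 471000 226057 231 472500 226786 231 h14 chk314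
  have h16 := checkSteps_sound (nadd NN) (List.replicate 0 0) neq F Ev 6 2097152 tw γ hfree htw q0 words 231 hw steps315 472500 226786 231 474000 227516 231 h15 chk315
  have h17 := checkSteps_sound (nadd NN) (List.replicate 0 0) neq F Ev 6 2097152 tw γ hfree htw q0 words 231 hw steps316 474000 227516 231 475500 228251 231 h16 chk316
  have h18 := checkSteps_sound (nadd NN) (List.replicate 0 0) neq F Ev 6 2097152 tw γ hfree htw q0 words 231 hw steps317 475500 228251 231 477000 228984 231 h17 chk317
  have h19 := checkSteps_sound (nadd NN) (List.replicate 0 0) neq F Ev 6 2097152 tw γ hfree htw q0 words 231 hw steps318 477000 228984 231 478500 229718 231 h18 chk318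
  have h20 := checkSteps_sound (nadd NN) (List.replicate 0 0) neq F Ev 6 2097152 tw γ hfree htw q0 words 231 hw steps319 478500 229718 231 480000 230453 231 h19 chk319
  have h21 := checkSteps_sound (nadd NN) (List.replicate 0 0) neq F Ev 6 2097152 tw γ hfree htw q0 words 231 hw steps320 480000 230453 231 481500 231178 231 h20 chk320
  have h22 := checkSteps_sound (nadd NN) (List.replicate 0 0) neq F Ev 6 2097152 tw γ hfree htw q0 words 231 hw steps321 481500 231178 231 483000 231905 231 h21 chk321
  have h23 := checkSteps_sound (nadd NN) (List.replicate 0 0) neq F Ev 6 2097152 tw γ hfree htw q0 words 231 hw steps322 483000 231905 231 484500 232622 231 h22 chk322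
  have h24 := checkSteps_sound (nadd NN) (List.replicate 0 0) neq F Ev 6 2097152 tw γ hfree htw q0 words 231 hw steps323 484500 232622 231 486000 233358 231 h23 chk323
  have h25 := checkSteps_sound (nadd NN) (List.replicate 0 0) neq F Ev 6 2097152 tw γ hfree htw q0 words 231 hw steps324 486000 233358 231 487500 234079 231 h24 chk324
  have h26 := checkSteps_sound (nadd NN) (List.replicate 0 0) neq F Ev 6 2097152 tw γ hfree htw q0 words 231 hw steps325 487500 234079 231 489000 234809 231 h25 chk325
  have h27 := checkSteps_sound (nadd NN) (List.replicate 0 0) neq F Ev 6 2097152 tw γ hfree htw q0 words 231 hw steps326 489000 234809 231 490500 235535 231 h26 chk326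
  have h28 := checkSteps_sound (nadd NN) (List.replicate 0 0) neq F Ev 6 2097152 tw γ hfree htw q0 words 231 hw steps327 490500 235535 231 492000 236269 231 h27 chk327
  have h29 := checkSteps_sound (nadd NN) (List.replicate 0 0) neq F Ev 6 2097152 tw γ hfree htw q0 words 231 hw steps328 492000 236269 231 493500 236989 231 h28 chk328
  have h30 := checkSteps_sound (nadd NN) (List.replicate 0 0) neq F Ev 6 2097152 tw γ hfree htw q0 words 231 hw steps329 493500 236989 231 495000 237719 231 h29 chk329
  have h31 := checkSteps_sound (nadd NN) (List.replicate 0 0) neq F Ev 6 2097152 tw γ hfree htw q0 words 231 hw steps330 495000 237719 231 496500 238450 231 h30 chk330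
  have h32 := checkSteps_sound (nadd NN) (List.replicate 0 0) neq F Ev 6 2097152 tw γ hfree htw q0 words 231 hw steps331 496500 238450 231 498000 239170 231 h31 chk331
  have h33 := checkSteps_sound (nadd NN) (List.replicate 0 0) neq F Ev 6 2097152 tw γ hfree htw q0 words 231 hw steps332 498000 239170 231 499500 239903 231 h32 chk332
  have h34 := checkSteps_sound (nadd NN) (List.replicate 0 0) neq F Ev 6 2097152 tw γ hfree htw q0 words 231 hw steps333 499500 239903 231 501000 240634 231 h33 chk333
  have h35 := checkSteps_sound (nadd NN) (List.replicate 0 0) neq F Ev 6 2097152 tw γ hfree htw q0 words 231 hw steps334 501000 240634 231 502500 241358 231 h34 chk334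
  have h36 := checkSteps_sound (nadd NN) (List.replicate 0 0) neq F Ev 6 2097152 tw γ hfree htw q0 words 231 hw steps335 502500 241358 231 504000 242086 231 h35 chk335
  have h37 := checkSteps_sound (nadd NN) (List.replicate 0 0) neq F Ev 6 2097152 tw γ hfree htw q0 words 231 hw steps336 504000 242086 231 505500 242819 231 h36 chk336
  have h38 := checkSteps_sound (nadd NN) (List.replicate 0 0) neq F Ev 6 2097152 tw γ hfree htw q0 words 231 hw steps337 505500 242819 231 507000 243536 231 h37 chk337
  have h39 := checkSteps_sound (nadd NN) (List.replicate 0 0) neq F Ev 6 2097152 tw γ hfree htw q0 words 231 hw steps338 507000 243536 231 508500 244267 231 h38 chk338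
  have h40 := checkSteps_sound (nadd NN) (List.replicate 0 0) neq F Ev 6 2097152 tw γ hfree htw q0 words 231 hw steps339 508500 244267 231 510000 244997 231 h39 chk339
  have h41 := checkSteps_sound (nadd NN) (List.replicate 0 0) neq F Ev 6 2097152 tw γ hfree htw q0 words 231 hw steps340 510000 244997 231 511500 245725 231 h40 chk340
  have h42 := checkSteps_sound (nadd NN) (List.replicate 0 0) neq F Ev 6 2097152 tw γ hfree htw q0 words 231 hw steps341 511500 245725 231 513000 246464 231 h41 chk341
  have h43 := checkSteps_sound (nadd NN) (List.replicate 0 0) neq F Ev 6 2097152 tw γ hfree htw q0 words 231 hw steps342 513000 246464 231 514500 247190 231 h42 chk342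
  have h44 := checkSteps_sound (nadd NN) (List.replicate 0 0) neq F Ev 6 2097152 tw γ hfree htw q0 words 231 hw steps343 514500 247190 231 516000 247921 231 h43 chk343
  have h45 := checkSteps_sound (nadd NN) (List.replicate 0 0) neq F Ev 6 2097152 tw γ hfree htw q0 words 231 hw steps344 516000 247921 231 517500 248652 231 h44 chk344
  have h46 := checkSteps_sound (nadd NN) (List.replicate 0 0) neq F Ev 6 2097152 tw γ hfree htw q0 words 231 hw steps345 517500 248652 231 519000 248832 231 h45 chk345
  have h47 := checkSteps_sound (nadd NN) (List.replicate 0 0) neq F Ev 6 2097152 tw γ hfree htw q0 words 231 hw steps346 519000 248832 231 520500 248832 231 h46 chk346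
  have h48 := checkSteps_sound (nadd NN) (List.replicate 0 0) neq F Ev 6 2097152 tw γ hfree htw q0 words 231 hw steps347 520500 248832 231 522000 248832 231 h47 chk347
  have h49 := checkSteps_sound (nadd NN) (List.replicate 0 0) neq F Ev 6 2097152 tw γ hfree htw q0 words 231 hw steps348 522000 248832 231 523500 248832 231 h48 chk348
  have h50 := checkSteps_sound (nadd NN) (List.replicate 0 0) neq F Ev 6 2097152 tw γ hfree htw q0 words 231 hw steps349 523500 248832 231 525000 248832 231 h49 chk349
  have h51 := checkSteps_sound (nadd NN) (List.replicate 0 0) neq F Ev 6 2097152 tw γ hfree htw q0 words 231 hw steps350 525000 248832 231 526500 248832 231 h50 chk350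
  have h52 := checkSteps_sound (nadd NN) (List.replicate 0 0) neq F Ev 6 2097152 tw γ hfree htw q0 words 231 hw steps351 526500 248832 231 528000 248832 231 h51 chk351
  have h53 := checkSteps_sound (nadd NN) (List.replicate 0 0) neq F Ev 6 2097152 tw γ hfree htw q0 words 231 hw steps352 528000 248832 231 529500 248832 231 h52 chk352
  have h54 := checkSteps_sound (nadd NN) (List.replicate 0 0) neq F Ev 6 2097152 tw γ hfree htw q0 words 231 hw steps353 529500 248832 231 531000 248832 231 h53 chk353
  have h55 := checkSteps_sound (nadd NN) (List.replicate 0 0) neq F Ev 6 2097152 tw γ hfree htw q0 words 231 hw steps354 531000 248832 231 532500 248832 231 h54 chk354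
  have h56 := checkSteps_sound (nadd NN) (List.replicate 0 0) neq F Ev 6 2097152 tw γ hfree htw q0 words 231 hw steps355 532500 248832 231 534000 248832 231 h55 chk355
  have h57 := checkSteps_sound (nadd NN) (List.replicate 0 0) neq F Ev 6 2097152 tw γ hfree htw q0 words 231 hw steps356 534000 248832 231 535500 248832 231 h56 chk356
  have h58 := checkSteps_sound (nadd NN) (List.replicate 0 0) neq F Ev 6 2097152 tw γ hfree htw q0 words 231 hw steps357 535500 248832 231 537000 248832 231 h57 chk357
  have h59 := checkSteps_sound (nadd NN) (List.replicate 0 0) neq F Ev 6 2097152 tw γ hfree htw q0 words 231 hw steps358 537000 248832 231 538500 248832 231 h58 chk358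
  have h60 := checkSteps_sound (nadd NN) (List.replicate 0 0) neq F Ev 6 2097152 tw γ hfree htw q0 words 231 hw steps359 538500 248832 231 540000 248832 231 h59 chk359
  have h61 := checkSteps_sound (nadd NN) (List.replicate 0 0) neq F Ev 6 2097152 tw γ hfree htw q0 words 231 hw steps360 540000 248832 231 541500 248832 231 h60 chk360
  have h62 := checkSteps_sound (nadd NN) (List.replicate 0 0) neq F Ev 6 2097152 tw γ hfree htw q0 words 231 hw steps361 541500 248832 231 543000 248832 231 h61 chk361
  have h63 := checkSteps_sound (nadd NN) (List.replicate 0 0) neq F Ev 6 2097152 tw γ hfree htw q0 words 231 hw steps362 543000 248832 231 544500 248832 231 h62 chk362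
  have h64 := checkSteps_sound (nadd NN) (List.replicate 0 0) neq F Ev 6 2097152 tw γ hfree htw q0 words 231 hw steps363 544500 248832 231 546000 248832 231 h63 chk363
  have h65 := checkSteps_sound (nadd NN) (List.replicate 0 0) neq F Ev 6 2097152 tw γ hfree htw q0 words 231 hw steps364 546000 248832 231 547500 248832 231 h64 chk364
  have h66 := checkSteps_sound (nadd NN) (List.replicate 0 0) neq F Ev 6 2097152 tw γ hfree htw q0 words 231 hw steps365 547500 248832 231 549000 248832 231 h65 chk365
  have h67 := checkSteps_sound (nadd NN) (List.replicate 0 0) neq F Ev 6 2097152 tw γ hfree htw q0 words 231 hw steps366 549000 248832 231 550500 248832 231 h66 chk366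
  have h68 := checkSteps_sound (nadd NN) (List.replicate 0 0) neq F Ev 6 2097152 tw γ hfree htw q0 words 231 hw steps367 550500 248832 231 552000 248832 231 h67 chk367
  have h69 := checkSteps_sound (nadd NN) (List.replicate 0 0) neq F Ev 6 2097152 tw γ hfree htw q0 words 231 hw steps368 552000 248832 231 553500 248832 231 h68 chk368
  have h70 := checkSteps_sound (nadd NN) (List.replicate 0 0) neq F Ev 6 2097152 tw γ hfree htw q0 words 231 hw steps369 553500 248832 231 555000 248832 231 h69 chk369
  have h71 := checkSteps_sound (nadd NN) (List.replicate 0 0) neq F Ev 6 2097152 tw γ hfree htw q0 words 231 hw steps370 555000 248832 231 556500 248832 231 h70 chk370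
  have h72 := checkSteps_sound (nadd NN) (List.replicate 0 0) neq F Ev 6 2097152 tw γ hfree htw q0 words 231 hw steps371 556500 248832 231 558000 248832 231 h71 chk371
  have h73 := checkSteps_sound (nadd NN) (List.replicate 0 0) neq F Ev 6 2097152 tw γ hfree htw q0 words 231 hw steps372 558000 248832 231 559500 248832 231 h72 chk372
  have h74 := checkSteps_sound (nadd NN) (List.replicate 0 0) neq F Ev 6 2097152 tw γ hfree htw q0 words 231 hw steps373 559500 248832 231 561000 248832 231 h73 chk373
  have h75 := checkSteps_sound (nadd NN) (List.replicate 0 0) neq F Ev 6 2097152 tw γ hfree htw q0 words 231 hw steps374 561000 248832 231 562500 248832 231 h74 chk374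
  have h76 := checkSteps_sound (nadd NN) (List.replicate 0 0) neq F Ev 6 2097152 tw γ hfree htw q0 words 231 hw steps375 562500 248832 231 564000 248832 231 h75 chk375
  have h77 := checkSteps_sound (nadd NN) (List.replicate 0 0) neq F Ev 6 2097152 tw γ hfree htw q0 words 231 hw steps376 564000 248832 231 565500 248832 231 h76 chk376
  have h78 := checkSteps_sound (nadd NN) (List.replicate 0 0) neq F Ev 6 2097152 tw γ hfree htw q0 words 231 hw steps377 565500 248832 231 567000 248832 231 h77 chk377
  have h79 := checkSteps_sound (nadd NN) (List.replicate 0 0) neq F Ev 6 2097152 tw γ hfree htw q0 words 231 hw steps378 567000 248832 231 568500 248832 231 h78 chk378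
  have h80 := checkSteps_sound (nadd NN) (List.replicate 0 0) neq F Ev 6 2097152 tw γ hfree htw q0 words 231 hw steps379 568500 248832 231 570000 248832 231 h79 chk379
  have h81 := checkSteps_sound (nadd NN) (List.replicate 0 0) neq F Ev 6 2097152 tw γ hfree htw q0 words 231 hw steps380 570000 248832 231 571500 248832 231 h80 chk380
  have h82 := checkSteps_sound (nadd NN) (List.replicate 0 0) neq F Ev 6 2097152 tw γ hfree htw q0 words 231 hw steps381 571500 248832 231 573000 248832 231 h81 chk381
  have h83 := checkSteps_sound (nadd NN) (List.replicate 0 0) neq F Ev 6 2097152 tw γ hfree htw q0 words 231 hw steps382 573000 248832 231 574500 248832 231 h82 chk382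
  have h84 := checkSteps_sound (nadd NN) (List.replicate 0 0) neq F Ev 6 2097152 tw γ hfree htw q0 words 231 hw steps383 574500 248832 231 576000 248832 231 h83 chk383
  have h85 := checkSteps_sound (nadd NN) (List.replicate 0 0) neq F Ev 6 2097152 tw γ hfree htw q0 words 231 hw steps384 576000 248832 231 577500 248832 231 h84 chk384
  have h86 := checkSteps_sound (nadd NN) (List.replicate 0 0) neq F Ev 6 2097152 tw γ hfree htw q0 words 231 hw steps385 577500 248832 231 579000 248832 231 h85 chk385
  have h87 := checkSteps_sound (nadd NN) (List.replicate 0 0) neq F Ev 6 2097152 tw γ hfree htw q0 words 231 hw steps386 579000 248832 231 580500 248832 231 h86 chk386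
  have h88 := checkSteps_sound (nadd NN) (List.replicate 0 0) neq F Ev 6 2097152 tw γ hfree htw q0 words 231 hw steps387 580500 248832 231 582000 248832 231 h87 chk387
  have h89 := checkSteps_sound (nadd NN) (List.replicate 0 0) neq F Ev 6 2097152 tw γ hfree htw q0 words 231 hw steps388 582000 248832 231 583500 248832 231 h88 chk388
  have h90 := checkSteps_sound (nadd NN) (List.replicate 0 0) neq F Ev 6 2097152 tw γ hfree htw q0 words 231 hw steps389 583500 248832 231 585000 248832 231 h89 chk389
  have h91 := checkSteps_sound (nadd NN) (List.replicate 0 0) neq F Ev 6 2097152 tw γ hfree htw q0 words 231 hw steps390 585000 248832 231 586500 248832 231 h90 chk390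
  have h92 := checkSteps_sound (nadd NN) (List.replicate 0 0) neq F Ev 6 2097152 tw γ hfree htw q0 words 231 hw steps391 586500 248832 231 588000 248832 231 h91 chk391
  have h93 := checkSteps_sound (nadd NN) (List.replicate 0 0) neq F Ev 6 2097152 tw γ hfree htw q0 words 231 hw steps392 588000 248832 231 589500 248832 231 h92 chk392
  have h94 := checkSteps_sound (nadd NN) (List.replicate 0 0) neq F Ev 6 2097152 tw γ hfree htw q0 words 231 hw steps393 589500 248832 231 591000 248832 231 h93 chk393
  have h95 := checkSteps_sound (nadd NN) (List.replicate 0 0) neq F Ev 6 2097152 tw γ hfree htw q0 words 231 hw steps394 591000 248832 231 592500 248832 231 h94 chk394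
  have h96 := checkSteps_sound (nadd NN) (List.replicate 0 0) neq F Ev 6 2097152 tw γ hfree htw q0 words 231 hw steps395 592500 248832 231 594000 248832 231 h95 chk395
  have h97 := checkSteps_sound (nadd NN) (List.replicate 0 0) neq F Ev 6 2097152 tw γ hfree htw q0 words 231 hw steps396 594000 248832 231 595500 248832 231 h96 chk396
  have h98 := checkSteps_sound (nadd NN) (List.replicate 0 0) neq F Ev 6 2097152 tw γ hfree htw q0 words 231 hw steps397 595500 248832 231 597000 248832 231 h97 chk397
  have h99 := checkSteps_sound (nadd NN) (List.replicate 0 0) neq F Ev 6 2097152 tw γ hfree htw q0 words 231 hw steps398 597000 248832 231 598500 248832 231 h98 chk398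
  have h100 := checkSteps_sound (nadd NN) (List.replicate 0 0) neq F Ev 6 2097152 tw γ hfree htw q0 words 231 hw steps399 598500 248832 231 600000 248832 231 h99 chk399
  exact h100

end Cfsg.Agent.Lib.H16.U62M.P2
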