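import Cfsg.Agent.Lib.H16.U62M.P2.Steps50
import Cfsg.Agent.Lib.H16.U62M.P2.Steps51
import Cfsg.Agent.Lib.H16.U62M.P2.Steps52
import Cfsg.Agent.Lib.H16.U62M.P2.Steps53
import Cfsg.Agent.Lib.H16.U62M.P2.Steps54
import Cfsg.Agent.Lib.H16.U62M.P2.Steps55
import Cfsg.Agent.Lib.H16.U62M.P2.Steps56
import Cfsg.Agent.Lib.H16.U62M.P2.Steps57
import Cfsg.Agent.Lib.H16.U62M.P2.Steps58
import Cfsg.Agent.Lib.H16.U62M.P2.Steps59
import Cfsg.Agent.Lib.H16.U62M.P2.Steps60
import Cfsg.Agent.Lib.H16.U62M.P2.Steps61
import Cfsg.Agent.Lib.H16.U62M.P2.Steps62
import Cfsg.Agent.Lib.H16.U62M.P2.Run3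

set_option autoImplicit false
set_option maxRecDepth 100000

/-! # Running the monomial certificate, part 4 (generated) -/

namespace Cfsg.Agent.Lib.H16.U62M.P2

open Cfsg.Agent.Lib.H17.CosetCert (BT WT)
open Cfsg.Agent.Lib.H17.MonoCert
open Cfsg.Agent.Lib.H16.G24M

variable {G Q A : Type*} [Group G] [MulAction G Q] [Group A] [MulAction A Q]
  [SMulCommClass G A Q] (tw : List ℕ → A) (γ : ℕ → G)

theorem run4 (hfree : ∀ (α β : A) (q : Q), α • q = β • q → α = β)
    (htw : TwOK (nadd NN) (List.replicate 0 0) neq tw) (q0 : Q) (hw : WordsOK Ev tw γ q0 words 231) :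
    Inv F Ev tw γ q0 words 750000 248832 231 := by
  have h0 := run3 tw γ hfree htw q0 hw
  have h1 := checkSteps_sound (nadd NN) (List.replicate 0 0) neq F Ev 6 2097152 tw γ hfree htw q0 words 231 hw steps400 600000 248832 231 601500 248832 231 h0 chk400
  have h2 := checkSteps_sound (nadd NN) (List.replicate 0 0) neq F Ev 6 2097152 tw γ hfree htw q0 words 231 hw steps401 601500 248832 231 603000 248832 231 h1 chk401
  have h3 := checkSteps_sound (nadd NN) (List.replicate 0 0) neq F Ev 6 2097152 tw γ hfree htw q0 words 231 hw steps402 603000 248832 231 604500 248832 231 h2 chk402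
  have h4 := checkSteps_sound (nadd NN) (List.replicate 0 0) neq F Ev 6 2097152 tw γ hfree htw q0 words 231 hw steps403 604500 248832 231 606000 248832 231 h3 chk403
  have h5 := checkSteps_sound (nadd NN) (List.replicate 0 0) neq F Ev 6 2097152 tw γ hfree htw q0 words 231 hw steps404 606000 248832 231 607500 248832 231 h4 chk404
  have h6 := checkSteps_sound (nadd NN) (List.replicate 0 0) neq F Ev 6 2097152 tw γ hfree htw q0 words 231 hw steps405 607500 248832 231 609000 248832 231 h5 chk405
  have h7 := checkSteps_sound (nadd NN) (List.replicate 0 0) neq F Ev 6 2097152 tw γ hfree htw q0 words 231 hw steps406 609000 248832 231 610500 248832 231 h6 chk406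
  have h8 := checkSteps_sound (nadd NN) (List.replicate 0 0) neq F Ev 6 2097152 tw γ hfree htw q0 words 231 hw steps407 610500 248832 231 612000 248832 231 h7 chk407
  have h9 := checkSteps_sound (nadd NN) (List.replicate 0 0) neq F Ev 6 2097152 tw γ hfree htw q0 words 231 hw steps408 612000 248832 231 613500 248832 231 h8 chk408
  have h10 := checkSteps_sound (nadd NN) (List.replicate 0 0) neq F Ev 6 2097152 tw γ hfree htw q0 words 231 hw steps409 613500 248832 231 615000 248832 231 h9 chk409
  have h11 := checkSteps_sound (nadd NN) (List.replicate 0 0) neq F Ev 6 2097152 tw γ hfree htw q0 words 231 hw steps410 615000 248832 231 616500 248832 231 h10 chk410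
  have h12 := checkSteps_sound (nadd NN) (List.replicate 0 0) neq F Ev 6 2097152 tw γ hfree htw q0 words 231 hw steps411 616500 248832 231 618000 248832 231 h11 chk411
  have h13 := checkSteps_sound (nadd NN) (List.replicate 0 0) neq F Ev 6 2097152 tw γ hfree htw q0 words 231 hw steps412 618000 248832 231 619500 248832 231 h12 chk412
  have h14 := checkSteps_sound (nadd NN) (List.replicate 0 0) neq F Ev 6 2097152 tw γ hfree htw q0 words 231 hw steps413 619500 248832 231 621000 248832 231 h13 chk413
  have h15 := checkSteps_sound (nadd NN) (List.replicate 0 0) neq F Ev 6 2097152 tw γ hfree htw q0 words 231 hw steps414 621000 248832 231 622500 248832 231 h14 chk414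
  have h16 := checkSteps_sound (nadd NN) (List.replicate 0 0) neq F Ev 6 2097152 tw γ hfree htw q0 words 231 hw steps415 622500 248832 231 624000 248832 231 h15 chk415
  have h17 := checkSteps_sound (nadd NN) (List.replicate 0 0) neq F Ev 6 2097152 tw γ hfree htw q0 words 231 hw steps416 624000 248832 231 625500 248832 231 h16 chk416
  have h18 := checkSteps_sound (nadd NN) (List.replicate 0 0) neq F Ev 6 2097152 tw γ hfree htw q0 words 231 hw steps417 625500 248832 231 627000 248832 231 h17 chk417
  have h19 := checkSteps_sound (nadd NN) (List.replicate 0 0) neq F Ev 6 2097152 tw γ hfree htw q0 words 231 hw steps418 627000 248832 231 628500 248832 231 h18 chk418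
  have h20 := checkSteps_sound (nadd NN) (List.replicate 0 0) neq F Ev 6 2097152 tw γ hfree htw q0 words 231 hw steps419 628500 248832 231 630000 248832 231 h19 chk419
  have h21 := checkSteps_sound (nadd NN) (List.replicate 0 0) neq F Ev 6 2097152 tw γ hfree htw q0 words 231 hw steps420 630000 248832 231 631500 248832 231 h20 chk420
  have h22 := checkSteps_sound (nadd NN) (List.replicate 0 0) neq F Ev 6 2097152 tw γ hfree htw q0 words 231 hw steps421 631500 248832 231 633000 248832 231 h21 chk421
  have h23 := checkSteps_sound (nadd NN) (List.replicate 0 0) neq F Ev 6 2097152 tw γ hfree htw q0 words 231 hw steps422 633000 248832 231 634500 248832 231 h22 chk422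
  have h24 := checkSteps_sound (nadd NN) (List.replicate 0 0) neq F Ev 6 2097152 tw γ hfree htw q0 words 231 hw steps423 634500 248832 231 636000 248832 231 h23 chk423
  have h25 := checkSteps_sound (nadd NN) (List.replicate 0 0) neq F Ev 6 2097152 tw γ hfree htw q0 words 231 hw steps424 636000 248832 231 637500 248832 231 h24 chk424
  have h26 := checkSteps_sound (nadd NN) (List.replicate 0 0) neq F Ev 6 2097152 tw γ hfree htw q0 words 231 hw steps425 637500 248832 231 639000 248832 231 h25 chk425
  have h27 := checkSteps_sound (nadd NN) (List.replicate 0 0) neq F Ev 6 2097152 tw γ hfree htw q0 words 231 hw steps426 639000 248832 231 640500 248832 231 h26 chk426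
  have h28 := checkSteps_sound (nadd NN) (List.replicate 0 0) neq F Ev 6 2097152 tw γ hfree htw q0 words 231 hw steps427 640500 248832 231 642000 248832 231 h27 chk427
  have h29 := checkSteps_sound (nadd NN) (List.replicate 0 0) neq F Ev 6 2097152 tw γ hfree htw q0 words 231 hw steps428 642000 248832 231 643500 248832 231 h28 chk428
  have h30 := checkSteps_sound (nadd NN) (List.replicate 0 0) neq F Ev 6 2097152 tw γ hfree htw q0 words 231 hw steps429 643500 248832 231 645000 248832 231 h29 chk429
  have h31 := checkSteps_sound (nadd NN) (List.replicate 0 0) neq F Ev 6 2097152 tw γ hfree htw q0 words 231 hw steps430 645000 248832 231 646500 248832 231 h30 chk430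
  have h32 := checkSteps_sound (nadd NN) (List.replicate 0 0) neq F Ev 6 2097152 tw γ hfree htw q0 words 231 hw steps431 646500 248832 231 648000 248832 231 h31 chk431
  have h33 := checkSteps_sound (nadd NN) (List.replicate 0 0) neq F Ev 6 2097152 tw γ hfree htw q0 words 231 hw steps432 648000 248832 231 649500 248832 231 h32 chk432
  have h34 := checkSteps_sound (nadd NN) (List.replicate 0 0) neq F Ev 6 2097152 tw γ hfree htw q0 words 231 hw steps433 649500 248832 231 651000 248832 231 h33 chk433
  have h35 := checkSteps_sound (nadd NN) (List.replicate 0 0) neq F Ev 6 2097152 tw γ hfree htw q0 words 231 hw steps434 651000 248832 231 652500 248832 231 h34 chk434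
  have h36 := checkSteps_sound (nadd NN) (List.replicate 0 0) neq F Ev 6 2097152 tw γ hfree htw q0 words 231 hw steps435 652500 248832 231 654000 248832 231 h35 chk435
  have h37 := checkSteps_sound (nadd NN) (List.replicate 0 0) neq F Ev 6 2097152 tw γ hfree htw q0 words 231 hw steps436 654000 248832 231 655500 248832 231 h36 chk436
  have h38 := checkSteps_sound (nadd NN) (List.replicate 0 0) neq F Ev 6 2097152 tw γ hfree htw q0 words 231 hw steps437 655500 248832 231 657000 248832 231 h37 chk437
  have h39 := checkSteps_sound (nadd NN) (List.replicate 0 0) neq F Ev 6 2097152 tw γ hfree htw q0 words 231 hw steps438 657000 248832 231 658500 248832 231 h38 chk438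
  have h40 := checkSteps_sound (nadd NN) (List.replicate 0 0) neq F Ev 6 2097152 tw γ hfree htw q0 words 231 hw steps439 658500 248832 231 660000 248832 231 h39 chk439
  have h41 := checkSteps_sound (nadd NN) (List.replicate 0 0) neq F Ev 6 2097152 tw γ hfree htw q0 words 231 hw steps440 660000 248832 231 661500 248832 231 h40 chk440
  have h42 := checkSteps_sound (nadd NN) (List.replicate 0 0) neq F Ev 6 2097152 tw γ hfree htw q0 words 231 hw steps441 661500 248832 231 663000 248832 231 h41 chk441
  have h43 := checkSteps_sound (nadd NN) (List.replicate 0 0) neq F Ev 6 2097152 tw γ hfree htw q0 words 231 hw steps442 663000 248832 231 664500 248832 231 h42 chk442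
  have h44 := checkSteps_sound (nadd NN) (List.replicate 0 0) neq F Ev 6 2097152 tw γ hfree htw q0 words 231 hw steps443 664500 248832 231 666000 248832 231 h43 chk443
  have h45 := checkSteps_sound (nadd NN) (List.replicate 0 0) neq F Ev 6 2097152 tw γ hfree htw q0 words 231 hw steps444 666000 248832 231 667500 248832 231 h44 chk444
  have h46 := checkSteps_sound (nadd NN) (List.replicate 0 0) neq F Ev 6 2097152 tw γ hfree htw q0 words 231 hw steps445 667500 248832 231 669000 248832 231 h45 chk445
  have h47 := checkSteps_sound (nadd NN) (List.replicate 0 0) neq F Ev 6 2097152 tw γ hfree htw q0 words 231 hw steps446 669000 248832 231 670500 248832 231 h46 chk446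
  have h48 := checkSteps_sound (nadd NN) (List.replicate 0 0) neq F Ev 6 2097152 tw γ hfree htw q0 words 231 hw steps447 670500 248832 231 672000 248832 231 h47 chk447
  have h49 := checkSteps_sound (nadd NN) (List.replicate 0 0) neq F Ev 6 2097152 tw γ hfree htw q0 words 231 hw steps448 672000 248832 231 673500 248832 231 h48 chk448
  have h50 := checkSteps_sound (nadd NN) (List.replicate 0 0) neq F Ev 6 2097152 tw γ hfree htw q0 words 231 hw steps449 673500 248832 231 675000 248832 231 h49 chk449
  have h51 := checkSteps_sound (nadd NN) (List.replicate 0 0) neq F Ev 6 2097152 tw γ hfree htw q0 words 231 hw steps450 675000 248832 231 676500 248832 231 h50 chk450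
  have h52 := checkSteps_sound (nadd NN) (List.replicate 0 0) neq F Ev 6 2097152 tw γ hfree htw q0 words 231 hw steps451 676500 248832 231 678000 248832 231 h51 chk451
  have h53 := checkSteps_sound (nadd NN) (List.replicate 0 0) neq F Ev 6 2097152 tw γ hfree htw q0 words 231 hw steps452 678000 248832 231 679500 248832 231 h52 chk452
  have h54 := checkSteps_sound (nadd NN) (List.replicate 0 0) neq F Ev 6 2097152 tw γ hfree htw q0 words 231 hw steps453 679500 248832 231 681000 248832 231 h53 chk453
  have h55 := checkSteps_sound (nadd NN) (List.replicate 0 0) neq F Ev 6 2097152 tw γ hfree htw q0 words 231 hw steps454 681000 248832 231 682500 248832 231 h54 chk454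
  have h56 := checkSteps_sound (nadd NN) (List.replicate 0 0) neq F Ev 6 2097152 tw γ hfree htw q0 words 231 hw steps455 682500 248832 231 684000 248832 231 h55 chk455
  have h57 := checkSteps_sound (nadd NN) (List.replicate 0 0) neq F Ev 6 2097152 tw γ hfree htw q0 words 231 hw steps456 684000 248832 231 685500 248832 231 h56 chk456
  have h58 := checkSteps_sound (nadd NN) (List.replicate 0 0) neq F Ev 6 2097152 tw γ hfree htw q0 words 231 hw steps457 685500 248832 231 687000 248832 231 h57 chk457
  have h59 := checkSteps_sound (nadd NN) (List.replicate 0 0) neq F Ev 6 2097152 tw γ hfree htw q0 words 231 hw steps458 687000 248832 231 688500 248832 231 h58 chk458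
  have h60 := checkSteps_sound (nadd NN) (List.replicate 0 0) neq F Ev 6 2097152 tw γ hfree htw q0 words 231 hw steps459 688500 248832 231 690000 248832 231 h59 chk459
  have h61 := checkSteps_sound (nadd NN) (List.replicate 0 0) neq F Ev 6 2097152 tw γ hfree htw q0 words 231 hw steps460 690000 248832 231 691500 248832 231 h60 chk460
  have h62 := checkSteps_sound (nadd NN) (List.replicate 0 0) neq F Ev 6 2097152 tw γ hfree htw q0 words 231 hw steps461 691500 248832 231 693000 248832 231 h61 chk461
  have h63 := checkSteps_sound (nadd NN) (List.replicate 0 0) neq F Ev 6 2097152 tw γ hfree htw q0 words 231 hw steps462 693000 248832 231 694500 248832 231 h62 chk462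
  have h64 := checkSteps_sound (nadd NN) (List.replicate 0 0) neq F Ev 6 2097152 tw γ hfree htw q0 words 231 hw steps463 694500 248832 231 696000 248832 231 h63 chk463
  have h65 := checkSteps_sound (nadd NN) (List.replicate 0 0) neq F Ev 6 2097152 tw γ hfree htw q0 words 231 hw steps464 696000 248832 231 697500 248832 231 h64 chk464
  have h66 := checkSteps_sound (nadd NN) (List.replicate 0 0) neq F Ev 6 2097152 tw γ hfree htw q0 words 231 hw steps465 697500 248832 231 699000 248832 231 h65 chk465
  have h67 := checkSteps_sound (nadd NN) (List.replicate 0 0) neq F Ev 6 2097152 tw γ hfree htw q0 words 231 hw steps466 699000 248832 231 700500 248832 231 h66 chk466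
  have h68 := checkSteps_sound (nadd NN) (List.replicate 0 0) neq F Ev 6 2097152 tw γ hfree htw q0 words 231 hw steps467 700500 248832 231 702000 248832 231 h67 chk467
  have h69 := checkSteps_sound (nadd NN) (List.replicate 0 0) neq F Ev 6 2097152 tw γ hfree htw q0 words 231 hw steps468 702000 248832 231 703500 248832 231 h68 chk468
  have h70 := checkSteps_sound (nadd NN) (List.replicate 0 0) neq F Ev 6 2097152 tw γ hfree htw q0 words 231 hw steps469 703500 248832 231 705000 248832 231 h69 chk469
  have h71 := checkSteps_sound (nadd NN) (List.replicate 0 0) neq F Ev 6 2097152 tw γ hfree htw q0 words 231 hw steps470 705000 248832 231 706500 248832 231 h70 chk470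
  have h72 := checkSteps_sound (nadd NN) (List.replicate 0 0) neq F Ev 6 2097152 tw γ hfree htw q0 words 231 hw steps471 706500 248832 231 708000 248832 231 h71 chk471
  have h73 := checkSteps_sound (nadd NN) (List.replicate 0 0) neq F Ev 6 2097152 tw γ hfree htw q0 words 231 hw steps472 708000 248832 231 709500 248832 231 h72 chk472
  have h74 := checkSteps_sound (nadd NN) (List.replicate 0 0) neq F Ev 6 2097152 tw γ hfree htw q0 words 231 hw steps473 709500 248832 231 711000 248832 231 h73 chk473
  have h75 := checkSteps_sound (nadd NN) (List.replicate 0 0) neq F Ev 6 2097152 tw γ hfree htw q0 words 231 hw steps474 711000 248832 231 712500 248832 231 h74 chk474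
  have h76 := checkSteps_sound (nadd NN) (List.replicate 0 0) neq F Ev 6 2097152 tw γ hfree htw q0 words 231 hw steps475 712500 248832 231 714000 248832 231 h75 chk475
  have h77 := checkSteps_sound (nadd NN) (List.replicate 0 0) neq F Ev 6 2097152 tw γ hfree htw q0 words 231 hw steps476 714000 248832 231 715500 248832 231 h76 chk476
  have h78 := checkSteps_sound (nadd NN) (List.replicate 0 0) neq F Ev 6 2097152 tw γ hfree htw q0 words 231 hw steps477 715500 248832 231 717000 248832 231 h77 chk477
  have h79 := checkSteps_sound (nadd NN) (List.replicate 0 0) neq F Ev 6 2097152 tw γ hfree htw q0 words 231 hw steps478 717000 248832 231 718500 248832 231 h78 chk478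
  have h80 := checkSteps_sound (nadd NN) (List.replicate 0 0) neq F Ev 6 2097152 tw γ hfree htw q0 words 231 hw steps479 718500 248832 231 720000 248832 231 h79 chk479
  have h81 := checkSteps_sound (nadd NN) (List.replicate 0 0) neq F Ev 6 2097152 tw γ hfree htw q0 words 231 hw steps480 720000 248832 231 721500 248832 231 h80 chk480
  have h82 := checkSteps_sound (nadd NN) (List.replicate 0 0) neq F Ev 6 2097152 tw γ hfree htw q0 words 231 hw steps481 721500 248832 231 723000 248832 231 h81 chk481
  have h83 := checkSteps_sound (nadd NN) (List.replicate 0 0) neq F Ev 6 2097152 tw γ hfree htw q0 words 231 hw steps482 723000 248832 231 724500 248832 231 h82 chk482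
  have h84 := checkSteps_sound (nadd NN) (List.replicate 0 0) neq F Ev 6 2097152 tw γ hfree htw q0 words 231 hw steps483 724500 248832 231 726000 248832 231 h83 chk483
  have h85 := checkSteps_sound (nadd NN) (List.replicate 0 0) neq F Ev 6 2097152 tw γ hfree htw q0 words 231 hw steps484 726000 248832 231 727500 248832 231 h84 chk484
  have h86 := checkSteps_sound (nadd NN) (List.replicate 0 0) neq F Ev 6 2097152 tw γ hfree htw q0 words 231 hw steps485 727500 248832 231 729000 248832 231 h85 chk485
  have h87 := checkSteps_sound (nadd NN) (List.replicate 0 0) neq F Ev 6 2097152 tw γ hfree htw q0 words 231 hw steps486 729000 248832 231 730500 248832 231 h86 chk486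
  have h88 := checkSteps_sound (nadd NN) (List.replicate 0 0) neq F Ev 6 2097152 tw γ hfree htw q0 words 231 hw steps487 730500 248832 231 732000 248832 231 h87 chk487
  have h89 := checkSteps_sound (nadd NN) (List.replicate 0 0) neq F Ev 6 2097152 tw γ hfree htw q0 words 231 hw steps488 732000 248832 231 733500 248832 231 h88 chk488
  have h90 := checkSteps_sound (nadd NN) (List.replicate 0 0) neq F Ev 6 2097152 tw γ hfree htw q0 words 231 hw steps489 733500 248832 231 735000 248832 231 h89 chk489
  have h91 := checkSteps_sound (nadd NN) (List.replicate 0 0) neq F Ev 6 2097152 tw γ hfree htw q0 words 231 hw steps490 735000 248832 231 736500 248832 231 h90 chk490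
  have h92 := checkSteps_sound (nadd NN) (List.replicate 0 0) neq F Ev 6 2097152 tw γ hfree htw q0 words 231 hw steps491 736500 248832 231 738000 248832 231 h91 chk491
  have h93 := checkSteps_sound (nadd NN) (List.replicate 0 0) neq F Ev 6 2097152 tw γ hfree htw q0 words 231 hw steps492 738000 248832 231 739500 248832 231 h92 chk492
  have h94 := checkSteps_sound (nadd NN) (List.replicate 0 0) neq F Ev 6 2097152 tw γ hfree htw q0 words 231 hw steps493 739500 248832 231 741000 248832 231 h93 chk493
  have h95 := checkSteps_sound (nadd NN) (List.replicate 0 0) neq F Ev 6 2097152 tw γ hfree htw q0 words 231 hw steps494 741000 248832 231 742500 248832 231 h94 chk494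
  have h96 := checkSteps_sound (nadd NN) (List.replicate 0 0) neq F Ev 6 2097152 tw γ hfree htw q0 words 231 hw steps495 742500 248832 231 744000 248832 231 h95 chk495
  have h97 := checkSteps_sound (nadd NN) (List.replicate 0 0) neq F Ev 6 2097152 tw γ hfree htw q0 words 231 hw steps496 744000 248832 231 745500 248832 231 h96 chk496
  have h98 := checkSteps_sound (nadd NN) (List.replicate 0 0) neq F Ev 6 2097152 tw γ hfree htw q0 words 231 hw steps497 745500 248832 231 747000 248832 231 h97 chk497
  have h99 := checkSteps_sound (nadd NN) (List.replicate 0 0) neq F Ev 6 2097152 tw γ hfree htw q0 words 231 hw steps498 747000 248832 231 748500 248832 231 h98 chk498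
  have h100 := checkSteps_sound (nadd NN) (List.replicate 0 0) neq F Ev 6 2097152 tw γ hfree htw q0 words 231 hw steps499 748500 248832 231 750000 248832 231 h99 chk499
  exact h100

end Cfsg.Agent.Lib.H16.U62M.P2
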