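import Cfsg.Agent.Lib.H16.U62M.P2.Steps75
import Cfsg.Agent.Lib.H16.U62M.P2.Steps76
import Cfsg.Agent.Lib.H16.U62M.P2.Steps77
import Cfsg.Agent.Lib.H16.U62M.P2.Steps78
import Cfsg.Agent.Lib.H16.U62M.P2.Steps79
import Cfsg.Agent.Lib.H16.U62M.P2.Steps80
import Cfsg.Agent.Lib.H16.U62M.P2.Steps81
import Cfsg.Agent.Lib.H16.U62M.P2.Steps82
import Cfsg.Agent.Lib.H16.U62M.P2.Steps83
import Cfsg.Agent.Lib.H16.U62M.P2.Steps84
import Cfsg.Agent.Lib.H16.U62M.P2.Steps85
import Cfsg.Agent.Lib.H16.U62M.P2.Steps86
import Cfsg.Agent.Lib.H16.U62M.P2.Steps87
import Cfsg.Agent.Lib.H16.U62M.P2.Run5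

set_option autoImplicit false
set_option maxRecDepth 100000

/-! # Running the monomial certificate, part 6 (generated) -/

namespace Cfsg.Agent.Lib.H16.U62M.P2

open Cfsg.Agent.Lib.H17.CosetCert (BT WT)
open Cfsg.Agent.Lib.H17.MonoCert
open Cfsg.Agent.Lib.H16.G24M

variable {G Q A : Type*} [Group G] [MulAction G Q] [Group A] [MulAction A Q]
  [SMulCommClass G A Q] (tw : List ℕ → A) (γ : ℕ → G)

theorem run6 (hfree : ∀ (α β : A) (q : Q), α • q = β • q → α = β)
    (htw : TwOK (nadd NN) (List.replicate 0 0) neq tw) (q0 : Q) (hw : WordsOK Ev tw γ q0 words 231) :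
    Inv F Ev tw γ q0 words 1050000 248832 231 := by
  have h0 := run5 tw γ hfree htw q0 hw
  have h1 := checkSteps_sound (nadd NN) (List.replicate 0 0) neq F Ev 6 2097152 tw γ hfree htw q0 words 231 hw steps600 900000 248832 231 901500 248832 231 h0 chk600
  have h2 := checkSteps_sound (nadd NN) (List.replicate 0 0) neq F Ev 6 2097152 tw γ hfree htw q0 words 231 hw steps601 901500 248832 231 903000 248832 231 h1 chk601
  have h3 := checkSteps_sound (nadd NN) (List.replicate 0 0) neq F Ev 6 2097152 tw γ hfree htw q0 words 231 hw steps602 903000 248832 231 904500 248832 231 h2 chk602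
  have h4 := checkSteps_sound (nadd NN) (List.replicate 0 0) neq F Ev 6 2097152 tw γ hfree htw q0 words 231 hw steps603 904500 248832 231 906000 248832 231 h3 chk603
  have h5 := checkSteps_sound (nadd NN) (List.replicate 0 0) neq F Ev 6 2097152 tw γ hfree htw q0 words 231 hw steps604 906000 248832 231 907500 248832 231 h4 chk604
  have h6 := checkSteps_sound (nadd NN) (List.replicate 0 0) neq F Ev 6 2097152 tw γ hfree htw q0 words 231 hw steps605 907500 248832 231 909000 248832 231 h5 chk605
  have h7 := checkSteps_sound (nadd NN) (List.replicate 0 0) neq F Ev 6 2097152 tw γ hfree htw q0 words 231 hw steps606 909000 248832 231 910500 248832 231 h6 chk606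
  have h8 := checkSteps_sound (nadd NN) (List.replicate 0 0) neq F Ev 6 2097152 tw γ hfree htw q0 words 231 hw steps607 910500 248832 231 912000 248832 231 h7 chk607
  have h9 := checkSteps_sound (nadd NN) (List.replicate 0 0) neq F Ev 6 2097152 tw γ hfree htw q0 words 231 hw steps608 912000 248832 231 913500 248832 231 h8 chk608
  have h10 := checkSteps_sound (nadd NN) (List.replicate 0 0) neq F Ev 6 2097152 tw γ hfree htw q0 words 231 hw steps609 913500 248832 231 915000 248832 231 h9 chk609
  have h11 := checkSteps_sound (nadd NN) (List.replicate 0 0) neq F Ev 6 2097152 tw γ hfree htw q0 words 231 hw steps610 915000 248832 231 916500 248832 231 h10 chk610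
  have h12 := checkSteps_sound (nadd NN) (List.replicate 0 0) neq F Ev 6 2097152 tw γ hfree htw q0 words 231 hw steps611 916500 248832 231 918000 248832 231 h11 chk611
  have h13 := checkSteps_sound (nadd NN) (List.replicate 0 0) neq F Ev 6 2097152 tw γ hfree htw q0 words 231 hw steps612 918000 248832 231 919500 248832 231 h12 chk612
  have h14 := checkSteps_sound (nadd NN) (List.replicate 0 0) neq F Ev 6 2097152 tw γ hfree htw q0 words 231 hw steps613 919500 248832 231 921000 248832 231 h13 chk613
  have h15 := checkSteps_sound (nadd NN) (List.replicate 0 0) neq F Ev 6 2097152 tw γ hfree htw q0 words 231 hw steps614 921000 248832 231 922500 248832 231 h14 chk614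
  have h16 := checkSteps_sound (nadd NN) (List.replicate 0 0) neq F Ev 6 2097152 tw γ hfree htw q0 words 231 hw steps615 922500 248832 231 924000 248832 231 h15 chk615
  have h17 := checkSteps_sound (nadd NN) (List.replicate 0 0) neq F Ev 6 2097152 tw γ hfree htw q0 words 231 hw steps616 924000 248832 231 925500 248832 231 h16 chk616
  have h18 := checkSteps_sound (nadd NN) (List.replicate 0 0) neq F Ev 6 2097152 tw γ hfree htw q0 words 231 hw steps617 925500 248832 231 927000 248832 231 h17 chk617
  have h19 := checkSteps_sound (nadd NN) (List.replicate 0 0) neq F Ev 6 2097152 tw γ hfree htw q0 words 231 hw steps618 927000 248832 231 928500 248832 231 h18 chk618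
  have h20 := checkSteps_sound (nadd NN) (List.replicate 0 0) neq F Ev 6 2097152 tw γ hfree htw q0 words 231 hw steps619 928500 248832 231 930000 248832 231 h19 chk619
  have h21 := checkSteps_sound (nadd NN) (List.replicate 0 0) neq F Ev 6 2097152 tw γ hfree htw q0 words 231 hw steps620 930000 248832 231 931500 248832 231 h20 chk620
  have h22 := checkSteps_sound (nadd NN) (List.replicate 0 0) neq F Ev 6 2097152 tw γ hfree htw q0 words 231 hw steps621 931500 248832 231 933000 248832 231 h21 chk621
  have h23 := checkSteps_sound (nadd NN) (List.replicate 0 0) neq F Ev 6 2097152 tw γ hfree htw q0 words 231 hw steps622 933000 248832 231 934500 248832 231 h22 chk622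
  have h24 := checkSteps_sound (nadd NN) (List.replicate 0 0) neq F Ev 6 2097152 tw γ hfree htw q0 words 231 hw steps623 934500 248832 231 936000 248832 231 h23 chk623
  have h25 := checkSteps_sound (nadd NN) (List.replicate 0 0) neq F Ev 6 2097152 tw γ hfree htw q0 words 231 hw steps624 936000 248832 231 937500 248832 231 h24 chk624
  have h26 := checkSteps_sound (nadd NN) (List.replicate 0 0) neq F Ev 6 2097152 tw γ hfree htw q0 words 231 hw steps625 937500 248832 231 939000 248832 231 h25 chk625
  have h27 := checkSteps_sound (nadd NN) (List.replicate 0 0) neq F Ev 6 2097152 tw γ hfree htw q0 words 231 hw steps626 939000 248832 231 940500 248832 231 h26 chk626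
  have h28 := checkSteps_sound (nadd NN) (List.replicate 0 0) neq F Ev 6 2097152 tw γ hfree htw q0 words 231 hw steps627 940500 248832 231 942000 248832 231 h27 chk627
  have h29 := checkSteps_sound (nadd NN) (List.replicate 0 0) neq F Ev 6 2097152 tw γ hfree htw q0 words 231 hw steps628 942000 248832 231 943500 248832 231 h28 chk628
  have h30 := checkSteps_sound (nadd NN) (List.replicate 0 0) neq F Ev 6 2097152 tw γ hfree htw q0 words 231 hw steps629 943500 248832 231 945000 248832 231 h29 chk629
  have h31 := checkSteps_sound (nadd NN) (List.replicate 0 0) neq F Ev 6 2097152 tw γ hfree htw q0 words 231 hw steps630 945000 248832 231 946500 248832 231 h30 chk630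
  have h32 := checkSteps_sound (nadd NN) (List.replicate 0 0) neq F Ev 6 2097152 tw γ hfree htw q0 words 231 hw steps631 946500 248832 231 948000 248832 231 h31 chk631
  have h33 := checkSteps_sound (nadd NN) (List.replicate 0 0) neq F Ev 6 2097152 tw γ hfree htw q0 words 231 hw steps632 948000 248832 231 949500 248832 231 h32 chk632
  have h34 := checkSteps_sound (nadd NN) (List.replicate 0 0) neq F Ev 6 2097152 tw γ hfree htw q0 words 231 hw steps633 949500 248832 231 951000 248832 231 h33 chk633
  have h35 := checkSteps_sound (nadd NN) (List.replicate 0 0) neq F Ev 6 2097152 tw γ hfree htw q0 words 231 hw steps634 951000 248832 231 952500 248832 231 h34 chk634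
  have h36 := checkSteps_sound (nadd NN) (List.replicate 0 0) neq F Ev 6 2097152 tw γ hfree htw q0 words 231 hw steps635 952500 248832 231 954000 248832 231 h35 chk635
  have h37 := checkSteps_sound (nadd NN) (List.replicate 0 0) neq F Ev 6 2097152 tw γ hfree htw q0 words 231 hw steps636 954000 248832 231 955500 248832 231 h36 chk636
  have h38 := checkSteps_sound (nadd NN) (List.replicate 0 0) neq F Ev 6 2097152 tw γ hfree htw q0 words 231 hw steps637 955500 248832 231 957000 248832 231 h37 chk637
  have h39 := checkSteps_sound (nadd NN) (List.replicate 0 0) neq F Ev 6 2097152 tw γ hfree htw q0 words 231 hw steps638 957000 248832 231 958500 248832 231 h38 chk638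
  have h40 := checkSteps_sound (nadd NN) (List.replicate 0 0) neq F Ev 6 2097152 tw γ hfree htw q0 words 231 hw steps639 958500 248832 231 960000 248832 231 h39 chk639
  have h41 := checkSteps_sound (nadd NN) (List.replicate 0 0) neq F Ev 6 2097152 tw γ hfree htw q0 words 231 hw steps640 960000 248832 231 961500 248832 231 h40 chk640
  have h42 := checkSteps_sound (nadd NN) (List.replicate 0 0) neq F Ev 6 2097152 tw γ hfree htw q0 words 231 hw steps641 961500 248832 231 963000 248832 231 h41 chk641
  have h43 := checkSteps_sound (nadd NN) (List.replicate 0 0) neq F Ev 6 2097152 tw γ hfree htw q0 words 231 hw steps642 963000 248832 231 964500 248832 231 h42 chk642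
  have h44 := checkSteps_sound (nadd NN) (List.replicate 0 0) neq F Ev 6 2097152 tw γ hfree htw q0 words 231 hw steps643 964500 248832 231 966000 248832 231 h43 chk643
  have h45 := checkSteps_sound (nadd NN) (List.replicate 0 0) neq F Ev 6 2097152 tw γ hfree htw q0 words 231 hw steps644 966000 248832 231 967500 248832 231 h44 chk644
  have h46 := checkSteps_sound (nadd NN) (List.replicate 0 0) neq F Ev 6 2097152 tw γ hfree htw q0 words 231 hw steps645 967500 248832 231 969000 248832 231 h45 chk645
  have h47 := checkSteps_sound (nadd NN) (List.replicate 0 0) neq F Ev 6 2097152 tw γ hfree htw q0 words 231 hw steps646 969000 248832 231 970500 248832 231 h46 chk646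
  have h48 := checkSteps_sound (nadd NN) (List.replicate 0 0) neq F Ev 6 2097152 tw γ hfree htw q0 words 231 hw steps647 970500 248832 231 972000 248832 231 h47 chk647
  have h49 := checkSteps_sound (nadd NN) (List.replicate 0 0) neq F Ev 6 2097152 tw γ hfree htw q0 words 231 hw steps648 972000 248832 231 973500 248832 231 h48 chk648
  have h50 := checkSteps_sound (nadd NN) (List.replicate 0 0) neq F Ev 6 2097152 tw γ hfree htw q0 words 231 hw steps649 973500 248832 231 975000 248832 231 h49 chk649
  have h51 := checkSteps_sound (nadd NN) (List.replicate 0 0) neq F Ev 6 2097152 tw γ hfree htw q0 words 231 hw steps650 975000 248832 231 976500 248832 231 h50 chk650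
  have h52 := checkSteps_sound (nadd NN) (List.replicate 0 0) neq F Ev 6 2097152 tw γ hfree htw q0 words 231 hw steps651 976500 248832 231 978000 248832 231 h51 chk651
  have h53 := checkSteps_sound (nadd NN) (List.replicate 0 0) neq F Ev 6 2097152 tw γ hfree htw q0 words 231 hw steps652 978000 248832 231 979500 248832 231 h52 chk652
  have h54 := checkSteps_sound (nadd NN) (List.replicate 0 0) neq F Ev 6 2097152 tw γ hfree htw q0 words 231 hw steps653 979500 248832 231 981000 248832 231 h53 chk653
  have h55 := checkSteps_sound (nadd NN) (List.replicate 0 0) neq F Ev 6 2097152 tw γ hfree htw q0 words 231 hw steps654 981000 248832 231 982500 248832 231 h54 chk654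
  have h56 := checkSteps_sound (nadd NN) (List.replicate 0 0) neq F Ev 6 2097152 tw γ hfree htw q0 words 231 hw steps655 982500 248832 231 984000 248832 231 h55 chk655
  have h57 := checkSteps_sound (nadd NN) (List.replicate 0 0) neq F Ev 6 2097152 tw γ hfree htw q0 words 231 hw steps656 984000 248832 231 985500 248832 231 h56 chk656
  have h58 := checkSteps_sound (nadd NN) (List.replicate 0 0) neq F Ev 6 2097152 tw γ hfree htw q0 words 231 hw steps657 985500 248832 231 987000 248832 231 h57 chk657
  have h59 := checkSteps_sound (nadd NN) (List.replicate 0 0) neq F Ev 6 2097152 tw γ hfree htw q0 words 231 hw steps658 987000 248832 231 988500 248832 231 h58 chk658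
  have h60 := checkSteps_sound (nadd NN) (List.replicate 0 0) neq F Ev 6 2097152 tw γ hfree htw q0 words 231 hw steps659 988500 248832 231 990000 248832 231 h59 chk659
  have h61 := checkSteps_sound (nadd NN) (List.replicate 0 0) neq F Ev 6 2097152 tw γ hfree htw q0 words 231 hw steps660 990000 248832 231 991500 248832 231 h60 chk660
  have h62 := checkSteps_sound (nadd NN) (List.replicate 0 0) neq F Ev 6 2097152 tw γ hfree htw q0 words 231 hw steps661 991500 248832 231 993000 248832 231 h61 chk661
  have h63 := checkSteps_sound (nadd NN) (List.replicate 0 0) neq F Ev 6 2097152 tw γ hfree htw q0 words 231 hw steps662 993000 248832 231 994500 248832 231 h62 chk662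
  have h64 := checkSteps_sound (nadd NN) (List.replicate 0 0) neq F Ev 6 2097152 tw γ hfree htw q0 words 231 hw steps663 994500 248832 231 996000 248832 231 h63 chk663
  have h65 := checkSteps_sound (nadd NN) (List.replicate 0 0) neq F Ev 6 2097152 tw γ hfree htw q0 words 231 hw steps664 996000 248832 231 997500 248832 231 h64 chk664
  have h66 := checkSteps_sound (nadd NN) (List.replicate 0 0) neq F Ev 6 2097152 tw γ hfree htw q0 words 231 hw steps665 997500 248832 231 999000 248832 231 h65 chk665
  have h67 := checkSteps_sound (nadd NN) (List.replicate 0 0) neq F Ev 6 2097152 tw γ hfree htw q0 words 231 hw steps666 999000 248832 231 1000500 248832 231 h66 chk666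
  have h68 := checkSteps_sound (nadd NN) (List.replicate 0 0) neq F Ev 6 2097152 tw γ hfree htw q0 words 231 hw steps667 1000500 248832 231 1002000 248832 231 h67 chk667
  have h69 := checkSteps_sound (nadd NN) (List.replicate 0 0) neq F Ev 6 2097152 tw γ hfree htw q0 words 231 hw steps668 1002000 248832 231 1003500 248832 231 h68 chk668
  have h70 := checkSteps_sound (nadd NN) (List.replicate 0 0) neq F Ev 6 2097152 tw γ hfree htw q0 words 231 hw steps669 1003500 248832 231 1005000 248832 231 h69 chk669
  have h71 := checkSteps_sound (nadd NN) (List.replicate 0 0) neq F Ev 6 2097152 tw γ hfree htw q0 words 231 hw steps670 1005000 248832 231 1006500 248832 231 h70 chk670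
  have h72 := checkSteps_sound (nadd NN) (List.replicate 0 0) neq F Ev 6 2097152 tw γ hfree htw q0 words 231 hw steps671 1006500 248832 231 1008000 248832 231 h71 chk671
  have h73 := checkSteps_sound (nadd NN) (List.replicate 0 0) neq F Ev 6 2097152 tw γ hfree htw q0 words 231 hw steps672 1008000 248832 231 1009500 248832 231 h72 chk672
  have h74 := checkSteps_sound (nadd NN) (List.replicate 0 0) neq F Ev 6 2097152 tw γ hfree htw q0 words 231 hw steps673 1009500 248832 231 1011000 248832 231 h73 chk673
  have h75 := checkSteps_sound (nadd NN) (List.replicate 0 0) neq F Ev 6 2097152 tw γ hfree htw q0 words 231 hw steps674 1011000 248832 231 1012500 248832 231 h74 chk674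
  have h76 := checkSteps_sound (nadd NN) (List.replicate 0 0) neq F Ev 6 2097152 tw γ hfree htw q0 words 231 hw steps675 1012500 248832 231 1014000 248832 231 h75 chk675
  have h77 := checkSteps_sound (nadd NN) (List.replicate 0 0) neq F Ev 6 2097152 tw γ hfree htw q0 words 231 hw steps676 1014000 248832 231 1015500 248832 231 h76 chk676
  have h78 := checkSteps_sound (nadd NN) (List.replicate 0 0) neq F Ev 6 2097152 tw γ hfree htw q0 words 231 hw steps677 1015500 248832 231 1017000 248832 231 h77 chk677
  have h79 := checkSteps_sound (nadd NN) (List.replicate 0 0) neq F Ev 6 2097152 tw γ hfree htw q0 words 231 hw steps678 1017000 248832 231 1018500 248832 231 h78 chk678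
  have h80 := checkSteps_sound (nadd NN) (List.replicate 0 0) neq F Ev 6 2097152 tw γ hfree htw q0 words 231 hw steps679 1018500 248832 231 1020000 248832 231 h79 chk679
  have h81 := checkSteps_sound (nadd NN) (List.replicate 0 0) neq F Ev 6 2097152 tw γ hfree htw q0 words 231 hw steps680 1020000 248832 231 1021500 248832 231 h80 chk680
  have h82 := checkSteps_sound (nadd NN) (List.replicate 0 0) neq F Ev 6 2097152 tw γ hfree htw q0 words 231 hw steps681 1021500 248832 231 1023000 248832 231 h81 chk681
  have h83 := checkSteps_sound (nadd NN) (List.replicate 0 0) neq F Ev 6 2097152 tw γ hfree htw q0 words 231 hw steps682 1023000 248832 231 1024500 248832 231 h82 chk682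
  have h84 := checkSteps_sound (nadd NN) (List.replicate 0 0) neq F Ev 6 2097152 tw γ hfree htw q0 words 231 hw steps683 1024500 248832 231 1026000 248832 231 h83 chk683
  have h85 := checkSteps_sound (nadd NN) (List.replicate 0 0) neq F Ev 6 2097152 tw γ hfree htw q0 words 231 hw steps684 1026000 248832 231 1027500 248832 231 h84 chk684
  have h86 := checkSteps_sound (nadd NN) (List.replicate 0 0) neq F Ev 6 2097152 tw γ hfree htw q0 words 231 hw steps685 1027500 248832 231 1029000 248832 231 h85 chk685
  have h87 := checkSteps_sound (nadd NN) (List.replicate 0 0) neq F Ev 6 2097152 tw γ hfree htw q0 words 231 hw steps686 1029000 248832 231 1030500 248832 231 h86 chk686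
  have h88 := checkSteps_sound (nadd NN) (List.replicate 0 0) neq F Ev 6 2097152 tw γ hfree htw q0 words 231 hw steps687 1030500 248832 231 1032000 248832 231 h87 chk687
  have h89 := checkSteps_sound (nadd NN) (List.replicate 0 0) neq F Ev 6 2097152 tw γ hfree htw q0 words 231 hw steps688 1032000 248832 231 1033500 248832 231 h88 chk688
  have h90 := checkSteps_sound (nadd NN) (List.replicate 0 0) neq F Ev 6 2097152 tw γ hfree htw q0 words 231 hw steps689 1033500 248832 231 1035000 248832 231 h89 chk689
  have h91 := checkSteps_sound (nadd NN) (List.replicate 0 0) neq F Ev 6 2097152 tw γ hfree htw q0 words 231 hw steps690 1035000 248832 231 1036500 248832 231 h90 chk690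
  have h92 := checkSteps_sound (nadd NN) (List.replicate 0 0) neq F Ev 6 2097152 tw γ hfree htw q0 words 231 hw steps691 1036500 248832 231 1038000 248832 231 h91 chk691
  have h93 := checkSteps_sound (nadd NN) (List.replicate 0 0) neq F Ev 6 2097152 tw γ hfree htw q0 words 231 hw steps692 1038000 248832 231 1039500 248832 231 h92 chk692
  have h94 := checkSteps_sound (nadd NN) (List.replicate 0 0) neq F Ev 6 2097152 tw γ hfree htw q0 words 231 hw steps693 1039500 248832 231 1041000 248832 231 h93 chk693
  have h95 := checkSteps_sound (nadd NN) (List.replicate 0 0) neq F Ev 6 2097152 tw γ hfree htw q0 words 231 hw steps694 1041000 248832 231 1042500 248832 231 h94 chk694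
  have h96 := checkSteps_sound (nadd NN) (List.replicate 0 0) neq F Ev 6 2097152 tw γ hfree htw q0 words 231 hw steps695 1042500 248832 231 1044000 248832 231 h95 chk695
  have h97 := checkSteps_sound (nadd NN) (List.replicate 0 0) neq F Ev 6 2097152 tw γ hfree htw q0 words 231 hw steps696 1044000 248832 231 1045500 248832 231 h96 chk696
  have h98 := checkSteps_sound (nadd NN) (List.replicate 0 0) neq F Ev 6 2097152 tw γ hfree htw q0 words 231 hw steps697 1045500 248832 231 1047000 248832 231 h97 chk697
  have h99 := checkSteps_sound (nadd NN) (List.replicate 0 0) neq F Ev 6 2097152 tw γ hfree htw q0 words 231 hw steps698 1047000 248832 231 1048500 248832 231 h98 chk698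
  have h100 := checkSteps_sound (nadd NN) (List.replicate 0 0) neq F Ev 6 2097152 tw γ hfree htw q0 words 231 hw steps699 1048500 248832 231 1050000 248832 231 h99 chk699
  exact h100

end Cfsg.Agent.Lib.H16.U62M.P2
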