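import Cfsg.Agent.Lib.H16.U62M.P2.Steps87
import Cfsg.Agent.Lib.H16.U62M.P2.Steps88
import Cfsg.Agent.Lib.H16.U62M.P2.Steps89
import Cfsg.Agent.Lib.H16.U62M.P2.Steps90
import Cfsg.Agent.Lib.H16.U62M.P2.Steps91
import Cfsg.Agent.Lib.H16.U62M.P2.Steps92
import Cfsg.Agent.Lib.H16.U62M.P2.Steps93
import Cfsg.Agent.Lib.H16.U62M.P2.Steps94
import Cfsg.Agent.Lib.H16.U62M.P2.Steps95
import Cfsg.Agent.Lib.H16.U62M.P2.Steps96
import Cfsg.Agent.Lib.H16.U62M.P2.Steps97
import Cfsg.Agent.Lib.H16.U62M.P2.Steps98
import Cfsg.Agent.Lib.H16.U62M.P2.Steps99
import Cfsg.Agent.Lib.H16.U62M.P2.Run6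

set_option autoImplicit false
set_option maxRecDepth 100000

/-! # Running the monomial certificate, part 7 (generated) -/

namespace Cfsg.Agent.Lib.H16.U62M.P2

open Cfsg.Agent.Lib.H17.CosetCert (BT WT)
open Cfsg.Agent.Lib.H17.MonoCert
open Cfsg.Agent.Lib.H16.G24M

variable {G Q A : Type*} [Group G] [MulAction G Q] [Group A] [MulAction A Q]
  [SMulCommClass G A Q] (tw : List ℕ → A) (γ : ℕ → G)

theorem run7 (hfree : ∀ (α β : A) (q : Q), α • q = β • q → α = β)
    (htw : TwOK (nadd NN) (List.replicate 0 0) neq tw) (q0 : Q) (hw : WordsOK Ev tw γ q0 words 231) :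
    Inv F Ev tw γ q0 words 1200000 248832 231 := by
  have h0 := run6 tw γ hfree htw q0 hw
  have h1 := checkSteps_sound (nadd NN) (List.replicate 0 0) neq F Ev 6 2097152 tw γ hfree htw q0 words 231 hw steps700 1050000 248832 231 1051500 248832 231 h0 chk700
  have h2 := checkSteps_sound (nadd NN) (List.replicate 0 0) neq F Ev 6 2097152 tw γ hfree htw q0 words 231 hw steps701 1051500 248832 231 1053000 248832 231 h1 chk701
  have h3 := checkSteps_sound (nadd NN) (List.replicate 0 0) neq F Ev 6 2097152 tw γ hfree htw q0 words 231 hw steps702 1053000 248832 231 1054500 248832 231 h2 chk702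
  have h4 := checkSteps_sound (nadd NN) (List.replicate 0 0) neq F Ev 6 2097152 tw γ hfree htw q0 words 231 hw steps703 1054500 248832 231 1056000 248832 231 h3 chk703
  have h5 := checkSteps_sound (nadd NN) (List.replicate 0 0) neq F Ev 6 2097152 tw γ hfree htw q0 words 231 hw steps704 1056000 248832 231 1057500 248832 231 h4 chk704
  have h6 := checkSteps_sound (nadd NN) (List.replicate 0 0) neq F Ev 6 2097152 tw γ hfree htw q0 words 231 hw steps705 1057500 248832 231 1059000 248832 231 h5 chk705
  have h7 := checkSteps_sound (nadd NN) (List.replicate 0 0) neq F Ev 6 2097152 tw γ hfree htw q0 words 231 hw steps706 1059000 248832 231 1060500 248832 231 h6 chk706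
  have h8 := checkSteps_sound (nadd NN) (List.replicate 0 0) neq F Ev 6 2097152 tw γ hfree htw q0 words 231 hw steps707 1060500 248832 231 1062000 248832 231 h7 chk707
  have h9 := checkSteps_sound (nadd NN) (List.replicate 0 0) neq F Ev 6 2097152 tw γ hfree htw q0 words 231 hw steps708 1062000 248832 231 1063500 248832 231 h8 chk708
  have h10 := checkSteps_sound (nadd NN) (List.replicate 0 0) neq F Ev 6 2097152 tw γ hfree htw q0 words 231 hw steps709 1063500 248832 231 1065000 248832 231 h9 chk709
  have h11 := checkSteps_sound (nadd NN) (List.replicate 0 0) neq F Ev 6 2097152 tw γ hfree htw q0 words 231 hw steps710 1065000 248832 231 1066500 248832 231 h10 chk710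
  have h12 := checkSteps_sound (nadd NN) (List.replicate 0 0) neq F Ev 6 2097152 tw γ hfree htw q0 words 231 hw steps711 1066500 248832 231 1068000 248832 231 h11 chk711
  have h13 := checkSteps_sound (nadd NN) (List.replicate 0 0) neq F Ev 6 2097152 tw γ hfree htw q0 words 231 hw steps712 1068000 248832 231 1069500 248832 231 h12 chk712
  have h14 := checkSteps_sound (nadd NN) (List.replicate 0 0) neq F Ev 6 2097152 tw γ hfree htw q0 words 231 hw steps713 1069500 248832 231 1071000 248832 231 h13 chk713
  have h15 := checkSteps_sound (nadd NN) (List.replicate 0 0) neq F Ev 6 2097152 tw γ hfree htw q0 words 231 hw steps714 1071000 248832 231 1072500 248832 231 h14 chk714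
  have h16 := checkSteps_sound (nadd NN) (List.replicate 0 0) neq F Ev 6 2097152 tw γ hfree htw q0 words 231 hw steps715 1072500 248832 231 1074000 248832 231 h15 chk715
  have h17 := checkSteps_sound (nadd NN) (List.replicate 0 0) neq F Ev 6 2097152 tw γ hfree htw q0 words 231 hw steps716 1074000 248832 231 1075500 248832 231 h16 chk716
  have h18 := checkSteps_sound (nadd NN) (List.replicate 0 0) neq F Ev 6 2097152 tw γ hfree htw q0 words 231 hw steps717 1075500 248832 231 1077000 248832 231 h17 chk717
  have h19 := checkSteps_sound (nadd NN) (List.replicate 0 0) neq F Ev 6 2097152 tw γ hfree htw q0 words 231 hw steps718 1077000 248832 231 1078500 248832 231 h18 chk718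
  have h20 := checkSteps_sound (nadd NN) (List.replicate 0 0) neq F Ev 6 2097152 tw γ hfree htw q0 words 231 hw steps719 1078500 248832 231 1080000 248832 231 h19 chk719
  have h21 := checkSteps_sound (nadd NN) (List.replicate 0 0) neq F Ev 6 2097152 tw γ hfree htw q0 words 231 hw steps720 1080000 248832 231 1081500 248832 231 h20 chk720
  have h22 := checkSteps_sound (nadd NN) (List.replicate 0 0) neq F Ev 6 2097152 tw γ hfree htw q0 words 231 hw steps721 1081500 248832 231 1083000 248832 231 h21 chk721
  have h23 := checkSteps_sound (nadd NN) (List.replicate 0 0) neq F Ev 6 2097152 tw γ hfree htw q0 words 231 hw steps722 1083000 248832 231 1084500 248832 231 h22 chk722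
  have h24 := checkSteps_sound (nadd NN) (List.replicate 0 0) neq F Ev 6 2097152 tw γ hfree htw q0 words 231 hw steps723 1084500 248832 231 1086000 248832 231 h23 chk723
  have h25 := checkSteps_sound (nadd NN) (List.replicate 0 0) neq F Ev 6 2097152 tw γ hfree htw q0 words 231 hw steps724 1086000 248832 231 1087500 248832 231 h24 chk724
  have h26 := checkSteps_sound (nadd NN) (List.replicate 0 0) neq F Ev 6 2097152 tw γ hfree htw q0 words 231 hw steps725 1087500 248832 231 1089000 248832 231 h25 chk725
  have h27 := checkSteps_sound (nadd NN) (List.replicate 0 0) neq F Ev 6 2097152 tw γ hfree htw q0 words 231 hw steps726 1089000 248832 231 1090500 248832 231 h26 chk726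
  have h28 := checkSteps_sound (nadd NN) (List.replicate 0 0) neq F Ev 6 2097152 tw γ hfree htw q0 words 231 hw steps727 1090500 248832 231 1092000 248832 231 h27 chk727
  have h29 := checkSteps_sound (nadd NN) (List.replicate 0 0) neq F Ev 6 2097152 tw γ hfree htw q0 words 231 hw steps728 1092000 248832 231 1093500 248832 231 h28 chk728
  have h30 := checkSteps_sound (nadd NN) (List.replicate 0 0) neq F Ev 6 2097152 tw γ hfree htw q0 words 231 hw steps729 1093500 248832 231 1095000 248832 231 h29 chk729
  have h31 := checkSteps_sound (nadd NN) (List.replicate 0 0) neq F Ev 6 2097152 tw γ hfree htw q0 words 231 hw steps730 1095000 248832 231 1096500 248832 231 h30 chk730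
  have h32 := checkSteps_sound (nadd NN) (List.replicate 0 0) neq F Ev 6 2097152 tw γ hfree htw q0 words 231 hw steps731 1096500 248832 231 1098000 248832 231 h31 chk731
  have h33 := checkSteps_sound (nadd NN) (List.replicate 0 0) neq F Ev 6 2097152 tw γ hfree htw q0 words 231 hw steps732 1098000 248832 231 1099500 248832 231 h32 chk732
  have h34 := checkSteps_sound (nadd NN) (List.replicate 0 0) neq F Ev 6 2097152 tw γ hfree htw q0 words 231 hw steps733 1099500 248832 231 1101000 248832 231 h33 chk733
  have h35 := checkSteps_sound (nadd NN) (List.replicate 0 0) neq F Ev 6 2097152 tw γ hfree htw q0 words 231 hw steps734 1101000 248832 231 1102500 248832 231 h34 chk734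
  have h36 := checkSteps_sound (nadd NN) (List.replicate 0 0) neq F Ev 6 2097152 tw γ hfree htw q0 words 231 hw steps735 1102500 248832 231 1104000 248832 231 h35 chk735
  have h37 := checkSteps_sound (nadd NN) (List.replicate 0 0) neq F Ev 6 2097152 tw γ hfree htw q0 words 231 hw steps736 1104000 248832 231 1105500 248832 231 h36 chk736
  have h38 := checkSteps_sound (nadd NN) (List.replicate 0 0) neq F Ev 6 2097152 tw γ hfree htw q0 words 231 hw steps737 1105500 248832 231 1107000 248832 231 h37 chk737
  have h39 := checkSteps_sound (nadd NN) (List.replicate 0 0) neq F Ev 6 2097152 tw γ hfree htw q0 words 231 hw steps738 1107000 248832 231 1108500 248832 231 h38 chk738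
  have h40 := checkSteps_sound (nadd NN) (List.replicate 0 0) neq F Ev 6 2097152 tw γ hfree htw q0 words 231 hw steps739 1108500 248832 231 1110000 248832 231 h39 chk739
  have h41 := checkSteps_sound (nadd NN) (List.replicate 0 0) neq F Ev 6 2097152 tw γ hfree htw q0 words 231 hw steps740 1110000 248832 231 1111500 248832 231 h40 chk740
  have h42 := checkSteps_sound (nadd NN) (List.replicate 0 0) neq F Ev 6 2097152 tw γ hfree htw q0 words 231 hw steps741 1111500 248832 231 1113000 248832 231 h41 chk741
  have h43 := checkSteps_sound (nadd NN) (List.replicate 0 0) neq F Ev 6 2097152 tw γ hfree htw q0 words 231 hw steps742 1113000 248832 231 1114500 248832 231 h42 chk742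
  have h44 := checkSteps_sound (nadd NN) (List.replicate 0 0) neq F Ev 6 2097152 tw γ hfree htw q0 words 231 hw steps743 1114500 248832 231 1116000 248832 231 h43 chk743
  have h45 := checkSteps_sound (nadd NN) (List.replicate 0 0) neq F Ev 6 2097152 tw γ hfree htw q0 words 231 hw steps744 1116000 248832 231 1117500 248832 231 h44 chk744
  have h46 := checkSteps_sound (nadd NN) (List.replicate 0 0) neq F Ev 6 2097152 tw γ hfree htw q0 words 231 hw steps745 1117500 248832 231 1119000 248832 231 h45 chk745
  have h47 := checkSteps_sound (nadd NN) (List.replicate 0 0) neq F Ev 6 2097152 tw γ hfree htw q0 words 231 hw steps746 1119000 248832 231 1120500 248832 231 h46 chk746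
  have h48 := checkSteps_sound (nadd NN) (List.replicate 0 0) neq F Ev 6 2097152 tw γ hfree htw q0 words 231 hw steps747 1120500 248832 231 1122000 248832 231 h47 chk747
  have h49 := checkSteps_sound (nadd NN) (List.replicate 0 0) neq F Ev 6 2097152 tw γ hfree htw q0 words 231 hw steps748 1122000 248832 231 1123500 248832 231 h48 chk748
  have h50 := checkSteps_sound (nadd NN) (List.replicate 0 0) neq F Ev 6 2097152 tw γ hfree htw q0 words 231 hw steps749 1123500 248832 231 1125000 248832 231 h49 chk749
  have h51 := checkSteps_sound (nadd NN) (List.replicate 0 0) neq F Ev 6 2097152 tw γ hfree htw q0 words 231 hw steps750 1125000 248832 231 1126500 248832 231 h50 chk750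
  have h52 := checkSteps_sound (nadd NN) (List.replicate 0 0) neq F Ev 6 2097152 tw γ hfree htw q0 words 231 hw steps751 1126500 248832 231 1128000 248832 231 h51 chk751
  have h53 := checkSteps_sound (nadd NN) (List.replicate 0 0) neq F Ev 6 2097152 tw γ hfree htw q0 words 231 hw steps752 1128000 248832 231 1129500 248832 231 h52 chk752
  have h54 := checkSteps_sound (nadd NN) (List.replicate 0 0) neq F Ev 6 2097152 tw γ hfree htw q0 words 231 hw steps753 1129500 248832 231 1131000 248832 231 h53 chk753
  have h55 := checkSteps_sound (nadd NN) (List.replicate 0 0) neq F Ev 6 2097152 tw γ hfree htw q0 words 231 hw steps754 1131000 248832 231 1132500 248832 231 h54 chk754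
  have h56 := checkSteps_sound (nadd NN) (List.replicate 0 0) neq F Ev 6 2097152 tw γ hfree htw q0 words 231 hw steps755 1132500 248832 231 1134000 248832 231 h55 chk755
  have h57 := checkSteps_sound (nadd NN) (List.replicate 0 0) neq F Ev 6 2097152 tw γ hfree htw q0 words 231 hw steps756 1134000 248832 231 1135500 248832 231 h56 chk756
  have h58 := checkSteps_sound (nadd NN) (List.replicate 0 0) neq F Ev 6 2097152 tw γ hfree htw q0 words 231 hw steps757 1135500 248832 231 1137000 248832 231 h57 chk757
  have h59 := checkSteps_sound (nadd NN) (List.replicate 0 0) neq F Ev 6 2097152 tw γ hfree htw q0 words 231 hw steps758 1137000 248832 231 1138500 248832 231 h58 chk758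
  have h60 := checkSteps_sound (nadd NN) (List.replicate 0 0) neq F Ev 6 2097152 tw γ hfree htw q0 words 231 hw steps759 1138500 248832 231 1140000 248832 231 h59 chk759
  have h61 := checkSteps_sound (nadd NN) (List.replicate 0 0) neq F Ev 6 2097152 tw γ hfree htw q0 words 231 hw steps760 1140000 248832 231 1141500 248832 231 h60 chk760
  have h62 := checkSteps_sound (nadd NN) (List.replicate 0 0) neq F Ev 6 2097152 tw γ hfree htw q0 words 231 hw steps761 1141500 248832 231 1143000 248832 231 h61 chk761
  have h63 := checkSteps_sound (nadd NN) (List.replicate 0 0) neq F Ev 6 2097152 tw γ hfree htw q0 words 231 hw steps762 1143000 248832 231 1144500 248832 231 h62 chk762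
  have h64 := checkSteps_sound (nadd NN) (List.replicate 0 0) neq F Ev 6 2097152 tw γ hfree htw q0 words 231 hw steps763 1144500 248832 231 1146000 248832 231 h63 chk763
  have h65 := checkSteps_sound (nadd NN) (List.replicate 0 0) neq F Ev 6 2097152 tw γ hfree htw q0 words 231 hw steps764 1146000 248832 231 1147500 248832 231 h64 chk764
  have h66 := checkSteps_sound (nadd NN) (List.replicate 0 0) neq F Ev 6 2097152 tw γ hfree htw q0 words 231 hw steps765 1147500 248832 231 1149000 248832 231 h65 chk765
  have h67 := checkSteps_sound (nadd NN) (List.replicate 0 0) neq F Ev 6 2097152 tw γ hfree htw q0 words 231 hw steps766 1149000 248832 231 1150500 248832 231 h66 chk766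
  have h68 := checkSteps_sound (nadd NN) (List.replicate 0 0) neq F Ev 6 2097152 tw γ hfree htw q0 words 231 hw steps767 1150500 248832 231 1152000 248832 231 h67 chk767
  have h69 := checkSteps_sound (nadd NN) (List.replicate 0 0) neq F Ev 6 2097152 tw γ hfree htw q0 words 231 hw steps768 1152000 248832 231 1153500 248832 231 h68 chk768
  have h70 := checkSteps_sound (nadd NN) (List.replicate 0 0) neq F Ev 6 2097152 tw γ hfree htw q0 words 231 hw steps769 1153500 248832 231 1155000 248832 231 h69 chk769
  have h71 := checkSteps_sound (nadd NN) (List.replicate 0 0) neq F Ev 6 2097152 tw γ hfree htw q0 words 231 hw steps770 1155000 248832 231 1156500 248832 231 h70 chk770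
  have h72 := checkSteps_sound (nadd NN) (List.replicate 0 0) neq F Ev 6 2097152 tw γ hfree htw q0 words 231 hw steps771 1156500 248832 231 1158000 248832 231 h71 chk771
  have h73 := checkSteps_sound (nadd NN) (List.replicate 0 0) neq F Ev 6 2097152 tw γ hfree htw q0 words 231 hw steps772 1158000 248832 231 1159500 248832 231 h72 chk772
  have h74 := checkSteps_sound (nadd NN) (List.replicate 0 0) neq F Ev 6 2097152 tw γ hfree htw q0 words 231 hw steps773 1159500 248832 231 1161000 248832 231 h73 chk773
  have h75 := checkSteps_sound (nadd NN) (List.replicate 0 0) neq F Ev 6 2097152 tw γ hfree htw q0 words 231 hw steps774 1161000 248832 231 1162500 248832 231 h74 chk774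
  have h76 := checkSteps_sound (nadd NN) (List.replicate 0 0) neq F Ev 6 2097152 tw γ hfree htw q0 words 231 hw steps775 1162500 248832 231 1164000 248832 231 h75 chk775
  have h77 := checkSteps_sound (nadd NN) (List.replicate 0 0) neq F Ev 6 2097152 tw γ hfree htw q0 words 231 hw steps776 1164000 248832 231 1165500 248832 231 h76 chk776
  have h78 := checkSteps_sound (nadd NN) (List.replicate 0 0) neq F Ev 6 2097152 tw γ hfree htw q0 words 231 hw steps777 1165500 248832 231 1167000 248832 231 h77 chk777
  have h79 := checkSteps_sound (nadd NN) (List.replicate 0 0) neq F Ev 6 2097152 tw γ hfree htw q0 words 231 hw steps778 1167000 248832 231 1168500 248832 231 h78 chk778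
  have h80 := checkSteps_sound (nadd NN) (List.replicate 0 0) neq F Ev 6 2097152 tw γ hfree htw q0 words 231 hw steps779 1168500 248832 231 1170000 248832 231 h79 chk779
  have h81 := checkSteps_sound (nadd NN) (List.replicate 0 0) neq F Ev 6 2097152 tw γ hfree htw q0 words 231 hw steps780 1170000 248832 231 1171500 248832 231 h80 chk780
  have h82 := checkSteps_sound (nadd NN) (List.replicate 0 0) neq F Ev 6 2097152 tw γ hfree htw q0 words 231 hw steps781 1171500 248832 231 1173000 248832 231 h81 chk781
  have h83 := checkSteps_sound (nadd NN) (List.replicate 0 0) neq F Ev 6 2097152 tw γ hfree htw q0 words 231 hw steps782 1173000 248832 231 1174500 248832 231 h82 chk782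
  have h84 := checkSteps_sound (nadd NN) (List.replicate 0 0) neq F Ev 6 2097152 tw γ hfree htw q0 words 231 hw steps783 1174500 248832 231 1176000 248832 231 h83 chk783
  have h85 := checkSteps_sound (nadd NN) (List.replicate 0 0) neq F Ev 6 2097152 tw γ hfree htw q0 words 231 hw steps784 1176000 248832 231 1177500 248832 231 h84 chk784
  have h86 := checkSteps_sound (nadd NN) (List.replicate 0 0) neq F Ev 6 2097152 tw γ hfree htw q0 words 231 hw steps785 1177500 248832 231 1179000 248832 231 h85 chk785
  have h87 := checkSteps_sound (nadd NN) (List.replicate 0 0) neq F Ev 6 2097152 tw γ hfree htw q0 words 231 hw steps786 1179000 248832 231 1180500 248832 231 h86 chk786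
  have h88 := checkSteps_sound (nadd NN) (List.replicate 0 0) neq F Ev 6 2097152 tw γ hfree htw q0 words 231 hw steps787 1180500 248832 231 1182000 248832 231 h87 chk787
  have h89 := checkSteps_sound (nadd NN) (List.replicate 0 0) neq F Ev 6 2097152 tw γ hfree htw q0 words 231 hw steps788 1182000 248832 231 1183500 248832 231 h88 chk788
  have h90 := checkSteps_sound (nadd NN) (List.replicate 0 0) neq F Ev 6 2097152 tw γ hfree htw q0 words 231 hw steps789 1183500 248832 231 1185000 248832 231 h89 chk789
  have h91 := checkSteps_sound (nadd NN) (List.replicate 0 0) neq F Ev 6 2097152 tw γ hfree htw q0 words 231 hw steps790 1185000 248832 231 1186500 248832 231 h90 chk790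
  have h92 := checkSteps_sound (nadd NN) (List.replicate 0 0) neq F Ev 6 2097152 tw γ hfree htw q0 words 231 hw steps791 1186500 248832 231 1188000 248832 231 h91 chk791
  have h93 := checkSteps_sound (nadd NN) (List.replicate 0 0) neq F Ev 6 2097152 tw γ hfree htw q0 words 231 hw steps792 1188000 248832 231 1189500 248832 231 h92 chk792
  have h94 := checkSteps_sound (nadd NN) (List.replicate 0 0) neq F Ev 6 2097152 tw γ hfree htw q0 words 231 hw steps793 1189500 248832 231 1191000 248832 231 h93 chk793
  have h95 := checkSteps_sound (nadd NN) (List.replicate 0 0) neq F Ev 6 2097152 tw γ hfree htw q0 words 231 hw steps794 1191000 248832 231 1192500 248832 231 h94 chk794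
  have h96 := checkSteps_sound (nadd NN) (List.replicate 0 0) neq F Ev 6 2097152 tw γ hfree htw q0 words 231 hw steps795 1192500 248832 231 1194000 248832 231 h95 chk795
  have h97 := checkSteps_sound (nadd NN) (List.replicate 0 0) neq F Ev 6 2097152 tw γ hfree htw q0 words 231 hw steps796 1194000 248832 231 1195500 248832 231 h96 chk796
  have h98 := checkSteps_sound (nadd NN) (List.replicate 0 0) neq F Ev 6 2097152 tw γ hfree htw q0 words 231 hw steps797 1195500 248832 231 1197000 248832 231 h97 chk797
  have h99 := checkSteps_sound (nadd NN) (List.replicate 0 0) neq F Ev 6 2097152 tw γ hfree htw q0 words 231 hw steps798 1197000 248832 231 1198500 248832 231 h98 chk798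
  have h100 := checkSteps_sound (nadd NN) (List.replicate 0 0) neq F Ev 6 2097152 tw γ hfree htw q0 words 231 hw steps799 1198500 248832 231 1200000 248832 231 h99 chk799
  exact h100

end Cfsg.Agent.Lib.H16.U62M.P2
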