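import Cfsg.Agent.Lib.H16.U62M.P2.Steps100
import Cfsg.Agent.Lib.H16.U62M.P2.Steps101
import Cfsg.Agent.Lib.H16.U62M.P2.Steps102
import Cfsg.Agent.Lib.H16.U62M.P2.Steps103
import Cfsg.Agent.Lib.H16.U62M.P2.Steps104
import Cfsg.Agent.Lib.H16.U62M.P2.Steps105
import Cfsg.Agent.Lib.H16.U62M.P2.Steps106
import Cfsg.Agent.Lib.H16.U62M.P2.Steps107
import Cfsg.Agent.Lib.H16.U62M.P2.Steps108
import Cfsg.Agent.Lib.H16.U62M.P2.Steps109
import Cfsg.Agent.Lib.H16.U62M.P2.Steps110
import Cfsg.Agent.Lib.H16.U62M.P2.Steps111
import Cfsg.Agent.Lib.H16.U62M.P2.Steps112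
import Cfsg.Agent.Lib.H16.U62M.P2.Run7

set_option autoImplicit false
set_option maxRecDepth 100000

/-! # Running the monomial certificate, part 8 (generated) -/

namespace Cfsg.Agent.Lib.H16.U62M.P2

open Cfsg.Agent.Lib.H17.CosetCert (BT WT)
open Cfsg.Agent.Lib.H17.MonoCert
open Cfsg.Agent.Lib.H16.G24M

variable {G Q A : Type*} [Group G] [MulAction G Q] [Group A] [MulAction A Q]
  [SMulCommClass G A Q] (tw : List ℕ → A) (γ : ℕ → G)

theorem run8 (hfree : ∀ (α β : A) (q : Q), α • q = β • q → α = β)
    (htw : TwOK (nadd NN) (List.replicate 0 0) neq tw) (q0 : Q) (hw : WordsOK Ev tw γ q0 words 231) :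
    Inv F Ev tw γ q0 words 1350000 248832 231 := by
  have h0 := run7 tw γ hfree htw q0 hw
  have h1 := checkSteps_sound (nadd NN) (List.replicate 0 0) neq F Ev 6 2097152 tw γ hfree htw q0 words 231 hw steps800 1200000 248832 231 1201500 248832 231 h0 chk800
  have h2 := checkSteps_sound (nadd NN) (List.replicate 0 0) neq F Ev 6 2097152 tw γ hfree htw q0 words 231 hw steps801 1201500 248832 231 1203000 248832 231 h1 chk801
  have h3 := checkSteps_sound (nadd NN) (List.replicate 0 0) neq F Ev 6 2097152 tw γ hfree htw q0 words 231 hw steps802 1203000 248832 231 1204500 248832 231 h2 chk802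
  have h4 := checkSteps_sound (nadd NN) (List.replicate 0 0) neq F Ev 6 2097152 tw γ hfree htw q0 words 231 hw steps803 1204500 248832 231 1206000 248832 231 h3 chk803
  have h5 := checkSteps_sound (nadd NN) (List.replicate 0 0) neq F Ev 6 2097152 tw γ hfree htw q0 words 231 hw steps804 1206000 248832 231 1207500 248832 231 h4 chk804
  have h6 := checkSteps_sound (nadd NN) (List.replicate 0 0) neq F Ev 6 2097152 tw γ hfree htw q0 words 231 hw steps805 1207500 248832 231 1209000 248832 231 h5 chk805
  have h7 := checkSteps_sound (nadd NN) (List.replicate 0 0) neq F Ev 6 2097152 tw γ hfree htw q0 words 231 hw steps806 1209000 248832 231 1210500 248832 231 h6 chk806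
  have h8 := checkSteps_sound (nadd NN) (List.replicate 0 0) neq F Ev 6 2097152 tw γ hfree htw q0 words 231 hw steps807 1210500 248832 231 1212000 248832 231 h7 chk807
  have h9 := checkSteps_sound (nadd NN) (List.replicate 0 0) neq F Ev 6 2097152 tw γ hfree htw q0 words 231 hw steps808 1212000 248832 231 1213500 248832 231 h8 chk808
  have h10 := checkSteps_sound (nadd NN) (List.replicate 0 0) neq F Ev 6 2097152 tw γ hfree htw q0 words 231 hw steps809 1213500 248832 231 1215000 248832 231 h9 chk809
  have h11 := checkSteps_sound (nadd NN) (List.replicate 0 0) neq F Ev 6 2097152 tw γ hfree htw q0 words 231 hw steps810 1215000 248832 231 1216500 248832 231 h10 chk810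
  have h12 := checkSteps_sound (nadd NN) (List.replicate 0 0) neq F Ev 6 2097152 tw γ hfree htw q0 words 231 hw steps811 1216500 248832 231 1218000 248832 231 h11 chk811
  have h13 := checkSteps_sound (nadd NN) (List.replicate 0 0) neq F Ev 6 2097152 tw γ hfree htw q0 words 231 hw steps812 1218000 248832 231 1219500 248832 231 h12 chk812
  have h14 := checkSteps_sound (nadd NN) (List.replicate 0 0) neq F Ev 6 2097152 tw γ hfree htw q0 words 231 hw steps813 1219500 248832 231 1221000 248832 231 h13 chk813
  have h15 := checkSteps_sound (nadd NN) (List.replicate 0 0) neq F Ev 6 2097152 tw γ hfree htw q0 words 231 hw steps814 1221000 248832 231 1222500 248832 231 h14 chk814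
  have h16 := checkSteps_sound (nadd NN) (List.replicate 0 0) neq F Ev 6 2097152 tw γ hfree htw q0 words 231 hw steps815 1222500 248832 231 1224000 248832 231 h15 chk815
  have h17 := checkSteps_sound (nadd NN) (List.replicate 0 0) neq F Ev 6 2097152 tw γ hfree htw q0 words 231 hw steps816 1224000 248832 231 1225500 248832 231 h16 chk816
  have h18 := checkSteps_sound (nadd NN) (List.replicate 0 0) neq F Ev 6 2097152 tw γ hfree htw q0 words 231 hw steps817 1225500 248832 231 1227000 248832 231 h17 chk817
  have h19 := checkSteps_sound (nadd NN) (List.replicate 0 0) neq F Ev 6 2097152 tw γ hfree htw q0 words 231 hw steps818 1227000 248832 231 1228500 248832 231 h18 chk818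
  have h20 := checkSteps_sound (nadd NN) (List.replicate 0 0) neq F Ev 6 2097152 tw γ hfree htw q0 words 231 hw steps819 1228500 248832 231 1230000 248832 231 h19 chk819
  have h21 := checkSteps_sound (nadd NN) (List.replicate 0 0) neq F Ev 6 2097152 tw γ hfree htw q0 words 231 hw steps820 1230000 248832 231 1231500 248832 231 h20 chk820
  have h22 := checkSteps_sound (nadd NN) (List.replicate 0 0) neq F Ev 6 2097152 tw γ hfree htw q0 words 231 hw steps821 1231500 248832 231 1233000 248832 231 h21 chk821
  have h23 := checkSteps_sound (nadd NN) (List.replicate 0 0) neq F Ev 6 2097152 tw γ hfree htw q0 words 231 hw steps822 1233000 248832 231 1234500 248832 231 h22 chk822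
  have h24 := checkSteps_sound (nadd NN) (List.replicate 0 0) neq F Ev 6 2097152 tw γ hfree htw q0 words 231 hw steps823 1234500 248832 231 1236000 248832 231 h23 chk823
  have h25 := checkSteps_sound (nadd NN) (List.replicate 0 0) neq F Ev 6 2097152 tw γ hfree htw q0 words 231 hw steps824 1236000 248832 231 1237500 248832 231 h24 chk824
  have h26 := checkSteps_sound (nadd NN) (List.replicate 0 0) neq F Ev 6 2097152 tw γ hfree htw q0 words 231 hw steps825 1237500 248832 231 1239000 248832 231 h25 chk825
  have h27 := checkSteps_sound (nadd NN) (List.replicate 0 0) neq F Ev 6 2097152 tw γ hfree htw q0 words 231 hw steps826 1239000 248832 231 1240500 248832 231 h26 chk826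
  have h28 := checkSteps_sound (nadd NN) (List.replicate 0 0) neq F Ev 6 2097152 tw γ hfree htw q0 words 231 hw steps827 1240500 248832 231 1242000 248832 231 h27 chk827
  have h29 := checkSteps_sound (nadd NN) (List.replicate 0 0) neq F Ev 6 2097152 tw γ hfree htw q0 words 231 hw steps828 1242000 248832 231 1243500 248832 231 h28 chk828
  have h30 := checkSteps_sound (nadd NN) (List.replicate 0 0) neq F Ev 6 2097152 tw γ hfree htw q0 words 231 hw steps829 1243500 248832 231 1245000 248832 231 h29 chk829
  have h31 := checkSteps_sound (nadd NN) (List.replicate 0 0) neq F Ev 6 2097152 tw γ hfree htw q0 words 231 hw steps830 1245000 248832 231 1246500 248832 231 h30 chk830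
  have h32 := checkSteps_sound (nadd NN) (List.replicate 0 0) neq F Ev 6 2097152 tw γ hfree htw q0 words 231 hw steps831 1246500 248832 231 1248000 248832 231 h31 chk831
  have h33 := checkSteps_sound (nadd NN) (List.replicate 0 0) neq F Ev 6 2097152 tw γ hfree htw q0 words 231 hw steps832 1248000 248832 231 1249500 248832 231 h32 chk832
  have h34 := checkSteps_sound (nadd NN) (List.replicate 0 0) neq F Ev 6 2097152 tw γ hfree htw q0 words 231 hw steps833 1249500 248832 231 1251000 248832 231 h33 chk833
  have h35 := checkSteps_sound (nadd NN) (List.replicate 0 0) neq F Ev 6 2097152 tw γ hfree htw q0 words 231 hw steps834 1251000 248832 231 1252500 248832 231 h34 chk834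
  have h36 := checkSteps_sound (nadd NN) (List.replicate 0 0) neq F Ev 6 2097152 tw γ hfree htw q0 words 231 hw steps835 1252500 248832 231 1254000 248832 231 h35 chk835
  have h37 := checkSteps_sound (nadd NN) (List.replicate 0 0) neq F Ev 6 2097152 tw γ hfree htw q0 words 231 hw steps836 1254000 248832 231 1255500 248832 231 h36 chk836
  have h38 := checkSteps_sound (nadd NN) (List.replicate 0 0) neq F Ev 6 2097152 tw γ hfree htw q0 words 231 hw steps837 1255500 248832 231 1257000 248832 231 h37 chk837
  have h39 := checkSteps_sound (nadd NN) (List.replicate 0 0) neq F Ev 6 2097152 tw γ hfree htw q0 words 231 hw steps838 1257000 248832 231 1258500 248832 231 h38 chk838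
  have h40 := checkSteps_sound (nadd NN) (List.replicate 0 0) neq F Ev 6 2097152 tw γ hfree htw q0 words 231 hw steps839 1258500 248832 231 1260000 248832 231 h39 chk839
  have h41 := checkSteps_sound (nadd NN) (List.replicate 0 0) neq F Ev 6 2097152 tw γ hfree htw q0 words 231 hw steps840 1260000 248832 231 1261500 248832 231 h40 chk840
  have h42 := checkSteps_sound (nadd NN) (List.replicate 0 0) neq F Ev 6 2097152 tw γ hfree htw q0 words 231 hw steps841 1261500 248832 231 1263000 248832 231 h41 chk841
  have h43 := checkSteps_sound (nadd NN) (List.replicate 0 0) neq F Ev 6 2097152 tw γ hfree htw q0 words 231 hw steps842 1263000 248832 231 1264500 248832 231 h42 chk842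
  have h44 := checkSteps_sound (nadd NN) (List.replicate 0 0) neq F Ev 6 2097152 tw γ hfree htw q0 words 231 hw steps843 1264500 248832 231 1266000 248832 231 h43 chk843
  have h45 := checkSteps_sound (nadd NN) (List.replicate 0 0) neq F Ev 6 2097152 tw γ hfree htw q0 words 231 hw steps844 1266000 248832 231 1267500 248832 231 h44 chk844
  have h46 := checkSteps_sound (nadd NN) (List.replicate 0 0) neq F Ev 6 2097152 tw γ hfree htw q0 words 231 hw steps845 1267500 248832 231 1269000 248832 231 h45 chk845
  have h47 := checkSteps_sound (nadd NN) (List.replicate 0 0) neq F Ev 6 2097152 tw γ hfree htw q0 words 231 hw steps846 1269000 248832 231 1270500 248832 231 h46 chk846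
  have h48 := checkSteps_sound (nadd NN) (List.replicate 0 0) neq F Ev 6 2097152 tw γ hfree htw q0 words 231 hw steps847 1270500 248832 231 1272000 248832 231 h47 chk847
  have h49 := checkSteps_sound (nadd NN) (List.replicate 0 0) neq F Ev 6 2097152 tw γ hfree htw q0 words 231 hw steps848 1272000 248832 231 1273500 248832 231 h48 chk848
  have h50 := checkSteps_sound (nadd NN) (List.replicate 0 0) neq F Ev 6 2097152 tw γ hfree htw q0 words 231 hw steps849 1273500 248832 231 1275000 248832 231 h49 chk849
  have h51 := checkSteps_sound (nadd NN) (List.replicate 0 0) neq F Ev 6 2097152 tw γ hfree htw q0 words 231 hw steps850 1275000 248832 231 1276500 248832 231 h50 chk850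
  have h52 := checkSteps_sound (nadd NN) (List.replicate 0 0) neq F Ev 6 2097152 tw γ hfree htw q0 words 231 hw steps851 1276500 248832 231 1278000 248832 231 h51 chk851
  have h53 := checkSteps_sound (nadd NN) (List.replicate 0 0) neq F Ev 6 2097152 tw γ hfree htw q0 words 231 hw steps852 1278000 248832 231 1279500 248832 231 h52 chk852
  have h54 := checkSteps_sound (nadd NN) (List.replicate 0 0) neq F Ev 6 2097152 tw γ hfree htw q0 words 231 hw steps853 1279500 248832 231 1281000 248832 231 h53 chk853
  have h55 := checkSteps_sound (nadd NN) (List.replicate 0 0) neq F Ev 6 2097152 tw γ hfree htw q0 words 231 hw steps854 1281000 248832 231 1282500 248832 231 h54 chk854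
  have h56 := checkSteps_sound (nadd NN) (List.replicate 0 0) neq F Ev 6 2097152 tw γ hfree htw q0 words 231 hw steps855 1282500 248832 231 1284000 248832 231 h55 chk855
  have h57 := checkSteps_sound (nadd NN) (List.replicate 0 0) neq F Ev 6 2097152 tw γ hfree htw q0 words 231 hw steps856 1284000 248832 231 1285500 248832 231 h56 chk856
  have h58 := checkSteps_sound (nadd NN) (List.replicate 0 0) neq F Ev 6 2097152 tw γ hfree htw q0 words 231 hw steps857 1285500 248832 231 1287000 248832 231 h57 chk857
  have h59 := checkSteps_sound (nadd NN) (List.replicate 0 0) neq F Ev 6 2097152 tw γ hfree htw q0 words 231 hw steps858 1287000 248832 231 1288500 248832 231 h58 chk858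
  have h60 := checkSteps_sound (nadd NN) (List.replicate 0 0) neq F Ev 6 2097152 tw γ hfree htw q0 words 231 hw steps859 1288500 248832 231 1290000 248832 231 h59 chk859
  have h61 := checkSteps_sound (nadd NN) (List.replicate 0 0) neq F Ev 6 2097152 tw γ hfree htw q0 words 231 hw steps860 1290000 248832 231 1291500 248832 231 h60 chk860
  have h62 := checkSteps_sound (nadd NN) (List.replicate 0 0) neq F Ev 6 2097152 tw γ hfree htw q0 words 231 hw steps861 1291500 248832 231 1293000 248832 231 h61 chk861
  have h63 := checkSteps_sound (nadd NN) (List.replicate 0 0) neq F Ev 6 2097152 tw γ hfree htw q0 words 231 hw steps862 1293000 248832 231 1294500 248832 231 h62 chk862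
  have h64 := checkSteps_sound (nadd NN) (List.replicate 0 0) neq F Ev 6 2097152 tw γ hfree htw q0 words 231 hw steps863 1294500 248832 231 1296000 248832 231 h63 chk863
  have h65 := checkSteps_sound (nadd NN) (List.replicate 0 0) neq F Ev 6 2097152 tw γ hfree htw q0 words 231 hw steps864 1296000 248832 231 1297500 248832 231 h64 chk864
  have h66 := checkSteps_sound (nadd NN) (List.replicate 0 0) neq F Ev 6 2097152 tw γ hfree htw q0 words 231 hw steps865 1297500 248832 231 1299000 248832 231 h65 chk865
  have h67 := checkSteps_sound (nadd NN) (List.replicate 0 0) neq F Ev 6 2097152 tw γ hfree htw q0 words 231 hw steps866 1299000 248832 231 1300500 248832 231 h66 chk866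
  have h68 := checkSteps_sound (nadd NN) (List.replicate 0 0) neq F Ev 6 2097152 tw γ hfree htw q0 words 231 hw steps867 1300500 248832 231 1302000 248832 231 h67 chk867
  have h69 := checkSteps_sound (nadd NN) (List.replicate 0 0) neq F Ev 6 2097152 tw γ hfree htw q0 words 231 hw steps868 1302000 248832 231 1303500 248832 231 h68 chk868
  have h70 := checkSteps_sound (nadd NN) (List.replicate 0 0) neq F Ev 6 2097152 tw γ hfree htw q0 words 231 hw steps869 1303500 248832 231 1305000 248832 231 h69 chk869
  have h71 := checkSteps_sound (nadd NN) (List.replicate 0 0) neq F Ev 6 2097152 tw γ hfree htw q0 words 231 hw steps870 1305000 248832 231 1306500 248832 231 h70 chk870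
  have h72 := checkSteps_sound (nadd NN) (List.replicate 0 0) neq F Ev 6 2097152 tw γ hfree htw q0 words 231 hw steps871 1306500 248832 231 1308000 248832 231 h71 chk871
  have h73 := checkSteps_sound (nadd NN) (List.replicate 0 0) neq F Ev 6 2097152 tw γ hfree htw q0 words 231 hw steps872 1308000 248832 231 1309500 248832 231 h72 chk872
  have h74 := checkSteps_sound (nadd NN) (List.replicate 0 0) neq F Ev 6 2097152 tw γ hfree htw q0 words 231 hw steps873 1309500 248832 231 1311000 248832 231 h73 chk873
  have h75 := checkSteps_sound (nadd NN) (List.replicate 0 0) neq F Ev 6 2097152 tw γ hfree htw q0 words 231 hw steps874 1311000 248832 231 1312500 248832 231 h74 chk874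
  have h76 := checkSteps_sound (nadd NN) (List.replicate 0 0) neq F Ev 6 2097152 tw γ hfree htw q0 words 231 hw steps875 1312500 248832 231 1314000 248832 231 h75 chk875
  have h77 := checkSteps_sound (nadd NN) (List.replicate 0 0) neq F Ev 6 2097152 tw γ hfree htw q0 words 231 hw steps876 1314000 248832 231 1315500 248832 231 h76 chk876
  have h78 := checkSteps_sound (nadd NN) (List.replicate 0 0) neq F Ev 6 2097152 tw γ hfree htw q0 words 231 hw steps877 1315500 248832 231 1317000 248832 231 h77 chk877
  have h79 := checkSteps_sound (nadd NN) (List.replicate 0 0) neq F Ev 6 2097152 tw γ hfree htw q0 words 231 hw steps878 1317000 248832 231 1318500 248832 231 h78 chk878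
  have h80 := checkSteps_sound (nadd NN) (List.replicate 0 0) neq F Ev 6 2097152 tw γ hfree htw q0 words 231 hw steps879 1318500 248832 231 1320000 248832 231 h79 chk879
  have h81 := checkSteps_sound (nadd NN) (List.replicate 0 0) neq F Ev 6 2097152 tw γ hfree htw q0 words 231 hw steps880 1320000 248832 231 1321500 248832 231 h80 chk880
  have h82 := checkSteps_sound (nadd NN) (List.replicate 0 0) neq F Ev 6 2097152 tw γ hfree htw q0 words 231 hw steps881 1321500 248832 231 1323000 248832 231 h81 chk881
  have h83 := checkSteps_sound (nadd NN) (List.replicate 0 0) neq F Ev 6 2097152 tw γ hfree htw q0 words 231 hw steps882 1323000 248832 231 1324500 248832 231 h82 chk882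
  have h84 := checkSteps_sound (nadd NN) (List.replicate 0 0) neq F Ev 6 2097152 tw γ hfree htw q0 words 231 hw steps883 1324500 248832 231 1326000 248832 231 h83 chk883
  have h85 := checkSteps_sound (nadd NN) (List.replicate 0 0) neq F Ev 6 2097152 tw γ hfree htw q0 words 231 hw steps884 1326000 248832 231 1327500 248832 231 h84 chk884
  have h86 := checkSteps_sound (nadd NN) (List.replicate 0 0) neq F Ev 6 2097152 tw γ hfree htw q0 words 231 hw steps885 1327500 248832 231 1329000 248832 231 h85 chk885
  have h87 := checkSteps_sound (nadd NN) (List.replicate 0 0) neq F Ev 6 2097152 tw γ hfree htw q0 words 231 hw steps886 1329000 248832 231 1330500 248832 231 h86 chk886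
  have h88 := checkSteps_sound (nadd NN) (List.replicate 0 0) neq F Ev 6 2097152 tw γ hfree htw q0 words 231 hw steps887 1330500 248832 231 1332000 248832 231 h87 chk887
  have h89 := checkSteps_sound (nadd NN) (List.replicate 0 0) neq F Ev 6 2097152 tw γ hfree htw q0 words 231 hw steps888 1332000 248832 231 1333500 248832 231 h88 chk888
  have h90 := checkSteps_sound (nadd NN) (List.replicate 0 0) neq F Ev 6 2097152 tw γ hfree htw q0 words 231 hw steps889 1333500 248832 231 1335000 248832 231 h89 chk889
  have h91 := checkSteps_sound (nadd NN) (List.replicate 0 0) neq F Ev 6 2097152 tw γ hfree htw q0 words 231 hw steps890 1335000 248832 231 1336500 248832 231 h90 chk890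
  have h92 := checkSteps_sound (nadd NN) (List.replicate 0 0) neq F Ev 6 2097152 tw γ hfree htw q0 words 231 hw steps891 1336500 248832 231 1338000 248832 231 h91 chk891
  have h93 := checkSteps_sound (nadd NN) (List.replicate 0 0) neq F Ev 6 2097152 tw γ hfree htw q0 words 231 hw steps892 1338000 248832 231 1339500 248832 231 h92 chk892
  have h94 := checkSteps_sound (nadd NN) (List.replicate 0 0) neq F Ev 6 2097152 tw γ hfree htw q0 words 231 hw steps893 1339500 248832 231 1341000 248832 231 h93 chk893
  have h95 := checkSteps_sound (nadd NN) (List.replicate 0 0) neq F Ev 6 2097152 tw γ hfree htw q0 words 231 hw steps894 1341000 248832 231 1342500 248832 231 h94 chk894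
  have h96 := checkSteps_sound (nadd NN) (List.replicate 0 0) neq F Ev 6 2097152 tw γ hfree htw q0 words 231 hw steps895 1342500 248832 231 1344000 248832 231 h95 chk895
  have h97 := checkSteps_sound (nadd NN) (List.replicate 0 0) neq F Ev 6 2097152 tw γ hfree htw q0 words 231 hw steps896 1344000 248832 231 1345500 248832 231 h96 chk896
  have h98 := checkSteps_sound (nadd NN) (List.replicate 0 0) neq F Ev 6 2097152 tw γ hfree htw q0 words 231 hw steps897 1345500 248832 231 1347000 248832 231 h97 chk897
  have h99 := checkSteps_sound (nadd NN) (List.replicate 0 0) neq F Ev 6 2097152 tw γ hfree htw q0 words 231 hw steps898 1347000 248832 231 1348500 248832 231 h98 chk898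
  have h100 := checkSteps_sound (nadd NN) (List.replicate 0 0) neq F Ev 6 2097152 tw γ hfree htw q0 words 231 hw steps899 1348500 248832 231 1350000 248832 231 h99 chk899
  exact h100

end Cfsg.Agent.Lib.H16.U62M.P2
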