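import Cfsg.Agent.Lib.H16.U62M.P2.Steps112
import Cfsg.Agent.Lib.H16.U62M.P2.Steps113
import Cfsg.Agent.Lib.H16.U62M.P2.Steps114
import Cfsg.Agent.Lib.H16.U62M.P2.Steps115
import Cfsg.Agent.Lib.H16.U62M.P2.Steps116
import Cfsg.Agent.Lib.H16.U62M.P2.Steps117
import Cfsg.Agent.Lib.H16.U62M.P2.Steps118
import Cfsg.Agent.Lib.H16.U62M.P2.Steps119
import Cfsg.Agent.Lib.H16.U62M.P2.Steps120
import Cfsg.Agent.Lib.H16.U62M.P2.Steps121
import Cfsg.Agent.Lib.H16.U62M.P2.Steps122
import Cfsg.Agent.Lib.H16.U62M.P2.Steps123
import Cfsg.Agent.Lib.H16.U62M.P2.Steps124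
import Cfsg.Agent.Lib.H16.U62M.P2.Run8

set_option autoImplicit false
set_option maxRecDepth 100000

/-! # Running the monomial certificate, part 9 (generated) -/

namespace Cfsg.Agent.Lib.H16.U62M.P2

open Cfsg.Agent.Lib.H17.CosetCert (BT WT)
open Cfsg.Agent.Lib.H17.MonoCert
open Cfsg.Agent.Lib.H16.G24M

variable {G Q A : Type*} [Group G] [MulAction G Q] [Group A] [MulAction A Q]
  [SMulCommClass G A Q] (tw : List ℕ → A) (γ : ℕ → G)

theorem run9 (hfree : ∀ (α β : A) (q : Q), α • q = β • q → α = β)
    (htw : TwOK (nadd NN) (List.replicate 0 0) neq tw) (q0 : Q) (hw : WordsOK Ev tw γ q0 words 231) :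
    Inv F Ev tw γ q0 words 1492992 248832 231 := by
  have h0 := run8 tw γ hfree htw q0 hw
  have h1 := checkSteps_sound (nadd NN) (List.replicate 0 0) neq F Ev 6 2097152 tw γ hfree htw q0 words 231 hw steps900 1350000 248832 231 1351500 248832 231 h0 chk900
  have h2 := checkSteps_sound (nadd NN) (List.replicate 0 0) neq F Ev 6 2097152 tw γ hfree htw q0 words 231 hw steps901 1351500 248832 231 1353000 248832 231 h1 chk901
  have h3 := checkSteps_sound (nadd NN) (List.replicate 0 0) neq F Ev 6 2097152 tw γ hfree htw q0 words 231 hw steps902 1353000 248832 231 1354500 248832 231 h2 chk902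
  have h4 := checkSteps_sound (nadd NN) (List.replicate 0 0) neq F Ev 6 2097152 tw γ hfree htw q0 words 231 hw steps903 1354500 248832 231 1356000 248832 231 h3 chk903
  have h5 := checkSteps_sound (nadd NN) (List.replicate 0 0) neq F Ev 6 2097152 tw γ hfree htw q0 words 231 hw steps904 1356000 248832 231 1357500 248832 231 h4 chk904
  have h6 := checkSteps_sound (nadd NN) (List.replicate 0 0) neq F Ev 6 2097152 tw γ hfree htw q0 words 231 hw steps905 1357500 248832 231 1359000 248832 231 h5 chk905
  have h7 := checkSteps_sound (nadd NN) (List.replicate 0 0) neq F Ev 6 2097152 tw γ hfree htw q0 words 231 hw steps906 1359000 248832 231 1360500 248832 231 h6 chk906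
  have h8 := checkSteps_sound (nadd NN) (List.replicate 0 0) neq F Ev 6 2097152 tw γ hfree htw q0 words 231 hw steps907 1360500 248832 231 1362000 248832 231 h7 chk907
  have h9 := checkSteps_sound (nadd NN) (List.replicate 0 0) neq F Ev 6 2097152 tw γ hfree htw q0 words 231 hw steps908 1362000 248832 231 1363500 248832 231 h8 chk908
  have h10 := checkSteps_sound (nadd NN) (List.replicate 0 0) neq F Ev 6 2097152 tw γ hfree htw q0 words 231 hw steps909 1363500 248832 231 1365000 248832 231 h9 chk909
  have h11 := checkSteps_sound (nadd NN) (List.replicate 0 0) neq F Ev 6 2097152 tw γ hfree htw q0 words 231 hw steps910 1365000 248832 231 1366500 248832 231 h10 chk910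
  have h12 := checkSteps_sound (nadd NN) (List.replicate 0 0) neq F Ev 6 2097152 tw γ hfree htw q0 words 231 hw steps911 1366500 248832 231 1368000 248832 231 h11 chk911
  have h13 := checkSteps_sound (nadd NN) (List.replicate 0 0) neq F Ev 6 2097152 tw γ hfree htw q0 words 231 hw steps912 1368000 248832 231 1369500 248832 231 h12 chk912
  have h14 := checkSteps_sound (nadd NN) (List.replicate 0 0) neq F Ev 6 2097152 tw γ hfree htw q0 words 231 hw steps913 1369500 248832 231 1371000 248832 231 h13 chk913
  have h15 := checkSteps_sound (nadd NN) (List.replicate 0 0) neq F Ev 6 2097152 tw γ hfree htw q0 words 231 hw steps914 1371000 248832 231 1372500 248832 231 h14 chk914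
  have h16 := checkSteps_sound (nadd NN) (List.replicate 0 0) neq F Ev 6 2097152 tw γ hfree htw q0 words 231 hw steps915 1372500 248832 231 1374000 248832 231 h15 chk915
  have h17 := checkSteps_sound (nadd NN) (List.replicate 0 0) neq F Ev 6 2097152 tw γ hfree htw q0 words 231 hw steps916 1374000 248832 231 1375500 248832 231 h16 chk916
  have h18 := checkSteps_sound (nadd NN) (List.replicate 0 0) neq F Ev 6 2097152 tw γ hfree htw q0 words 231 hw steps917 1375500 248832 231 1377000 248832 231 h17 chk917
  have h19 := checkSteps_sound (nadd NN) (List.replicate 0 0) neq F Ev 6 2097152 tw γ hfree htw q0 words 231 hw steps918 1377000 248832 231 1378500 248832 231 h18 chk918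
  have h20 := checkSteps_sound (nadd NN) (List.replicate 0 0) neq F Ev 6 2097152 tw γ hfree htw q0 words 231 hw steps919 1378500 248832 231 1380000 248832 231 h19 chk919
  have h21 := checkSteps_sound (nadd NN) (List.replicate 0 0) neq F Ev 6 2097152 tw γ hfree htw q0 words 231 hw steps920 1380000 248832 231 1381500 248832 231 h20 chk920
  have h22 := checkSteps_sound (nadd NN) (List.replicate 0 0) neq F Ev 6 2097152 tw γ hfree htw q0 words 231 hw steps921 1381500 248832 231 1383000 248832 231 h21 chk921
  have h23 := checkSteps_sound (nadd NN) (List.replicate 0 0) neq F Ev 6 2097152 tw γ hfree htw q0 words 231 hw steps922 1383000 248832 231 1384500 248832 231 h22 chk922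
  have h24 := checkSteps_sound (nadd NN) (List.replicate 0 0) neq F Ev 6 2097152 tw γ hfree htw q0 words 231 hw steps923 1384500 248832 231 1386000 248832 231 h23 chk923
  have h25 := checkSteps_sound (nadd NN) (List.replicate 0 0) neq F Ev 6 2097152 tw γ hfree htw q0 words 231 hw steps924 1386000 248832 231 1387500 248832 231 h24 chk924
  have h26 := checkSteps_sound (nadd NN) (List.replicate 0 0) neq F Ev 6 2097152 tw γ hfree htw q0 words 231 hw steps925 1387500 248832 231 1389000 248832 231 h25 chk925
  have h27 := checkSteps_sound (nadd NN) (List.replicate 0 0) neq F Ev 6 2097152 tw γ hfree htw q0 words 231 hw steps926 1389000 248832 231 1390500 248832 231 h26 chk926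
  have h28 := checkSteps_sound (nadd NN) (List.replicate 0 0) neq F Ev 6 2097152 tw γ hfree htw q0 words 231 hw steps927 1390500 248832 231 1392000 248832 231 h27 chk927
  have h29 := checkSteps_sound (nadd NN) (List.replicate 0 0) neq F Ev 6 2097152 tw γ hfree htw q0 words 231 hw steps928 1392000 248832 231 1393500 248832 231 h28 chk928
  have h30 := checkSteps_sound (nadd NN) (List.replicate 0 0) neq F Ev 6 2097152 tw γ hfree htw q0 words 231 hw steps929 1393500 248832 231 1395000 248832 231 h29 chk929
  have h31 := checkSteps_sound (nadd NN) (List.replicate 0 0) neq F Ev 6 2097152 tw γ hfree htw q0 words 231 hw steps930 1395000 248832 231 1396500 248832 231 h30 chk930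
  have h32 := checkSteps_sound (nadd NN) (List.replicate 0 0) neq F Ev 6 2097152 tw γ hfree htw q0 words 231 hw steps931 1396500 248832 231 1398000 248832 231 h31 chk931
  have h33 := checkSteps_sound (nadd NN) (List.replicate 0 0) neq F Ev 6 2097152 tw γ hfree htw q0 words 231 hw steps932 1398000 248832 231 1399500 248832 231 h32 chk932
  have h34 := checkSteps_sound (nadd NN) (List.replicate 0 0) neq F Ev 6 2097152 tw γ hfree htw q0 words 231 hw steps933 1399500 248832 231 1401000 248832 231 h33 chk933
  have h35 := checkSteps_sound (nadd NN) (List.replicate 0 0) neq F Ev 6 2097152 tw γ hfree htw q0 words 231 hw steps934 1401000 248832 231 1402500 248832 231 h34 chk934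
  have h36 := checkSteps_sound (nadd NN) (List.replicate 0 0) neq F Ev 6 2097152 tw γ hfree htw q0 words 231 hw steps935 1402500 248832 231 1404000 248832 231 h35 chk935
  have h37 := checkSteps_sound (nadd NN) (List.replicate 0 0) neq F Ev 6 2097152 tw γ hfree htw q0 words 231 hw steps936 1404000 248832 231 1405500 248832 231 h36 chk936
  have h38 := checkSteps_sound (nadd NN) (List.replicate 0 0) neq F Ev 6 2097152 tw γ hfree htw q0 words 231 hw steps937 1405500 248832 231 1407000 248832 231 h37 chk937
  have h39 := checkSteps_sound (nadd NN) (List.replicate 0 0) neq F Ev 6 2097152 tw γ hfree htw q0 words 231 hw steps938 1407000 248832 231 1408500 248832 231 h38 chk938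
  have h40 := checkSteps_sound (nadd NN) (List.replicate 0 0) neq F Ev 6 2097152 tw γ hfree htw q0 words 231 hw steps939 1408500 248832 231 1410000 248832 231 h39 chk939
  have h41 := checkSteps_sound (nadd NN) (List.replicate 0 0) neq F Ev 6 2097152 tw γ hfree htw q0 words 231 hw steps940 1410000 248832 231 1411500 248832 231 h40 chk940
  have h42 := checkSteps_sound (nadd NN) (List.replicate 0 0) neq F Ev 6 2097152 tw γ hfree htw q0 words 231 hw steps941 1411500 248832 231 1413000 248832 231 h41 chk941
  have h43 := checkSteps_sound (nadd NN) (List.replicate 0 0) neq F Ev 6 2097152 tw γ hfree htw q0 words 231 hw steps942 1413000 248832 231 1414500 248832 231 h42 chk942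
  have h44 := checkSteps_sound (nadd NN) (List.replicate 0 0) neq F Ev 6 2097152 tw γ hfree htw q0 words 231 hw steps943 1414500 248832 231 1416000 248832 231 h43 chk943
  have h45 := checkSteps_sound (nadd NN) (List.replicate 0 0) neq F Ev 6 2097152 tw γ hfree htw q0 words 231 hw steps944 1416000 248832 231 1417500 248832 231 h44 chk944
  have h46 := checkSteps_sound (nadd NN) (List.replicate 0 0) neq F Ev 6 2097152 tw γ hfree htw q0 words 231 hw steps945 1417500 248832 231 1419000 248832 231 h45 chk945
  have h47 := checkSteps_sound (nadd NN) (List.replicate 0 0) neq F Ev 6 2097152 tw γ hfree htw q0 words 231 hw steps946 1419000 248832 231 1420500 248832 231 h46 chk946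
  have h48 := checkSteps_sound (nadd NN) (List.replicate 0 0) neq F Ev 6 2097152 tw γ hfree htw q0 words 231 hw steps947 1420500 248832 231 1422000 248832 231 h47 chk947
  have h49 := checkSteps_sound (nadd NN) (List.replicate 0 0) neq F Ev 6 2097152 tw γ hfree htw q0 words 231 hw steps948 1422000 248832 231 1423500 248832 231 h48 chk948
  have h50 := checkSteps_sound (nadd NN) (List.replicate 0 0) neq F Ev 6 2097152 tw γ hfree htw q0 words 231 hw steps949 1423500 248832 231 1425000 248832 231 h49 chk949
  have h51 := checkSteps_sound (nadd NN) (List.replicate 0 0) neq F Ev 6 2097152 tw γ hfree htw q0 words 231 hw steps950 1425000 248832 231 1426500 248832 231 h50 chk950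
  have h52 := checkSteps_sound (nadd NN) (List.replicate 0 0) neq F Ev 6 2097152 tw γ hfree htw q0 words 231 hw steps951 1426500 248832 231 1428000 248832 231 h51 chk951
  have h53 := checkSteps_sound (nadd NN) (List.replicate 0 0) neq F Ev 6 2097152 tw γ hfree htw q0 words 231 hw steps952 1428000 248832 231 1429500 248832 231 h52 chk952
  have h54 := checkSteps_sound (nadd NN) (List.replicate 0 0) neq F Ev 6 2097152 tw γ hfree htw q0 words 231 hw steps953 1429500 248832 231 1431000 248832 231 h53 chk953
  have h55 := checkSteps_sound (nadd NN) (List.replicate 0 0) neq F Ev 6 2097152 tw γ hfree htw q0 words 231 hw steps954 1431000 248832 231 1432500 248832 231 h54 chk954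
  have h56 := checkSteps_sound (nadd NN) (List.replicate 0 0) neq F Ev 6 2097152 tw γ hfree htw q0 words 231 hw steps955 1432500 248832 231 1434000 248832 231 h55 chk955
  have h57 := checkSteps_sound (nadd NN) (List.replicate 0 0) neq F Ev 6 2097152 tw γ hfree htw q0 words 231 hw steps956 1434000 248832 231 1435500 248832 231 h56 chk956
  have h58 := checkSteps_sound (nadd NN) (List.replicate 0 0) neq F Ev 6 2097152 tw γ hfree htw q0 words 231 hw steps957 1435500 248832 231 1437000 248832 231 h57 chk957
  have h59 := checkSteps_sound (nadd NN) (List.replicate 0 0) neq F Ev 6 2097152 tw γ hfree htw q0 words 231 hw steps958 1437000 248832 231 1438500 248832 231 h58 chk958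
  have h60 := checkSteps_sound (nadd NN) (List.replicate 0 0) neq F Ev 6 2097152 tw γ hfree htw q0 words 231 hw steps959 1438500 248832 231 1440000 248832 231 h59 chk959
  have h61 := checkSteps_sound (nadd NN) (List.replicate 0 0) neq F Ev 6 2097152 tw γ hfree htw q0 words 231 hw steps960 1440000 248832 231 1441500 248832 231 h60 chk960
  have h62 := checkSteps_sound (nadd NN) (List.replicate 0 0) neq F Ev 6 2097152 tw γ hfree htw q0 words 231 hw steps961 1441500 248832 231 1443000 248832 231 h61 chk961
  have h63 := checkSteps_sound (nadd NN) (List.replicate 0 0) neq F Ev 6 2097152 tw γ hfree htw q0 words 231 hw steps962 1443000 248832 231 1444500 248832 231 h62 chk962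
  have h64 := checkSteps_sound (nadd NN) (List.replicate 0 0) neq F Ev 6 2097152 tw γ hfree htw q0 words 231 hw steps963 1444500 248832 231 1446000 248832 231 h63 chk963
  have h65 := checkSteps_sound (nadd NN) (List.replicate 0 0) neq F Ev 6 2097152 tw γ hfree htw q0 words 231 hw steps964 1446000 248832 231 1447500 248832 231 h64 chk964
  have h66 := checkSteps_sound (nadd NN) (List.replicate 0 0) neq F Ev 6 2097152 tw γ hfree htw q0 words 231 hw steps965 1447500 248832 231 1449000 248832 231 h65 chk965
  have h67 := checkSteps_sound (nadd NN) (List.replicate 0 0) neq F Ev 6 2097152 tw γ hfree htw q0 words 231 hw steps966 1449000 248832 231 1450500 248832 231 h66 chk966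
  have h68 := checkSteps_sound (nadd NN) (List.replicate 0 0) neq F Ev 6 2097152 tw γ hfree htw q0 words 231 hw steps967 1450500 248832 231 1452000 248832 231 h67 chk967
  have h69 := checkSteps_sound (nadd NN) (List.replicate 0 0) neq F Ev 6 2097152 tw γ hfree htw q0 words 231 hw steps968 1452000 248832 231 1453500 248832 231 h68 chk968
  have h70 := checkSteps_sound (nadd NN) (List.replicate 0 0) neq F Ev 6 2097152 tw γ hfree htw q0 words 231 hw steps969 1453500 248832 231 1455000 248832 231 h69 chk969
  have h71 := checkSteps_sound (nadd NN) (List.replicate 0 0) neq F Ev 6 2097152 tw γ hfree htw q0 words 231 hw steps970 1455000 248832 231 1456500 248832 231 h70 chk970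
  have h72 := checkSteps_sound (nadd NN) (List.replicate 0 0) neq F Ev 6 2097152 tw γ hfree htw q0 words 231 hw steps971 1456500 248832 231 1458000 248832 231 h71 chk971
  have h73 := checkSteps_sound (nadd NN) (List.replicate 0 0) neq F Ev 6 2097152 tw γ hfree htw q0 words 231 hw steps972 1458000 248832 231 1459500 248832 231 h72 chk972
  have h74 := checkSteps_sound (nadd NN) (List.replicate 0 0) neq F Ev 6 2097152 tw γ hfree htw q0 words 231 hw steps973 1459500 248832 231 1461000 248832 231 h73 chk973
  have h75 := checkSteps_sound (nadd NN) (List.replicate 0 0) neq F Ev 6 2097152 tw γ hfree htw q0 words 231 hw steps974 1461000 248832 231 1462500 248832 231 h74 chk974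
  have h76 := checkSteps_sound (nadd NN) (List.replicate 0 0) neq F Ev 6 2097152 tw γ hfree htw q0 words 231 hw steps975 1462500 248832 231 1464000 248832 231 h75 chk975
  have h77 := checkSteps_sound (nadd NN) (List.replicate 0 0) neq F Ev 6 2097152 tw γ hfree htw q0 words 231 hw steps976 1464000 248832 231 1465500 248832 231 h76 chk976
  have h78 := checkSteps_sound (nadd NN) (List.replicate 0 0) neq F Ev 6 2097152 tw γ hfree htw q0 words 231 hw steps977 1465500 248832 231 1467000 248832 231 h77 chk977
  have h79 := checkSteps_sound (nadd NN) (List.replicate 0 0) neq F Ev 6 2097152 tw γ hfree htw q0 words 231 hw steps978 1467000 248832 231 1468500 248832 231 h78 chk978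
  have h80 := checkSteps_sound (nadd NN) (List.replicate 0 0) neq F Ev 6 2097152 tw γ hfree htw q0 words 231 hw steps979 1468500 248832 231 1470000 248832 231 h79 chk979
  have h81 := checkSteps_sound (nadd NN) (List.replicate 0 0) neq F Ev 6 2097152 tw γ hfree htw q0 words 231 hw steps980 1470000 248832 231 1471500 248832 231 h80 chk980
  have h82 := checkSteps_sound (nadd NN) (List.replicate 0 0) neq F Ev 6 2097152 tw γ hfree htw q0 words 231 hw steps981 1471500 248832 231 1473000 248832 231 h81 chk981
  have h83 := checkSteps_sound (nadd NN) (List.replicate 0 0) neq F Ev 6 2097152 tw γ hfree htw q0 words 231 hw steps982 1473000 248832 231 1474500 248832 231 h82 chk982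
  have h84 := checkSteps_sound (nadd NN) (List.replicate 0 0) neq F Ev 6 2097152 tw γ hfree htw q0 words 231 hw steps983 1474500 248832 231 1476000 248832 231 h83 chk983
  have h85 := checkSteps_sound (nadd NN) (List.replicate 0 0) neq F Ev 6 2097152 tw γ hfree htw q0 words 231 hw steps984 1476000 248832 231 1477500 248832 231 h84 chk984
  have h86 := checkSteps_sound (nadd NN) (List.replicate 0 0) neq F Ev 6 2097152 tw γ hfree htw q0 words 231 hw steps985 1477500 248832 231 1479000 248832 231 h85 chk985
  have h87 := checkSteps_sound (nadd NN) (List.replicate 0 0) neq F Ev 6 2097152 tw γ hfree htw q0 words 231 hw steps986 1479000 248832 231 1480500 248832 231 h86 chk986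
  have h88 := checkSteps_sound (nadd NN) (List.replicate 0 0) neq F Ev 6 2097152 tw γ hfree htw q0 words 231 hw steps987 1480500 248832 231 1482000 248832 231 h87 chk987
  have h89 := checkSteps_sound (nadd NN) (List.replicate 0 0) neq F Ev 6 2097152 tw γ hfree htw q0 words 231 hw steps988 1482000 248832 231 1483500 248832 231 h88 chk988
  have h90 := checkSteps_sound (nadd NN) (List.replicate 0 0) neq F Ev 6 2097152 tw γ hfree htw q0 words 231 hw steps989 1483500 248832 231 1485000 248832 231 h89 chk989
  have h91 := checkSteps_sound (nadd NN) (List.replicate 0 0) neq F Ev 6 2097152 tw γ hfree htw q0 words 231 hw steps990 1485000 248832 231 1486500 248832 231 h90 chk990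
  have h92 := checkSteps_sound (nadd NN) (List.replicate 0 0) neq F Ev 6 2097152 tw γ hfree htw q0 words 231 hw steps991 1486500 248832 231 1488000 248832 231 h91 chk991
  have h93 := checkSteps_sound (nadd NN) (List.replicate 0 0) neq F Ev 6 2097152 tw γ hfree htw q0 words 231 hw steps992 1488000 248832 231 1489500 248832 231 h92 chk992
  have h94 := checkSteps_sound (nadd NN) (List.replicate 0 0) neq F Ev 6 2097152 tw γ hfree htw q0 words 231 hw steps993 1489500 248832 231 1491000 248832 231 h93 chk993
  have h95 := checkSteps_sound (nadd NN) (List.replicate 0 0) neq F Ev 6 2097152 tw γ hfree htw q0 words 231 hw steps994 1491000 248832 231 1492500 248832 231 h94 chk994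
  have h96 := checkSteps_sound (nadd NN) (List.replicate 0 0) neq F Ev 6 2097152 tw γ hfree htw q0 words 231 hw steps995 1492500 248832 231 1492992 248832 231 h95 chk995
  exact h96

end Cfsg.Agent.Lib.H16.U62M.P2
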